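import Mathlib
import Cfsg.Prelude.Def_GeometricClasses
import Cfsg.Agent.Lib.Helper99.AschDefs
import Cfsg.Agent.Lib.Helper39.AschBurnside
import Cfsg.Agent.Lib.Helper54.SkolemNoether

set_option autoImplicit false

namespace Cfsg.Agent.Lib.Helper83.AschDescent

open Module

variable {K F : Type*} [Field K] [Field F] [Algebra K F]
variable {ι : Type} [Fintype ι] [DecidableEq ι]

/-- A matrix whose trace pairing with every matrix vanishes is zero. -/
theorem eq_zero_of_trace_mul (a : Matrix ι ι F)
    (h : ∀ X : Matrix ι ι F, Matrix.trace (a * X) = 0) : a = 0 := by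
  ext i j
  have := h (Matrix.single j i 1)
  rw [Matrix.trace_mul_single] at this
  simpa using this

/-- the hypotheses on the `K`-form `A` of the matrix algebra -/
structure IsForm (A : Subalgebra K (Matrix ι ι F)) : Prop where
  span : Submodule.span F (A : Set (Matrix ι ι F)) = ⊤
  tr : ∀ a ∈ A, Matrix.trace a ∈ Set.range (algebraMap K F)

variable {A : Subalgebra K (Matrix ι ι F)}

theorem IsForm.ext_on (hA : IsForm A) {M : Type*} [AddCommMonoid M] [Module F M]
    (f g : Matrix ι ι F →ₗ[F] M) (h : ∀ a ∈ A, f a = g a) : f = g :=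
  LinearMap.ext_on hA.span h

theorem IsForm.eq_zero_of_trace (hA : IsForm A) (a : Matrix ι ι F)
    (h : ∀ b ∈ A, Matrix.trace (a * b) = 0) : a = 0 := by
  apply eq_zero_of_trace_mul
  have : (Matrix.traceLinearMap ι F F) ∘ₗ (LinearMap.mulLeft F a) = 0 :=
    hA.ext_on _ _ (fun b hb => by simpa using h b hb)
  intro X
  have := LinearMap.congr_fun this X
  simpa using this

/-- the `K`-valued trace on `A` -/
noncomputable def trK (hA : IsForm A) : A →ₗ[K] K where
  toFun a := Classical.choose (hA.tr a a.2)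
  map_add' a b := by
    apply (algebraMap K F).injective
    rw [map_add, Classical.choose_spec (hA.tr a a.2), Classical.choose_spec (hA.tr b b.2),
      Classical.choose_spec (hA.tr (a + b) (a + b).2)]
    simp [Matrix.trace_add]
  map_smul' k a := by
    apply (algebraMap K F).injective
    rw [RingHom.id_apply, smul_eq_mul, map_mul, Classical.choose_spec (hA.tr a a.2),
      Classical.choose_spec (hA.tr (k • a) (k • a).2)]
    rw [algebra_compatible_smul F k (a : Matrix ι ι F), Matrix.trace_smul, smul_eq_mul]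

theorem trK_spec (hA : IsForm A) (a : A) :
    algebraMap K F (trK hA a) = Matrix.trace (a : Matrix ι ι F) :=
  Classical.choose_spec (hA.tr a a.2)

/-- the trace pairing -/
noncomputable def pairing (hA : IsForm A) : A →ₗ[K] Dual K A :=
  (LinearMap.mul K A).compr₂ (trK hA)

theorem pairing_apply (hA : IsForm A) (a b : A) : pairing hA a b = trK hA (a * b) := rfl

theorem pairing_injective (hA : IsForm A) : Function.Injective (pairing hA) := by
  rw [← LinearMap.ker_eq_bot, LinearMap.ker_eq_bot']
  intro a ha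
  have : (a : Matrix ι ι F) = 0 := by
    apply hA.eq_zero_of_trace
    intro b hb
    have h1 := LinearMap.congr_fun ha ⟨b, hb⟩
    rw [pairing_apply] at h1
    have h2 := trK_spec hA (a * ⟨b, hb⟩)
    rw [h1] at h2
    simpa using h2.symm
  exact Subtype.ext this

section finite

variable [Finite F]

include A in
theorem finite_K (hA : IsForm A) : Finite K := by
  have _ := hA
  exact Finite.of_injective (algebraMap K F) (algebraMap K F).injective

instance instFiniteA : Finite A := Subtype.finite

instance instModFinA : Module.Finite K A := Module.Finite.of_finite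

theorem pairing_surjective (hA : IsForm A) : Function.Surjective (pairing hA) :=
  (LinearMap.injective_iff_surjective_of_finrank_eq_finrank
    (Subspace.dual_finrank_eq (K := K) (V := A)).symm).mp (pairing_injective hA)

/-- A `K`-basis of `A` is an `F`-basis of the matrix algebra. -/
theorem exists_basis (hA : IsForm A) :
    ∃ (b : Basis (Fin (finrank K A)) K A) (bF : Basis (Fin (finrank K A)) F (Matrix ι ι F)),
      ∀ i, bF i = (b i : Matrix ι ι F) := by
  classical
  let b := finBasis K A
  have hy : ∀ j, ∃ y : A, pairing hA y = b.coord j := fun j => pairing_surjective hA _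
  choose y hy using hy
  have htr : ∀ i j, Matrix.trace ((y j : Matrix ι ι F) * (b i : Matrix ι ι F)) =
      if i = j then 1 else 0 := by
    intro i j
    have h1 : pairing hA (y j) (b i) = b.coord j (b i) := by rw [hy]
    rw [pairing_apply] at h1
    have h2 := trK_spec hA (y j * b i)
    rw [h1] at h2
    rw [Subalgebra.coe_mul] at h2
    rw [← h2]
    simp only [Basis.coord_apply, Basis.repr_self]
    rw [Finsupp.single_apply]
    split_ifs <;> simp
  have hli : LinearIndependent F (fun i => (b i : Matrix ι ι F)) := by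
    rw [Fintype.linearIndependent_iff]
    intro g hg j
    have h1 : Matrix.trace ((y j : Matrix ι ι F) * ∑ i, g i • (b i : Matrix ι ι F)) = 0 := by
      rw [hg]; simp
    rw [Finset.mul_sum, Matrix.trace_sum] at h1
    simp only [Matrix.mul_smul, Matrix.trace_smul, htr, smul_eq_mul, mul_ite, mul_one, mul_zero,
      Finset.sum_ite_eq', Finset.mem_univ, if_true] at h1
    exact h1
  have hsp : ⊤ ≤ Submodule.span F (Set.range (fun i => (b i : Matrix ι ι F))) := by
    rw [← hA.span, Submodule.span_le]
    intro a ha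
    have h1 := b.sum_repr ⟨a, ha⟩
    have h2 : a = ∑ i, (algebraMap K F (b.repr ⟨a, ha⟩ i)) • (b i : Matrix ι ι F) := by
      have := congrArg (Subtype.val) h1
      simp only [AddSubmonoidClass.coe_finsetSum, Subalgebra.coe_smul] at this
      refine this.symm.trans ?_
      refine Finset.sum_congr rfl (fun i _ => ?_)
      rw [algebra_compatible_smul F]
    rw [h2]
    exact Submodule.sum_mem _ (fun i _ => Submodule.smul_mem _ _ (Submodule.subset_span ⟨i, rfl⟩))
  exact ⟨b, Basis.mk hli hsp, fun i => by simp⟩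

theorem finrank_eq (hA : IsForm A) : finrank K A = Fintype.card ι * Fintype.card ι := by
  obtain ⟨b, bF, -⟩ := exists_basis hA
  have h1 := Module.finrank_eq_card_basis bF
  rw [Module.finrank_matrix, Module.finrank_self, mul_one, Fintype.card_fin] at h1
  exact h1.symm

omit [Finite F] in
theorem nontrivial_A [Nonempty ι] : Nontrivial A :=
  ⟨⟨0, 1, fun h => by
    have h1 := congrArg Subtype.val h
    simp only [ZeroMemClass.coe_zero, OneMemClass.coe_one] at h1
    exact zero_ne_one h1⟩⟩

theorem isSimpleRing [Nonempty ι] (hA : IsForm A) : IsSimpleRing A := by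
  rw [isSimpleRing_iff_isTwoSided_imp]
  refine ⟨nontrivial_A, fun I hI => ?_⟩
  by_cases hbot : I = ⊥
  · exact Or.inl hbot
  right
  rw [Ideal.eq_top_iff_one]
  by_contra h1
  obtain ⟨x, hxI, hx0⟩ : ∃ x ∈ I, x ≠ 0 := by
    by_contra hcon
    push Not at hcon
    exact hbot ((Submodule.eq_bot_iff I).mpr hcon)
  let p : Submodule K A := I.restrictScalars K
  have hp : (1 : A) ∉ p := h1
  obtain ⟨f, hf1, hfp⟩ := Submodule.exists_dual_map_eq_bot_of_notMem hp inferInstance
  obtain ⟨y, hy⟩ := pairing_surjective hA f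
  have hya : ∀ a ∈ I, (y : Matrix ι ι F) * (a : Matrix ι ι F) = 0 := by
    intro a ha
    apply hA.eq_zero_of_trace
    intro c hc
    have hac : a * ⟨c, hc⟩ ∈ I := I.mul_mem_right _ ha
    have h2 : f (a * ⟨c, hc⟩) = 0 := by
      have h3 : f (a * ⟨c, hc⟩) ∈ p.map f := Submodule.mem_map_of_mem hac
      rw [hfp] at h3
      simpa using h3
    rw [← hy, pairing_apply] at h2
    have h4 := trK_spec hA (y * (a * ⟨c, hc⟩))
    rw [h2, map_zero] at h4
    rw [mul_assoc]
    exact h4.symm
  have hyPxQ : ∀ P Q : Matrix ι ι F, (y : Matrix ι ι F) * P * x * Q = 0 := by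
    have h0 : ∀ P ∈ A, ∀ Q ∈ A, (y : Matrix ι ι F) * P * x * Q = 0 := by
      intro P hP Q hQ
      have h5 : (⟨P, hP⟩ : A) * x * ⟨Q, hQ⟩ ∈ I := I.mul_mem_right _ (I.mul_mem_left _ hxI)
      have h6 := hya _ h5
      simpa [mul_assoc] using h6
    have h1 : ∀ P ∈ A, ∀ Q, (y : Matrix ι ι F) * P * x * Q = 0 := by
      intro P hP Q
      have h7 := hA.ext_on (LinearMap.mulLeft F ((y : Matrix ι ι F) * P * x)) 0
        (fun Q hQ => by
          simp only [LinearMap.mulLeft_apply, LinearMap.zero_apply]
          exact h0 P hP Q hQ)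
      have h7' := LinearMap.congr_fun h7 Q
      simp only [LinearMap.mulLeft_apply, LinearMap.zero_apply] at h7'
      exact h7' 
    intro P Q
    have h8 := hA.ext_on ((LinearMap.mulRight F ((x : Matrix ι ι F) * Q)) ∘ₗ
      (LinearMap.mulLeft F (y : Matrix ι ι F))) 0
        (fun P hP => by
          simp only [LinearMap.comp_apply, LinearMap.mulLeft_apply, LinearMap.mulRight_apply,
            LinearMap.zero_apply]
          rw [← mul_assoc]
          exact h1 P hP Q)
    have h8' := LinearMap.congr_fun h8 P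
    simp only [LinearMap.comp_apply, LinearMap.mulLeft_apply, LinearMap.mulRight_apply,
      LinearMap.zero_apply] at h8'
    rw [← mul_assoc] at h8'
    exact h8' 
  have hxne : (x : Matrix ι ι F) ≠ 0 := fun h => hx0 (Subtype.ext h)
  obtain ⟨i, j, hij⟩ : ∃ i j, (x : Matrix ι ι F) i j ≠ 0 := by
    by_contra hcon
    push Not at hcon
    exact hxne (Matrix.ext hcon)
  have hsum : ∑ k : ι, Matrix.single k i (1 : F) * (x : Matrix ι ι F) *
      Matrix.single j k ((x : Matrix ι ι F) i j)⁻¹ = (1 : Matrix ι ι F) := by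
    simp only [Matrix.single_mul_mul_single, one_mul, mul_inv_cancel₀ hij]
    exact Matrix.sum_single_one
  have hy0 : (y : Matrix ι ι F) = 0 := by
    calc (y : Matrix ι ι F) = y * 1 := (mul_one _).symm
      _ = y * ∑ k : ι, Matrix.single k i (1 : F) * (x : Matrix ι ι F) *
            Matrix.single j k ((x : Matrix ι ι F) i j)⁻¹ := by rw [hsum]
      _ = ∑ k : ι, (y : Matrix ι ι F) * Matrix.single k i (1 : F) * (x : Matrix ι ι F) *
            Matrix.single j k ((x : Matrix ι ι F) i j)⁻¹ := by
          rw [Finset.mul_sum]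
          simp only [mul_assoc]
      _ = 0 := Finset.sum_eq_zero (fun k _ => hyPxQ _ _)
  apply hf1
  rw [← hy, pairing_apply, mul_one]
  have hy' : y = 0 := Subtype.ext hy0
  rw [hy', map_zero]

omit [Finite F] in
/-- central elements of `A` are `K`-scalars -/
theorem central_mem_range [Nonempty ι] (hA : IsForm A) (z : A) (hz : ∀ a : A, z * a = a * z) :
    ∃ k : K, z = algebraMap K A k := by
  classical
  -- z commutes with all matrices
  have hcomm : ∀ X : Matrix ι ι F, (z : Matrix ι ι F) * X = X * z := by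
    intro X
    have h1 := hA.ext_on (LinearMap.mulLeft F (z : Matrix ι ι F)) (LinearMap.mulRight F (z : Matrix ι ι F))
      (fun a ha => by
        have := congrArg Subtype.val (hz ⟨a, ha⟩)
        simpa using this)
    simpa using LinearMap.congr_fun h1 X
  have hsc : (z : Matrix ι ι F) ∈ Set.range (Matrix.scalar ι) := by
    apply Matrix.mem_range_scalar_of_commute_single
    intro i j _
    exact (hcomm _).symm
  obtain ⟨c, hc⟩ := hsc
  -- some y ∈ A has nonzero trace
  obtain ⟨y, hy⟩ : ∃ y : A, Matrix.trace (y : Matrix ι ι F) ≠ 0 := by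
    by_contra hcon
    push Not at hcon
    have : (1 : Matrix ι ι F) = 0 := hA.eq_zero_of_trace 1 (fun b hb => by
      rw [one_mul]; exact hcon ⟨b, hb⟩)
    exact one_ne_zero this
  have h1 := trK_spec hA (z * y)
  have h2 := trK_spec hA y
  rw [Subalgebra.coe_mul, ← hc] at h1
  have h3 : Matrix.trace (Matrix.scalar ι c * (y : Matrix ι ι F)) = c * Matrix.trace (y : Matrix ι ι F) := by
    rw [Matrix.scalar_apply, ← Matrix.smul_eq_diagonal_mul, Matrix.trace_smul, smul_eq_mul]
  rw [h3, ← h2] at h1
  have hk0 : trK hA y ≠ 0 := by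
    intro h0
    rw [h0, map_zero] at h2
    exact hy h2.symm
  refine ⟨trK hA (z * y) / trK hA y, ?_⟩
  apply Subtype.ext
  rw [← hc, Subalgebra.coe_algebraMap]
  have hc' : c = algebraMap K F (trK hA (z * y) / trK hA y) := by
    rw [map_div₀, h1]
    field_simp [((algebraMap K F).injective.ne_iff' (map_zero _)).mpr hk0]
  rw [hc', IsScalarTower.algebraMap_apply K F (Matrix ι ι F)]
  rfl

theorem exists_algEquiv_matrix [Nonempty ι] (hA : IsForm A) :
    Nonempty (A ≃ₐ[K] Matrix ι ι K) := by
  classical
  have := isSimpleRing hA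
  have : IsArtinianRing A := IsArtinianRing.of_finite K A
  obtain ⟨m, hm, D, hD, hDalg, hDfin, ⟨e⟩⟩ :=
    IsSimpleRing.exists_algEquiv_matrix_divisionRing_finite K A
  have := finite_K hA
  have : Finite D := Module.finite_of_finite K
  have hcomm : ∀ a b : D, a * b = b * a := by
    intro a b
    let _ := littleWedderburn D
    exact mul_comm a b
  have hsurj : Function.Surjective (algebraMap K D) := by
    intro d
    have hcen : ∀ M : Matrix (Fin m) (Fin m) D,
        Matrix.scalar (Fin m) d * M = M * Matrix.scalar (Fin m) d :=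
      fun M => (Matrix.scalar_commute d (fun r' => hcomm d r') M).eq
    obtain ⟨k, hk⟩ := central_mem_range hA (e.symm (Matrix.scalar (Fin m) d)) (fun a => by
      apply e.injective
      rw [map_mul, map_mul, AlgEquiv.apply_symm_apply]
      exact hcen _)
    refine ⟨k, ?_⟩
    have h1 : e (e.symm (Matrix.scalar (Fin m) d)) = e (algebraMap K A k) := by rw [hk]
    rw [AlgEquiv.apply_symm_apply, AlgEquiv.commutes] at h1
    have h2 := congrFun (congrFun h1 0) 0
    simpa [Matrix.algebraMap_matrix_apply] using h2.symm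
  let g : K ≃ₐ[K] D :=
    AlgEquiv.ofBijective (Algebra.ofId K D) ⟨(algebraMap K D).injective, hsurj⟩
  let e1 : A ≃ₐ[K] Matrix (Fin m) (Fin m) K := e.trans (AlgEquiv.mapMatrix g.symm)
  have hdim : m * m = Fintype.card ι * Fintype.card ι := by
    have h1 := e1.toLinearEquiv.finrank_eq
    rw [finrank_eq hA, Module.finrank_matrix, Module.finrank_self, mul_one, Fintype.card_fin] at h1
    exact h1.symm
  have hm' : m = Fintype.card ι := Nat.mul_self_inj.mp hdim
  let idx : Fin m ≃ ι := (Fintype.equivFinOfCardEq hm'.symm).symm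
  exact ⟨e1.trans (Matrix.reindexAlgEquiv K K idx)⟩

theorem exists_conj (hA : IsForm A) :
    ∃ T : (Matrix ι ι F)ˣ, ∀ a ∈ A, ∀ i j,
      ((T : Matrix ι ι F) * a * ((T⁻¹ : (Matrix ι ι F)ˣ) : Matrix ι ι F)) i j ∈
        Set.range (algebraMap K F) := by
  classical
  rcases isEmpty_or_nonempty ι with hι | hι
  · exact ⟨1, fun a _ i => (IsEmpty.false i).elim⟩
  obtain ⟨e'⟩ := exists_algEquiv_matrix hA
  obtain ⟨b, bF, hb⟩ := exists_basis hA
  let g : A →ₐ[K] Matrix ι ι F := (AlgHom.mapMatrix (Algebra.ofId K F)).comp e'.toAlgHom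
  let Θ : Matrix ι ι F →ₗ[F] Matrix ι ι F := bF.constr F (fun i => g (b i))
  have hΘ : ∀ a : A, Θ a = g a := by
    intro a
    have h1 : (Θ.restrictScalars K) ∘ₗ A.val.toLinearMap = g.toLinearMap := by
      apply b.ext
      intro i
      simp only [LinearMap.comp_apply, LinearMap.restrictScalars_apply, AlgHom.toLinearMap_apply,
        Subalgebra.coe_val]
      rw [← hb i, Basis.constr_basis]
    exact LinearMap.congr_fun h1 a
  have hΘ1 : Θ 1 = 1 := by
    have h := hΘ 1
    rw [map_one] at h
    exact h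
  have hΘmul : ∀ X Y, Θ (X * Y) = Θ X * Θ Y := by
    have h0 : ∀ a ∈ A, ∀ c ∈ A, Θ (a * c) = Θ a * Θ c := by
      intro a ha c hc
      have h1 := hΘ (⟨a, ha⟩ * ⟨c, hc⟩)
      rw [map_mul, ← hΘ, ← hΘ] at h1
      exact h1
    have h1 : ∀ a ∈ A, ∀ Y, Θ (a * Y) = Θ a * Θ Y := by
      intro a ha Y
      have h2 := hA.ext_on (Θ ∘ₗ LinearMap.mulLeft F a) (LinearMap.mulLeft F (Θ a) ∘ₗ Θ)
        (fun c hc => by
          simp only [LinearMap.comp_apply, LinearMap.mulLeft_apply]
          exact h0 a ha c hc)
      have h3 := LinearMap.congr_fun h2 Y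
      simp only [LinearMap.comp_apply, LinearMap.mulLeft_apply] at h3
      exact h3
    intro X Y
    have h2 := hA.ext_on (Θ ∘ₗ LinearMap.mulRight F Y) (LinearMap.mulRight F (Θ Y) ∘ₗ Θ)
      (fun a ha => by
        simp only [LinearMap.comp_apply, LinearMap.mulRight_apply]
        exact h1 a ha Y)
    have h3 := LinearMap.congr_fun h2 X
    simp only [LinearMap.comp_apply, LinearMap.mulRight_apply] at h3
    exact h3
  let Φ : Matrix ι ι F →ₐ[F] Matrix ι ι F := AlgHom.ofLinearMap Θ hΘ1 hΘmul
  obtain ⟨T, hT⟩ := Cfsg.Agent.Lib.Helper54.SkolemNoether.exists_conj_of_algHom Φ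
  refine ⟨T, fun a ha i j => ?_⟩
  rw [← hT a]
  change Θ a i j ∈ _
  rw [hΘ ⟨a, ha⟩]
  exact ⟨e' ⟨a, ha⟩ i j, rfl⟩

end finite

end Cfsg.Agent.Lib.Helper83.AschDescent

namespace Cfsg.Agent.Lib.Helper99.Asch

open Cfsg Cfsg.Geo
open scoped MatrixGroups Matrix Kronecker
open Cfsg.Agent.Lib.Helper83.AschDescent

/-- ASCH-[DESCENT]: an absolutely irreducible group all of whose traces lie in the subfield `F₀` is realisable
over `F₀`. -/
theorem realisable_of_trace_mem {n : ℕ} {F : Type*} [Field F] [Fintype F]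
    (S : Subgroup (GL (Fin n) F))
    (hS : ActsAbsolutelyIrreducibly (matrixSet S)) (F₀ : Subfield F)
    (htr : ∀ x ∈ S, Matrix.trace (x : Matrix (Fin n) (Fin n) F) ∈ F₀) :
    RealisableOver F₀ (matrixSet S) := by
  classical
  -- the monoid of matrices of `S`
  let Mon : Submonoid (Matrix (Fin n) (Fin n) F) :=
    S.toSubmonoid.map (Units.coeHom (Matrix (Fin n) (Fin n) F))
  have hMon : (Mon : Set (Matrix (Fin n) (Fin n) F)) = matrixSet S := by
    ext M
    simp only [Mon, Submonoid.coe_map, Set.mem_image, matrixSet]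
    rfl
  let A : Subalgebra F₀ (Matrix (Fin n) (Fin n) F) := Algebra.adjoin F₀ (matrixSet S)
  have hAsub : Subalgebra.toSubmodule A = Submodule.span F₀ (matrixSet S) := by
    have h1 := Algebra.adjoin_eq_span F₀ (matrixSet S)
    rw [← hMon, Submonoid.closure_eq, hMon] at h1
    exact h1
  have hA : IsForm A := by
    refine ⟨?_, ?_⟩
    · rw [eq_top_iff, ← span_eq_top_of_absIrred S hS]
      exact Submodule.span_mono Algebra.subset_adjoin
    · intro a ha
      have ha' : a ∈ Submodule.span F₀ (matrixSet S) := by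
        rw [← hAsub]; exact ha
      refine Submodule.span_induction ?_ ?_ ?_ ?_ ha'
      · rintro x ⟨g, hg, rfl⟩
        exact ⟨⟨_, htr g hg⟩, rfl⟩
      · exact ⟨0, by simp⟩
      · rintro x y _ _ ⟨kx, hx⟩ ⟨ky, hy⟩
        exact ⟨kx + ky, by rw [map_add, hx, hy, Matrix.trace_add]⟩
      · rintro k x _ ⟨kx, hx⟩
        refine ⟨k * kx, ?_⟩
        rw [map_mul, hx, algebra_compatible_smul F k x, Matrix.trace_smul, smul_eq_mul]
  obtain ⟨T, hT⟩ := exists_conj hA
  refine ⟨T, fun s hs i j => ?_⟩
  obtain ⟨k, hk⟩ := hT s (Algebra.subset_adjoin hs) i j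
  rw [← hk]
  exact k.2

end Cfsg.Agent.Lib.Helper99.Asch
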