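/-
helper83: module ASCHO-[NDESC] of helper5's project ASCHO (S5673): an absolutely irreducible subgroup `S ≤ H` normalised by `H`
and realisable over a proper subfield puts `H` into a class-5 member (subfield group, the form rational up to a scalar).
-/
import Mathlib
import Cfsg.Prelude.Def_GeometricClasses
import Cfsg.Agent.Lib.Helper99.AschDefs
import Cfsg.Agent.Lib.Helper5.AschODefs
import Cfsg.Agent.Lib.Helper5.AschOBasic
import Cfsg.Agent.Lib.Helper37.Asch.FormKit2
import Cfsg.Agent.Lib.Helper49.AschNDescKey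
import Cfsg.Agent.Lib.Helper84.AschC5

set_option autoImplicit false

namespace Cfsg.Agent.Lib.Helper83.AschONDesc

open Cfsg Cfsg.Geo Cfsg.Agent.Lib.Helper99.Asch Cfsg.Agent.Lib.Helper37.Asch
open scoped MatrixGroups Matrix

variable {ι : Type} [Fintype ι] [DecidableEq ι] {F : Type*} [Field F]

omit [Fintype ι] [DecidableEq ι] in
theorem map_refl (x : Matrix ι ι F) : x.map (RingEquiv.refl F) = x := by
  ext i j
  rfl

/-- **Rationality of an invariant form.**  `P` has scalar commutant and all its matrices have entries in the subfield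
`F₁` of the finite field `F`; `X` is an invertible `P`-invariant Gram matrix with one entry equal to `1`.  Then all
entries of `X` lie in `F₁`. -/
theorem entries_mem_of_invariant [Finite F] (F₁ : Subfield F) (P : Subgroup (GL ι F))
    (hcomm : ∀ M : Matrix ι ι F, (∀ s ∈ matrixSet P, M * s = s * M) →
      ∃ c : F, M = c • (1 : Matrix ι ι F))
    (hent : ∀ x ∈ P, ∀ i j, (x : Matrix ι ι F) i j ∈ F₁)
    (X : Matrix ι ι F) (hX : IsUnit X)
    (hfix : ∀ x ∈ P, (x : Matrix ι ι F)ᵀ * X * (x : Matrix ι ι F) = X)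
    (a b : ι) (hab : X a b = 1) : ∀ i j, X i j ∈ F₁ := by
  have hfixed : ∀ τ : F ≃ₐ[F₁] F, X.map τ = X := by
    intro τ
    have hx : ∀ x ∈ P, (x : Matrix ι ι F).map τ = (x : Matrix ι ι F) := by
      intro x hx
      ext i j
      have : (x : Matrix ι ι F) i j = algebraMap F₁ F ⟨_, hent x hx i j⟩ := rfl
      rw [Matrix.map_apply, this, AlgEquiv.commutes]
    have hfix' : ∀ x ∈ P, (x : Matrix ι ι F)ᵀ * X.map τ *
        ((x : Matrix ι ι F).map (RingEquiv.refl F)) = X.map τ := by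
      intro x hx'
      rw [map_refl]
      have h1 : ((x : Matrix ι ι F)ᵀ * X * (x : Matrix ι ι F)).map τ = X.map τ := by
        rw [hfix x hx']
      rw [Matrix.map_mul, Matrix.map_mul, Matrix.transpose_map, hx x hx'] at h1
      exact h1
    have hfix0 : ∀ x ∈ P, (x : Matrix ι ι F)ᵀ * X *
        ((x : Matrix ι ι F).map (RingEquiv.refl F)) = X := by
      intro x hx'
      rw [map_refl]
      exact hfix x hx'
    obtain ⟨c, hc⟩ := gram_proportional (RingEquiv.refl F) P hcomm X (X.map τ) hX hfix0 hfix'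
    have h2 := congrFun (congrFun hc a) b
    rw [Matrix.map_apply, hab, map_one, Matrix.smul_apply, hab, smul_eq_mul, mul_one] at h2
    rw [hc, ← h2, one_smul]
  intro i j
  have h1 : X i j ∈ Set.range (algebraMap F₁ F) := by
    rw [IsGalois.mem_range_algebraMap_iff_fixed]
    intro τ
    have := congrFun (congrFun (hfixed τ) i) j
    rwa [Matrix.map_apply] at this
  obtain ⟨y, hy⟩ := h1
  rw [← hy]
  exact y.2

end Cfsg.Agent.Lib.Helper83.AschONDesc

namespace Cfsg.Agent.Lib.Helper5.AschO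

open Cfsg Cfsg.Geo Cfsg.Agent.Lib.Helper99.Asch Cfsg.Agent.Lib.Helper37.Asch
open Cfsg.Agent.Lib.Helper49.AschNDesc Cfsg.Agent.Lib.Helper83.AschONDesc
open scoped MatrixGroups Matrix

variable {n : ℕ} {F : Type*} [Field F] [Fintype F]

/-- ASCHO-[NDESC] -/
theorem geoO_of_realisable {Q : (Fin n → F) → F} {H : Subgroup (GL (Fin n) F)} (hS : OSetup Q H)
    (S : Subgroup (GL (Fin n) F)) (hSH : S ≤ H) (hSabs : ActsAbsolutelyIrreducibly (matrixSet S))
    (hnrm : Nrm H S) (F₀ : Subfield F) (hF₀ : F₀ ≠ ⊤) (hreal : RealisableOver F₀ (matrixSet S)) :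
    GeoO Q H := by
  classical
  obtain ⟨B, hB⟩ := hreal
  obtain ⟨F₁, r, hr, hle, hcard⟩ :=
    Cfsg.Agent.Lib.Helper84.AschC5.exists_prime_degree_subfield F₀ hF₀
  have hQ := hS.nondeg
  have h2 : (2 : F) ≠ 0 := two_ne_zero_of_odd_card hS.odd_card
  have hn : 0 < n := by have := hS.three_le; omega
  -- the conjugate `S' = B S B⁻¹` has entries in `F₀`
  have hS'ent : ∀ s ∈ matrixSet (conjSub B S), ∀ i j, s i j ∈ F₀ := by
    intro s hs i j
    obtain ⟨s', hs', rfl⟩ := (mem_matrixSet_conjSub B S s).1 hs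
    exact hB s' hs' i j
  have hspan' := span_conjSub B S (span_eq_top_of_absIrred S hSabs)
  have hcomm' := comm_conjSub B S hSabs.2
  -- group part
  have hHsub : H ≤ subfieldSubgroup F₁ B⁻¹ := by
    intro h hh
    obtain ⟨c, hc⟩ := exists_smul_mem_of_normalizes (conjSub B S) hspan' hcomm' F₀ hS'ent
      (B * h * B⁻¹) (by
        intro y hy
        obtain ⟨x, hx, rfl⟩ := (mem_conjSub B S y).1 hy
        rw [mem_conjSub]
        refine ⟨h * x * h⁻¹, hnrm h hh x hx, ?_⟩
        group)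
    have hmem : B * h * B⁻¹ ∈ Cfsg.Agent.Lib.Helper44.SubF.NGrp F₁ :=
      (Cfsg.Agent.Lib.Helper44.SubF.mem_NGrp_iff _).2 ⟨c, fun i j => hle (hc i j)⟩
    refine ⟨B * h * B⁻¹, hmem, ?_⟩
    show B⁻¹ * (B * h * B⁻¹) * B⁻¹⁻¹ = h
    group
  -- form part
  have hbs := isSesq_of_bilinear hQ.polar_bilinear
  have hGu : IsUnit (gram (QuadraticMap.polar Q)) := hbs.isUnit_gram hQ.nondegenerate
  set G := gram (QuadraticMap.polar Q) with hG
  set Bi : Matrix (Fin n) (Fin n) F := ((B⁻¹ : GL (Fin n) F) : Matrix (Fin n) (Fin n) F) with hBi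
  have hBiB : Bi * (B : Matrix (Fin n) (Fin n) F) = 1 := by
    rw [hBi, ← Units.val_mul, inv_mul_cancel, Units.val_one]
  have hBBi : (B : Matrix (Fin n) (Fin n) F) * Bi = 1 := by
    rw [hBi, ← Units.val_mul, mul_inv_cancel, Units.val_one]
  set G' : Matrix (Fin n) (Fin n) F := Biᵀ * G * Bi with hG'
  have hG'u : IsUnit G' := by
    have hBiu : IsUnit Bi := (B⁻¹).isUnit
    have hBiTu : IsUnit Biᵀ := by
      rw [Matrix.isUnit_iff_isUnit_det, Matrix.det_transpose, ← Matrix.isUnit_iff_isUnit_det]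
      exact hBiu
    exact (hBiTu.mul hGu).mul hBiu
  -- invariance of `G` under `S`
  have hfixG : ∀ x ∈ S, (x : Matrix (Fin n) (Fin n) F)ᵀ * G * (x : Matrix (Fin n) (Fin n) F) = G := by
    intro x hx
    have hxI : x ∈ isometryGroup F Q := hS.le (hSH hx)
    have hxQ := (mem_isometryGroup_iff x).mp hxI
    have h1 := hbs.gram_of_fixes (A := (x : Matrix (Fin n) (Fin n) F)) (fun u v => by
      have := polar_map_of_similarity (x : Matrix (Fin n) (Fin n) F) 1
        (fun v => by rw [one_mul]; exact hxQ v) u v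
      rw [one_mul] at this
      exact this)
    rw [map_refl] at h1
    exact h1
  -- invariance of `G'` under `S'`
  have hfixG' : ∀ y ∈ conjSub B S,
      (y : Matrix (Fin n) (Fin n) F)ᵀ * G' * (y : Matrix (Fin n) (Fin n) F) = G' := by
    intro y hy
    obtain ⟨x, hx, rfl⟩ := (mem_conjSub B S y).1 hy
    have hval : ((B * x * B⁻¹ : GL (Fin n) F) : Matrix (Fin n) (Fin n) F) =
        (B : Matrix (Fin n) (Fin n) F) * (x : Matrix (Fin n) (Fin n) F) * Bi := by
      rw [Units.val_mul, Units.val_mul]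
    have hBT : (B : Matrix (Fin n) (Fin n) F)ᵀ * Biᵀ = 1 := by
      rw [← Matrix.transpose_mul, hBiB, Matrix.transpose_one]
    rw [hval, hG', Matrix.transpose_mul, Matrix.transpose_mul]
    calc Biᵀ * ((x : Matrix (Fin n) (Fin n) F)ᵀ * (B : Matrix (Fin n) (Fin n) F)ᵀ) * (Biᵀ * G * Bi) *
          ((B : Matrix (Fin n) (Fin n) F) * (x : Matrix (Fin n) (Fin n) F) * Bi)
        = Biᵀ * (x : Matrix (Fin n) (Fin n) F)ᵀ * ((B : Matrix (Fin n) (Fin n) F)ᵀ * Biᵀ) * G *
          (Bi * (B : Matrix (Fin n) (Fin n) F)) * (x : Matrix (Fin n) (Fin n) F) * Bi := by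
          simp only [mul_assoc]
      _ = Biᵀ * ((x : Matrix (Fin n) (Fin n) F)ᵀ * G * (x : Matrix (Fin n) (Fin n) F)) * Bi := by
          rw [hBT, hBiB]; simp only [mul_one, mul_assoc]
      _ = Biᵀ * G * Bi := by rw [hfixG x hx]
  -- normalise one entry to `1`
  obtain ⟨a, b, hab⟩ : ∃ a b, G' a b ≠ 0 := by
    by_contra hcon
    push Not at hcon
    have h0 : G' = 0 := by
      ext i j
      exact hcon i j
    rw [h0] at hG'u
    have : Nonempty (Fin n) := ⟨⟨0, hn⟩⟩
    exact not_isUnit_zero hG'u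
  set ζ : F := (G' a b)⁻¹ with hζ
  have hζ0 : ζ ≠ 0 := inv_ne_zero hab
  set X : Matrix (Fin n) (Fin n) F := ζ • G' with hX
  have hXab : X a b = 1 := by
    rw [hX, Matrix.smul_apply, smul_eq_mul, hζ, inv_mul_cancel₀ hab]
  have hXu : IsUnit X := by
    rw [hX, Matrix.isUnit_iff_isUnit_det, Matrix.det_smul]
    exact (IsUnit.mk0 _ (pow_ne_zero _ hζ0)).mul ((Matrix.isUnit_iff_isUnit_det _).mp hG'u)
  have hfixX : ∀ y ∈ conjSub B S,
      (y : Matrix (Fin n) (Fin n) F)ᵀ * X * (y : Matrix (Fin n) (Fin n) F) = X := by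
    intro y hy
    rw [hX, Matrix.mul_smul, Matrix.smul_mul, hfixG' y hy]
  have hXent : ∀ i j, X i j ∈ F₁ :=
    entries_mem_of_invariant F₁ (conjSub B S) hcomm'
      (fun x hx i j => hle (hS'ent _ ⟨x, hx, rfl⟩ i j)) X hXu hfixX a b hXab
  -- the rational structure
  have hrat : IsQuadFormRationalStructure (fun v => ζ * Q v) F₁ B⁻¹ := by
    intro u hu
    show ζ * Q (Bi *ᵥ u) ∈ F₁
    rw [Q_eq_half_polar hQ h2, hbs.apply_mulVec Bi u u, map_refl]
    have h3 : (fun j => (RingEquiv.refl F) (u j)) = u := rfl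
    rw [h3, ← hG']
    have h4 : ζ * (u ⬝ᵥ G' *ᵥ u / 2) = (u ⬝ᵥ X *ᵥ u) / 2 := by
      rw [hX, Matrix.smul_mulVec, dotProduct_smul, smul_eq_mul]
      ring
    rw [h4]
    apply F₁.div_mem
    · simp only [dotProduct, Matrix.mulVec]
      apply F₁.sum_mem
      intro i _
      apply F₁.mul_mem (hu i)
      apply F₁.sum_mem
      intro j _
      exact F₁.mul_mem (hXent i j) (hu j)
    · exact F₁.add_mem F₁.one_mem F₁.one_mem |> fun h => by
        have : (2 : F) = 1 + 1 := by norm_num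
        rw [this]; exact h
  exact GeoO.of_5 hS.le F₁ r B⁻¹ ζ hr hcard hζ0 hrat hHsub

end Cfsg.Agent.Lib.Helper5.AschO
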