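/-
helper83: module ASCHO-[UNIDESC] of helper5's project ASCHO (S5673), shared with ASCHU / ASCHSP:
an absolutely irreducible group fixing a non-degenerate bilinear form and a unitary form is realisable over the fixed field of `σ`.
No Galois descent: all traces lie in the fixed field (`tr x = tr x⁻¹ = σ (tr x)`), then ASCH-[DESCENT].
-/
import Mathlib
import Cfsg.Prelude.Def_GeometricClasses
import Cfsg.Agent.Lib.Helper37.Asch.FormKit
import Cfsg.Agent.Lib.Helper83.AschDescentGen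

set_option autoImplicit false

namespace Cfsg.Agent.Lib.Helper83.AschOUniDesc

open Cfsg Cfsg.Geo Cfsg.Agent.Lib.Helper37.Asch
open scoped MatrixGroups Matrix

variable {ι : Type} [Fintype ι] [DecidableEq ι] {F : Type*} [Field F]

/-- the fixed field of a field automorphism -/
def fixedSubfield (σ : F ≃+* F) : Subfield F where
  carrier := {a | σ a = a}
  mul_mem' := by
    intro a b ha hb
    simp only [Set.mem_ofPred_eq] at *
    rw [map_mul, ha, hb]
  one_mem' := map_one σ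
  add_mem' := by
    intro a b ha hb
    simp only [Set.mem_ofPred_eq] at *
    rw [map_add, ha, hb]
  zero_mem' := map_zero σ
  neg_mem' := by
    intro a ha
    simp only [Set.mem_ofPred_eq] at *
    rw [map_neg, ha]
  inv_mem' := by
    intro a ha
    simp only [Set.mem_ofPred_eq] at *
    rw [map_inv₀, ha]

theorem mem_fixedSubfield (σ : F ≃+* F) (a : F) : a ∈ fixedSubfield σ ↔ σ a = a := Iff.rfl

theorem fixedSubfield_ne_top (σ : F ≃+* F) (hσ : σ ≠ RingEquiv.refl F) : fixedSubfield σ ≠ ⊤ := by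
  intro h
  apply hσ
  ext a
  have : a ∈ fixedSubfield σ := by rw [h]; trivial
  exact this

/-- `xᵀ J σ(x) = J` with `J` invertible gives `tr x = σ (tr x⁻¹)`. -/
theorem trace_eq_of_fix (σ : F ≃+* F) (J : Matrix ι ι F) (hJ : IsUnit J) (x : GL ι F)
    (h : (x : Matrix ι ι F)ᵀ * J * (x : Matrix ι ι F).map σ = J) :
    Matrix.trace (x : Matrix ι ι F) = σ (Matrix.trace ((x⁻¹ : GL ι F) : Matrix ι ι F)) := by
  obtain ⟨Ju, hJu⟩ := hJ
  have hinv : (x : Matrix ι ι F).map σ * ((x⁻¹ : GL ι F) : Matrix ι ι F).map σ = 1 := by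
    rw [← Matrix.map_mul, ← Units.val_mul, mul_inv_cancel, Units.val_one]
    exact Matrix.map_one σ (map_zero σ) (map_one σ)
  -- `xᵀ = J * σ(x⁻¹) * J⁻¹`
  have h1 : (x : Matrix ι ι F)ᵀ = J * ((x⁻¹ : GL ι F) : Matrix ι ι F).map σ * (↑Ju⁻¹ : Matrix ι ι F) := by
    have h2 : (x : Matrix ι ι F)ᵀ * J = J * ((x⁻¹ : GL ι F) : Matrix ι ι F).map σ := by
      calc (x : Matrix ι ι F)ᵀ * J
          = (x : Matrix ι ι F)ᵀ * J * ((x : Matrix ι ι F).map σ *
              ((x⁻¹ : GL ι F) : Matrix ι ι F).map σ) := by rw [hinv, mul_one]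
        _ = ((x : Matrix ι ι F)ᵀ * J * (x : Matrix ι ι F).map σ) *
              ((x⁻¹ : GL ι F) : Matrix ι ι F).map σ := by simp only [mul_assoc]
        _ = J * ((x⁻¹ : GL ι F) : Matrix ι ι F).map σ := by rw [h]
    calc (x : Matrix ι ι F)ᵀ = (x : Matrix ι ι F)ᵀ * (J * (↑Ju⁻¹ : Matrix ι ι F)) := by
          rw [← hJu, Ju.mul_inv, mul_one]
      _ = ((x : Matrix ι ι F)ᵀ * J) * (↑Ju⁻¹ : Matrix ι ι F) := by rw [mul_assoc]
      _ = J * ((x⁻¹ : GL ι F) : Matrix ι ι F).map σ * (↑Ju⁻¹ : Matrix ι ι F) := by rw [h2]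
  have h3 : Matrix.trace ((x : Matrix ι ι F)ᵀ) =
      Matrix.trace (((x⁻¹ : GL ι F) : Matrix ι ι F).map σ) := by
    rw [h1, Matrix.trace_mul_comm, ← mul_assoc, ← hJu, Ju.inv_mul, one_mul]
  rw [Matrix.trace_transpose] at h3
  rw [h3]
  simp only [Matrix.trace, Matrix.diag, Matrix.map_apply, map_sum]

end Cfsg.Agent.Lib.Helper83.AschOUniDesc

namespace Cfsg.Agent.Lib.Helper5.AschO

open Cfsg Cfsg.Geo Cfsg.Agent.Lib.Helper37.Asch Cfsg.Agent.Lib.Helper83.AschOUniDesc
open scoped MatrixGroups Matrix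

variable {F : Type*} [Field F] [Fintype F]

/-- ASCHO-[UNIDESC] -/
theorem realisable_of_fixes_bilinear_and_unitary {ι : Type} [Fintype ι] [DecidableEq ι]
    (P : Subgroup (GL ι F)) (hP : ActsAbsolutelyIrreducibly (matrixSet P))
    (b : (ι → F) → (ι → F) → F) (hb : IsBilinearForm b) (hbn : IsNondegenerateForm b)
    (hbfix : FixesForm (matrixSet P) b)
    (σ : F ≃+* F) (u : (ι → F) → (ι → F) → F) (hu : IsUnitaryForm σ u) (hufix : FixesForm (matrixSet P) u) :
    ∃ F₀ : Subfield F, F₀ ≠ ⊤ ∧ RealisableOver F₀ (matrixSet P) := by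
  refine ⟨fixedSubfield σ, fixedSubfield_ne_top σ hu.ne_refl, ?_⟩
  apply Cfsg.Agent.Lib.Helper83.AschDescent.realisable_of_trace_mem_gen P hP
  have hbs := isSesq_of_bilinear hb
  have hus := isSesq_of_unitary hu
  have hG := hbs.isUnit_gram hbn
  have hU := hus.isUnit_gram hu.nondegenerate
  -- `tr y = tr y⁻¹` for `y ∈ P`
  have htr1 : ∀ y ∈ P, Matrix.trace (y : Matrix ι ι F) =
      Matrix.trace ((y⁻¹ : GL ι F) : Matrix ι ι F) := by
    intro y hy
    have h1 := hbs.gram_of_fixes (A := (y : Matrix ι ι F))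
      (fun v w => hbfix _ ⟨y, hy, rfl⟩ v w)
    have h2 := trace_eq_of_fix (RingEquiv.refl F) (gram b) hG y h1
    simpa using h2
  intro x hx
  rw [mem_fixedSubfield]
  have h1 := hus.gram_of_fixes (A := (x : Matrix ι ι F))
    (fun v w => hufix _ ⟨x, hx, rfl⟩ v w)
  have h2 := trace_eq_of_fix σ (gram u) hU x h1
  rw [← htr1 x hx] at h2
  exact h2.symm

end Cfsg.Agent.Lib.Helper5.AschO
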