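import Mathlib
import Cfsg.Prelude.Def_GeometricClasses
import Cfsg.Agent.Lib.Helper94.BHRSP.Kit
import Cfsg.Agent.Lib.Helper94.TensorBasic

/-!
# BHRSP-[E-Q3] (helper94's project BHRSP) (helper83)

`tensor_three_card_three`: over the field with three elements the tensor product subgroup `Sp_{n₁}(3) ⊗ O_3(3)`
stabilises a decomposition into three non-degenerate subspaces `F^{n₁} ⊗ b_i`, where `b₀ b₁ b₂` is an orthogonal
basis of the 3-space with `f₂ b_i b_i = d` for a single `d`.
-/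

set_option autoImplicit false

namespace Cfsg.Agent.Lib.Helper83.BhrspEQ3

open Cfsg Cfsg.Geo Cfsg.Agent.Lib.Helper94
open scoped MatrixGroups Matrix Kronecker

variable {F : Type*} [Field F]

section bilin
variable {n : ℕ} {f : (Fin n → F) → (Fin n → F) → F}

/-- a bilinear form in the sense of the Prelude as a Mathlib bilinear form -/
noncomputable def toBilin (hf : IsBilinearForm f) : LinearMap.BilinForm F (Fin n → F) :=
  LinearMap.mk₂ F f hf.add_left hf.smul_left hf.add_right hf.smul_right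

@[simp] theorem toBilin_apply (hf : IsBilinearForm f) (x y : Fin n → F) : toBilin hf x y = f x y := rfl

theorem form_sum_left (hf : IsBilinearForm f) {κ : Type*} (s : Finset κ) (w : κ → Fin n → F) (v : Fin n → F) :
    f (∑ i ∈ s, w i) v = ∑ i ∈ s, f (w i) v := by
  simp only [← toBilin_apply hf, map_sum, LinearMap.sum_apply]

theorem form_sum_right (hf : IsBilinearForm f) {κ : Type*} (s : Finset κ) (w : κ → Fin n → F) (v : Fin n → F) :
    f v (∑ i ∈ s, w i) = ∑ i ∈ s, f v (w i) := by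
  simp only [← toBilin_apply hf, map_sum]

theorem form_zero_left (hf : IsBilinearForm f) (v : Fin n → F) : f 0 v = 0 := by
  simp only [← toBilin_apply hf, map_zero, LinearMap.zero_apply]

theorem form_zero_right (hf : IsBilinearForm f) (v : Fin n → F) : f v 0 = 0 := by
  simp only [← toBilin_apply hf, map_zero]

end bilin

section field3
variable [Fintype F]

theorem three_eq_zero (hq : Fintype.card F = 3) : (3 : F) = 0 := by
  have h := Nat.cast_card_eq_zero F
  rw [hq] at h
  exact_mod_cast h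

theorem sq_eq_one (hq : Fintype.card F = 3) {x : F} (hx : x ≠ 0) : x ^ 2 = 1 := by
  have h := FiniteField.pow_card_sub_one_eq_one x hx
  rw [hq] at h
  exact h

theorem cube_eq (hq : Fintype.card F = 3) (x : F) : x ^ 3 = x := by
  have h := FiniteField.pow_card x
  rwa [hq] at h

theorem two_ne_zero' (hq : Fintype.card F = 3) : (2 : F) ≠ 0 := by
  intro h
  have h3 := three_eq_zero hq
  have : (1 : F) = 0 := by linear_combination h3 - h
  exact one_ne_zero this

theorem eq_one_or_neg_one (hq : Fintype.card F = 3) {x : F} (hx : x ≠ 0) : x = 1 ∨ x = -1 := by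
  have h := sq_eq_one hq hx
  have : (x - 1) * (x + 1) = 0 := by linear_combination h
  rcases mul_eq_zero.mp this with h1 | h1
  · left; linear_combination h1
  · right; linear_combination h1

end field3

section ortho

/-- pairwise orthogonal subspaces that are non-degenerate are independent -/
theorem iSupIndep_of_orthogonal {ι : Type} [Fintype ι] [DecidableEq ι] {f : (ι → F) → (ι → F) → F}
    (hf : IsBilinearForm f) {κ : Type*} (D : κ → Submodule F (ι → F))
    (hnd : ∀ i, IsNondegenerateOn f (D i)) (horth : ∀ i j, i ≠ j → AreOrthogonalFor f (D i) (D j)) :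
    iSupIndep D := by
  intro i
  rw [Submodule.disjoint_def]
  intro x hx hx'
  by_contra hx0
  obtain ⟨⟨y, hy, hyx⟩, _⟩ := hnd i x hx hx0
  apply hyx
  have hzero : f y 0 = 0 := by
    have := hf.smul_right 0 y 0
    simpa using this
  let K : Submodule F (ι → F) :=
    { carrier := {z | f y z = 0}
      add_mem' := by
        intro a c ha hc
        show f y (a + c) = 0
        rw [hf.add_right, ha, hc, add_zero]
      zero_mem' := hzero
      smul_mem' := by
        intro r a ha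
        show f y (r • a) = 0
        rw [hf.smul_right, ha, mul_zero] }
  have hle : (⨆ j, ⨆ (_ : j ≠ i), D j) ≤ K := by
    refine iSup_le fun j => iSup_le fun hji => ?_
    intro z hz
    exact horth i j (Ne.symm hji) y hy z hz
  exact hle hx'


end ortho

section frame
variable [Fintype F]

/-- an orthogonal frame of `F³` all of whose members have the same norm `d` -/
def IsFrame (f₂ : (Fin 3 → F) → (Fin 3 → F) → F) (b : Fin 3 → Fin 3 → F) (d : F) : Prop :=
  d ≠ 0 ∧ ∀ i j, f₂ (b i) (b j) = if i = j then d else 0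

/-- `⟨a, a, -a⟩ ≅ ⟨-a, -a, -a⟩` over `F₃` -/
theorem frame_fix (hq : Fintype.card F = 3) {f₂ : (Fin 3 → F) → (Fin 3 → F) → F} (hf₂ : IsSymmetricForm f₂)
    {u v w : Fin 3 → F} {a : F} (ha : a ≠ 0) (huv : f₂ u v = 0) (huw : f₂ u w = 0) (hvw : f₂ v w = 0)
    (hu : f₂ u u = a) (hv : f₂ v v = a) (hw : f₂ w w = -a) :
    ∃ b : Fin 3 → Fin 3 → F, IsFrame f₂ b (-a) := by
  have h3 := three_eq_zero hq
  have hb := hf₂.bilinear
  have hvu : f₂ v u = 0 := by rw [hf₂.symm]; exact huv
  have hwu : f₂ w u = 0 := by rw [hf₂.symm]; exact huw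
  have hwv : f₂ w v = 0 := by rw [hf₂.symm]; exact hvw
  have hsubl : ∀ x y z, f₂ (x - y) z = f₂ x z - f₂ y z := by
    intro x y z
    simp only [← toBilin_apply hb, map_sub, LinearMap.sub_apply]
  have hsubr : ∀ x y z, f₂ z (x - y) = f₂ z x - f₂ z y := by
    intro x y z
    simp only [← toBilin_apply hb, map_sub]
  refine ⟨![u + v, u - v, w], neg_ne_zero.mpr ha, ?_⟩
  intro i j
  fin_cases i <;> fin_cases j <;>
    simp [hb.add_left, hb.add_right, hsubl, hsubr, huv, huw, hvw, hvu, hwu, hwv, hu, hv, hw] <;>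
    linear_combination a * h3

theorem exists_frame (hq : Fintype.card F = 3) {f₂ : (Fin 3 → F) → (Fin 3 → F) → F} (hf₂ : IsSymmetricForm f₂) :
    ∃ (b : Fin 3 → Fin 3 → F) (d : F), IsFrame f₂ b d := by
  have hb := hf₂.bilinear
  have : Invertible (2 : F) := invertibleOfNonzero (two_ne_zero' hq)
  have hsymm : (toBilin hb).IsSymm := LinearMap.BilinForm.isSymm_def.mpr fun x y => hf₂.symm x y
  obtain ⟨v, hv⟩ := LinearMap.BilinForm.exists_orthogonal_basis (LinearMap.BilinForm.isSymm_iff.mp hsymm)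
  have hfr : Module.finrank F (Fin 3 → F) = 3 := Module.finrank_fin_fun F
  have hsep : (toBilin hb).SeparatingLeft := by
    intro x hx
    by_contra hx0
    obtain ⟨_, y, hy⟩ := hf₂.nondegenerate x hx0
    exact hy (hx y)
  have hn := hv.not_isOrtho_basis_self_of_separatingLeft hsep
  set v' : Fin 3 → Fin 3 → F := fun i => v (Fin.cast hfr.symm i) with hv'
  have horth : ∀ i j, i ≠ j → f₂ (v' i) (v' j) = 0 := by
    intro i j hij
    have : Fin.cast hfr.symm i ≠ Fin.cast hfr.symm j := by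
      intro h; exact hij (Fin.cast_injective _ h)
    exact hv this
  have hnz : ∀ i, f₂ (v' i) (v' i) ≠ 0 := fun i => hn (Fin.cast hfr.symm i)
  have hsy : ∀ i j, f₂ (v' i) (v' j) = f₂ (v' j) (v' i) := fun i j => hf₂.symm _ _
  have h01 := horth 0 1 (by decide)
  have h02 := horth 0 2 (by decide)
  have h12 := horth 1 2 (by decide)
  have h10 := horth 1 0 (by decide)
  have h20 := horth 2 0 (by decide)
  have h21 := horth 2 1 (by decide)
  have key : ∀ i j, f₂ (v' i) (v' j) = if i = j then f₂ (v' i) (v' i) else 0 := by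
    intro i j
    by_cases hij : i = j
    · subst hij; simp
    · rw [if_neg hij]; exact horth i j hij
  rcases eq_one_or_neg_one hq (hnz 0) with e0 | e0 <;> rcases eq_one_or_neg_one hq (hnz 1) with e1 | e1 <;>
    rcases eq_one_or_neg_one hq (hnz 2) with e2 | e2
  · -- 1 1 1
    refine ⟨v', 1, one_ne_zero, fun i j => ?_⟩
    rw [key]; fin_cases i <;> simp [e0, e1, e2]
  · -- 1 1 -1
    obtain ⟨b, hb'⟩ := frame_fix hq hf₂ (one_ne_zero) h01 h02 h12 e0 e1 e2
    exact ⟨b, _, hb'⟩
  · -- 1 -1 1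
    obtain ⟨b, hb'⟩ := frame_fix hq hf₂ (one_ne_zero) h02 h01 h21 e0 e2 e1
    exact ⟨b, _, hb'⟩
  · -- 1 -1 -1 : a = -1, u = v'1, v = v'2, w = v'0
    obtain ⟨b, hb'⟩ := frame_fix hq hf₂ (a := -1) (neg_ne_zero.mpr one_ne_zero) h12 h10 h20 e1 e2
      (by rw [e0]; ring)
    exact ⟨b, _, hb'⟩
  · -- -1 1 1 : a = 1, u = v'1, v = v'2, w = v'0
    obtain ⟨b, hb'⟩ := frame_fix hq hf₂ (one_ne_zero) h12 h10 h20 e1 e2 e0
    exact ⟨b, _, hb'⟩
  · -- -1 1 -1 : a = -1, u = v'0, v = v'2, w = v'1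
    obtain ⟨b, hb'⟩ := frame_fix hq hf₂ (a := -1) (neg_ne_zero.mpr one_ne_zero) h02 h01 h21 e0 e2
      (by rw [e1]; ring)
    exact ⟨b, _, hb'⟩
  · -- -1 -1 1 : a = -1, u = v'0, v = v'1, w = v'2
    obtain ⟨b, hb'⟩ := frame_fix hq hf₂ (a := -1) (neg_ne_zero.mpr one_ne_zero) h01 h02 h12 e0 e1
      (by rw [e2]; ring)
    exact ⟨b, _, hb'⟩
  · -- -1 -1 -1
    refine ⟨v', -1, neg_ne_zero.mpr one_ne_zero, fun i j => ?_⟩
    rw [key]; fin_cases i <;> simp [e0, e1, e2]


variable {f₂ : (Fin 3 → F) → (Fin 3 → F) → F} {b : Fin 3 → Fin 3 → F} {d : F}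

omit [Fintype F] in
theorem IsFrame.linearIndependent (hb : IsBilinearForm f₂) (hfr : IsFrame f₂ b d) : LinearIndependent F b := by
  rw [Fintype.linearIndependent_iff]
  intro g hg i
  have h : f₂ (∑ j, g j • b j) (b i) = f₂ 0 (b i) := by rw [hg]
  rw [form_sum_left hb, form_zero_left hb] at h
  simp only [hb.smul_left, hfr.2] at h
  rw [Finset.sum_eq_single i (fun j _ hji => by rw [if_neg hji, mul_zero])
    (fun h => absurd (Finset.mem_univ i) h), if_pos rfl] at h
  exact (mul_eq_zero.mp h).resolve_right hfr.1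

omit [Fintype F] in
theorem IsFrame.expand (hb : IsBilinearForm f₂) (hfr : IsFrame f₂ b d) (w : Fin 3 → F) :
    w = ∑ i, (d⁻¹ * f₂ w (b i)) • b i := by
  have hli := hfr.linearIndependent hb
  have hcard : Fintype.card (Fin 3) = Module.finrank F (Fin 3 → F) := by simp
  set bas := basisOfLinearIndependentOfCardEqFinrank hli hcard with hbasdef
  have hbas : ⇑bas = b := coe_basisOfLinearIndependentOfCardEqFinrank hli hcard
  have h1 := bas.sum_repr w
  have h2 : ∀ j, f₂ w (b j) = bas.repr w j * d := by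
    intro j
    conv_lhs => rw [← h1]
    rw [form_sum_left hb]
    simp only [hb.smul_left, hbas, hfr.2]
    rw [Finset.sum_eq_single j (fun i _ hij => by rw [if_neg hij, mul_zero])
      (fun h => absurd (Finset.mem_univ j) h), if_pos rfl]
  conv_lhs => rw [← h1]
  refine Finset.sum_congr rfl fun i _ => ?_
  rw [h2 i, hbas]
  congr 1
  field_simp [hfr.1]

theorem IsFrame.monomial (hq : Fintype.card F = 3) (hb : IsBilinearForm f₂) (hfr : IsFrame f₂ b d)
    (B : Matrix (Fin 3) (Fin 3) F) (β : F) (hβ : β ≠ 0)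
    (hB : ∀ w w', f₂ (B *ᵥ w) (B *ᵥ w') = β * f₂ w w') :
    ∃ σ : Equiv.Perm (Fin 3), ∀ i, ∃ ε : F, ε ≠ 0 ∧ B *ᵥ b i = ε • b (σ i) := by
  have h3 := three_eq_zero hq
  have hd := hfr.1
  set C : Matrix (Fin 3) (Fin 3) F := Matrix.of fun j i => d⁻¹ * f₂ (B *ᵥ b i) (b j) with hC
  have hBb : ∀ i, B *ᵥ b i = ∑ j, C j i • b j := fun i => hfr.expand hb _
  have hCC : ∀ i k, ∑ j, C j i * C j k = if i = k then β else 0 := by
    intro i k
    have h := hB (b i) (b k)
    rw [hBb i, hBb k, form_sum_left hb] at h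
    simp only [form_sum_right hb, hb.smul_left, hb.smul_right, hfr.2] at h
    have h' : ∑ j, C j i * C j k * d = β * if i = k then d else 0 := by
      rw [← h]
      refine Finset.sum_congr rfl fun j _ => ?_
      rw [Finset.sum_eq_single j (fun l _ hlj => by rw [if_neg (Ne.symm hlj), mul_zero, mul_zero])
        (fun h => absurd (Finset.mem_univ j) h), if_pos rfl]
      ring
    rw [← Finset.sum_mul] at h'
    by_cases hik : i = k
    · rw [if_pos hik] at h' ⊢
      exact mul_right_cancel₀ hd h'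
    · rw [if_neg hik] at h' ⊢
      rw [mul_zero] at h'
      exact (mul_eq_zero.mp h').resolve_right hd
  have hmat : Cᵀ * C = β • (1 : Matrix (Fin 3) (Fin 3) F) := by
    ext i k
    simp only [Matrix.mul_apply, Matrix.transpose_apply, hCC, Matrix.smul_apply, Matrix.one_apply, smul_eq_mul,
      mul_ite, mul_one, mul_zero]
  have hdet : C.det ^ 2 = β ^ 3 := by
    have h := congrArg Matrix.det hmat
    rw [Matrix.det_mul, Matrix.det_transpose, Matrix.det_smul, Matrix.det_one, Fintype.card_fin, mul_one] at h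
    rw [← h]; ring
  have hβ1 : β = 1 := by
    have hdet0 : C.det ≠ 0 := by
      intro h0
      rw [h0] at hdet
      have h4 : β ^ 3 = 0 := by rw [← hdet]; ring
      exact hβ (pow_eq_zero_iff (n := 3) (by norm_num) |>.mp h4)
    rw [sq_eq_one hq hdet0, cube_eq hq] at hdet
    exact hdet.symm
  have hcol : ∀ i, ∃ j, C j i ≠ 0 ∧ ∀ l, l ≠ j → C l i = 0 := by
    intro i
    have h := hCC i i
    rw [if_pos rfl, hβ1, Fin.sum_univ_three] at h
    have hsq : ∀ x : F, x ≠ 0 → x * x = 1 := fun x hx => by rw [← sq]; exact sq_eq_one hq hx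
    by_cases h0 : C 0 i = 0 <;> by_cases h1 : C 1 i = 0 <;> by_cases h2 : C 2 i = 0
    · exfalso; rw [h0, h1, h2] at h; simp at h
    · refine ⟨2, h2, fun l hl => ?_⟩
      fin_cases l
      · exact h0
      · exact h1
      · exact absurd rfl hl
    · refine ⟨1, h1, fun l hl => ?_⟩
      fin_cases l
      · exact h0
      · exact absurd rfl hl
      · exact h2
    · exfalso
      rw [h0, hsq _ h1, hsq _ h2] at h
      exact one_ne_zero (α := F) (by linear_combination h)
    · refine ⟨0, h0, fun l hl => ?_⟩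
      fin_cases l
      · exact absurd rfl hl
      · exact h1
      · exact h2
    · exfalso
      rw [h1, hsq _ h0, hsq _ h2] at h
      exact one_ne_zero (α := F) (by linear_combination h)
    · exfalso
      rw [h2, hsq _ h0, hsq _ h1] at h
      exact one_ne_zero (α := F) (by linear_combination h)
    · exfalso
      rw [hsq _ h0, hsq _ h1, hsq _ h2] at h
      exact one_ne_zero (α := F) (by linear_combination h3 - h)
  choose σ hσ using hcol
  have hinj : Function.Injective σ := by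
    intro i k hik
    by_contra hne
    have h := hCC i k
    rw [if_neg hne, Finset.sum_eq_single (σ i) (fun l _ hl => by rw [(hσ i).2 l hl, zero_mul])
      (fun h => absurd (Finset.mem_univ _) h)] at h
    rcases mul_eq_zero.mp h with h | h
    · exact (hσ i).1 h
    · rw [hik] at h; exact (hσ k).1 h
  refine ⟨Equiv.ofBijective σ (Finite.injective_iff_bijective.mp hinj), fun i => ⟨C (σ i) i, (hσ i).1, ?_⟩⟩
  rw [Equiv.ofBijective_apply, hBb i]
  exact Finset.sum_eq_single (σ i) (fun l _ hl => by rw [(hσ i).2 l hl, zero_smul])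
    (fun h => absurd (Finset.mem_univ _) h)


end frame

end Cfsg.Agent.Lib.Helper83.BhrspEQ3

namespace Cfsg.Agent.Lib.Helper94.BHRSP

open Cfsg Cfsg.Geo Cfsg.Agent.Lib.Helper94 Cfsg.Agent.Lib.Helper83.BhrspEQ3
open scoped MatrixGroups Matrix Kronecker

variable {F : Type*} [Field F] [Fintype F] {m : ℕ}

/-- **[E-Q3]** `|F| = 3`: `Sp_{n₁}(3) ⊗ O_3(3)` stabilises a decomposition into three non-degenerate subspaces.
(The hypothesis `0 < n₁` is necessary: for `m = n₁ = 0` the Skel statement fails.) -/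
theorem tensor_three_card_three (hq : Fintype.card F = 3) (n₁ : ℕ) (hn₁ : 0 < n₁)
    (e : (Fin m ⊕ Fin m) ≃ Fin n₁ × Fin 3)
    (P : GL (Fin m ⊕ Fin m) F) (f₁ : (Fin n₁ → F) → (Fin n₁ → F) → F) (f₂ : (Fin 3 → F) → (Fin 3 → F) → F)
    (hf₁ : IsSymplecticForm f₁) (hf₂ : IsSymmetricForm f₂)
    (hT : IsTensorFormStructure id (sympForm m F) f₁ f₂ e P) :
    ∃ D : Fin 3 → Submodule F (Fin m ⊕ Fin m → F), IsNondegenerateMDecomposition (sympForm m F) n₁ D ∧
      tensorProductSubgroup n₁ 3 e P ⊓ spGL m F ≤ decompositionStabilizer D ⊓ spGL m F := by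
  obtain ⟨c, hc, hform⟩ := hT
  obtain ⟨b, d, hfr⟩ := exists_frame hq hf₂
  have hd := hfr.1
  have hb1 := hf₁.bilinear
  have hb2 := hf₂.bilinear
  have hbs := (isSymplecticForm_sympForm (F := F) (m := m)).bilinear
  set Φ := tensPhi (F := F) e P with hΦ
  have hpure : ∀ (u u' : Fin n₁ → F) (w w' : Fin 3 → F),
      sympForm m F (Φ (pureT u w)) (Φ (pureT u' w')) = c * (f₁ u u' * f₂ w w') := by
    intro u u' w w'
    rw [hΦ, tensPhi_apply, tensPhi_apply, hform, formOfGram_kronecker_pureT id (fun _ _ => rfl),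
      formOfGram_gramMatrix hb1, formOfGram_gramMatrix hb2]
  have hbne : ∀ i, b i ≠ 0 := by
    intro i h0
    have := hfr.2 i i
    rw [if_pos rfl, h0, form_zero_left hb2] at this
    exact hd this.symm
  set D : Fin 3 → Submodule F (Fin m ⊕ Fin m → F) :=
    fun i => LinearMap.range (Φ.toLinearMap ∘ₗ pureRight (b i)) with hDdef
  have hmemD : ∀ (i : Fin 3) (x : Fin m ⊕ Fin m → F), x ∈ D i ↔ ∃ u : Fin n₁ → F, Φ (pureT u (b i)) = x :=
    fun i x => Iff.rfl
  have hpinj : ∀ (i : Fin 3) (u : Fin n₁ → F), pureT u (b i) = 0 → u = 0 := by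
    intro i u h
    obtain ⟨j, hj⟩ := exists_ne_zero_of_ne_zero (hbne i)
    funext a
    have := congrFun h (a, j)
    rw [pureT_apply] at this
    exact (mul_eq_zero.mp this).resolve_right hj
  -- orthogonality
  have horth : ∀ i j, i ≠ j → AreOrthogonalFor (sympForm m F) (D i) (D j) := by
    intro i j hij x hx y hy
    obtain ⟨u, rfl⟩ := (hmemD i x).mp hx
    obtain ⟨u', rfl⟩ := (hmemD j y).mp hy
    rw [hpure, hfr.2, if_neg hij, mul_zero, mul_zero]
  -- non-degeneracy
  have hnd : ∀ i, IsNondegenerateOn (sympForm m F) (D i) := by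
    intro i x hx hx0
    obtain ⟨u, rfl⟩ := (hmemD i x).mp hx
    have hu : u ≠ 0 := by
      rintro rfl
      apply hx0
      rw [pureT_zero_left, map_zero]
    obtain ⟨⟨u', hu'⟩, ⟨u'', hu''⟩⟩ := hf₁.nondegenerate u hu
    refine ⟨⟨Φ (pureT u' (b i)), (hmemD i _).mpr ⟨u', rfl⟩, ?_⟩,
      ⟨Φ (pureT u'' (b i)), (hmemD i _).mpr ⟨u'', rfl⟩, ?_⟩⟩
    · rw [hpure, hfr.2, if_pos rfl]
      exact mul_ne_zero hc (mul_ne_zero hu' hd)
    · rw [hpure, hfr.2, if_pos rfl]
      exact mul_ne_zero hc (mul_ne_zero hu'' hd)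
  have hindep : iSupIndep D := iSupIndep_of_orthogonal hbs D hnd horth
  -- spanning
  have htop : iSup D = ⊤ := by
    rw [eq_top_iff]
    intro v _
    obtain ⟨z, rfl⟩ := Φ.surjective v
    have hz : z = ∑ i, pureT (fun a => d⁻¹ * f₂ (fun k => z (a, k)) (b i)) (b i) := by
      funext ⟨a, k⟩
      have h := congrFun (hfr.expand hb2 (fun k => z (a, k))) k
      rw [Finset.sum_apply]
      simp only [pureT_apply]
      rw [h, Finset.sum_apply]
      refine Finset.sum_congr rfl fun i _ => ?_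
      rw [Pi.smul_apply, smul_eq_mul]
    rw [hz, map_sum]
    refine Submodule.sum_mem _ fun i _ => ?_
    exact Submodule.mem_iSup_of_mem i ((hmemD i _).mpr ⟨_, rfl⟩)
  refine ⟨D, ⟨⟨by norm_num, hn₁, ?_, hindep, htop⟩, hnd, horth⟩, ?_⟩
  · intro i
    have hinj : Function.Injective (Φ.toLinearMap ∘ₗ pureRight (b i)) := by
      rw [← LinearMap.ker_eq_bot, LinearMap.ker_eq_bot']
      intro u hu
      rw [LinearMap.comp_apply, LinearEquiv.coe_coe, pureRight_apply] at hu
      exact hpinj i u (Φ.injective (hu.trans (map_zero Φ).symm))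
    rw [hDdef]
    simp only
    rw [LinearMap.finrank_range_of_inj hinj, Module.finrank_fin_fun]
  · intro g hg
    refine ⟨?_, hg.2⟩
    obtain ⟨A, B, hAB⟩ := exists_of_mem_tensorProductSubgroup hg.1
    have hgp : ∀ u w, (g : Matrix (Fin m ⊕ Fin m) (Fin m ⊕ Fin m) F) *ᵥ Φ (pureT u w) =
        Φ (pureT ((A : Matrix (Fin n₁) (Fin n₁) F) *ᵥ u) ((B : Matrix (Fin 3) (Fin 3) F) *ᵥ w)) := by
      intro u w
      rw [hΦ, hAB, kronecker_mulVec_pureT]
    have hsp := (mem_spGL_iff g).mp hg.2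
    have hsim0 : ∀ u u' w w',
        f₁ ((A : Matrix (Fin n₁) (Fin n₁) F) *ᵥ u) ((A : Matrix (Fin n₁) (Fin n₁) F) *ᵥ u') *
          f₂ ((B : Matrix (Fin 3) (Fin 3) F) *ᵥ w) ((B : Matrix (Fin 3) (Fin 3) F) *ᵥ w') =
        f₁ u u' * f₂ w w' := by
      intro u u' w w'
      have h := hsp (Φ (pureT u w)) (Φ (pureT u' w'))
      rw [hgp, hgp, hpure, hpure] at h
      exact mul_left_cancel₀ hc h
    set u₀ : Fin n₁ → F := Pi.single ⟨0, hn₁⟩ 1 with hu₀def
    have hu₀ : u₀ ≠ 0 := by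
      intro h
      have := congrFun h ⟨0, hn₁⟩
      rw [hu₀def, Pi.single_eq_same, Pi.zero_apply] at this
      exact one_ne_zero this
    obtain ⟨_, ⟨u₁, hu₁⟩⟩ := hf₁.nondegenerate u₀ hu₀
    set γ := f₁ u₀ u₁ with hγ
    set α := f₁ ((A : Matrix (Fin n₁) (Fin n₁) F) *ᵥ u₀) ((A : Matrix (Fin n₁) (Fin n₁) F) *ᵥ u₁) with hα
    have hα0 : α ≠ 0 := by
      intro h0
      have h := hsim0 u₀ u₁ (b 0) (b 0)
      rw [← hα, h0, zero_mul, hfr.2, if_pos rfl] at h
      exact mul_ne_zero hu₁ hd h.symm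
    have hsim : ∀ w w', f₂ ((B : Matrix (Fin 3) (Fin 3) F) *ᵥ w) ((B : Matrix (Fin 3) (Fin 3) F) *ᵥ w') =
        (γ / α) * f₂ w w' := by
      intro w w'
      have h := hsim0 u₀ u₁ w w'
      rw [← hα, ← hγ] at h
      rw [div_mul_eq_mul_div, eq_div_iff hα0]
      linear_combination h
    obtain ⟨σ, hσ⟩ := hfr.monomial hq hb2 (B : Matrix (Fin 3) (Fin 3) F) (γ / α) (div_ne_zero hu₁ hα0) hsim
    refine ⟨σ, fun i => ?_⟩
    obtain ⟨ε, hε, hBi⟩ := hσ i
    apply le_antisymm
    · rintro x ⟨y, hy, rfl⟩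
      obtain ⟨u, rfl⟩ := (hmemD i y).mp hy
      rw [Matrix.toLin'_apply, hgp, hBi, pureT_smul_right, ← pureT_smul_left]
      exact (hmemD _ _).mpr ⟨_, rfl⟩
    · intro x hx
      obtain ⟨u', rfl⟩ := (hmemD _ x).mp hx
      refine ⟨Φ (pureT (ε⁻¹ • (((A⁻¹ : GL (Fin n₁) F) : Matrix (Fin n₁) (Fin n₁) F) *ᵥ u')) (b i)),
        (hmemD i _).mpr ⟨_, rfl⟩, ?_⟩
      rw [Matrix.toLin'_apply, hgp, hBi, Matrix.mulVec_smul, Matrix.mulVec_mulVec, ← Units.val_mul,
        mul_inv_cancel, Units.val_one, Matrix.one_mulVec, pureT_smul_left, pureT_smul_right, smul_smul,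
        inv_mul_cancel₀ hε, one_smul]

/-- variant of **[E-Q3]** with `1 ≤ m` instead of `0 < n₁` -/
theorem tensor_three_card_three_of_one_le (hm : 1 ≤ m) (hq : Fintype.card F = 3) (n₁ : ℕ)
    (e : (Fin m ⊕ Fin m) ≃ Fin n₁ × Fin 3)
    (P : GL (Fin m ⊕ Fin m) F) (f₁ : (Fin n₁ → F) → (Fin n₁ → F) → F) (f₂ : (Fin 3 → F) → (Fin 3 → F) → F)
    (hf₁ : IsSymplecticForm f₁) (hf₂ : IsSymmetricForm f₂)
    (hT : IsTensorFormStructure id (sympForm m F) f₁ f₂ e P) :
    ∃ D : Fin 3 → Submodule F (Fin m ⊕ Fin m → F), IsNondegenerateMDecomposition (sympForm m F) n₁ D ∧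
      tensorProductSubgroup n₁ 3 e P ⊓ spGL m F ≤ decompositionStabilizer D ⊓ spGL m F :=
  tensor_three_card_three hq n₁ (Fin.pos (e (Sum.inl ⟨0, hm⟩)).1) e P f₁ f₂ hf₁ hf₂ hT

end Cfsg.Agent.Lib.Helper94.BHRSP
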