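import Mathlib

/-!
# Components of a vector in an independent spanning family of submodules (helper83)

`D : κ → Submodule R M` with `κ` a `Fintype`, `iSupIndep D`, `iSup D = ⊤`: `comp htop v i` is the component of `v`
in `D i`; `comp_mem`, `sum_comp`, `comp_eq` (uniqueness), `comp_zero`, `comp_add`.
-/

set_option autoImplicit false

namespace Cfsg.Agent.Lib.Helper83.Decomp

variable {R : Type*} [Ring R] {M : Type*} [AddCommGroup M] [Module R M] {κ : Type*} [Fintype κ] [DecidableEq κ]
  {D : κ → Submodule R M}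

theorem exists_decomp (htop : iSup D = ⊤) (v : M) :
    ∃ w : κ → M, (∀ i, w i ∈ D i) ∧ ∑ i, w i = v := by
  have hv : v ∈ ⨆ i, D i := by rw [htop]; trivial
  refine Submodule.iSup_induction D (motive := fun v => ∃ w : κ → M, (∀ i, w i ∈ D i) ∧ ∑ i, w i = v) hv
    ?_ ?_ ?_
  · intro i x hx
    refine ⟨Pi.single i x, fun j => ?_, by simp⟩
    by_cases hji : j = i
    · subst hji; simpa using hx
    · rw [Pi.single_eq_of_ne hji]; exact (D j).zero_mem
  · exact ⟨0, fun i => (D i).zero_mem, by simp⟩
  · rintro x y ⟨w, hw, hws⟩ ⟨w', hw', hws'⟩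
    exact ⟨w + w', fun i => (D i).add_mem (hw i) (hw' i), by
      simp only [Pi.add_apply, Finset.sum_add_distrib, hws, hws']⟩

theorem decomp_unique (hind : iSupIndep D) {w w' : κ → M} (hw : ∀ i, w i ∈ D i) (hw' : ∀ i, w' i ∈ D i)
    (h : ∑ i, w i = ∑ i, w' i) : w = w' := by
  funext i
  have hdis := hind i
  rw [Submodule.disjoint_def] at hdis
  have h1 : w i - w' i ∈ D i := (D i).sub_mem (hw i) (hw' i)
  have h2 : w i - w' i = ∑ j ∈ Finset.univ.erase i, (w' j - w j) := by
    rw [Finset.sum_sub_distrib]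
    have e1 := Finset.add_sum_erase Finset.univ w (Finset.mem_univ i)
    have e2 := Finset.add_sum_erase Finset.univ w' (Finset.mem_univ i)
    have : w i + ∑ j ∈ Finset.univ.erase i, w j = w' i + ∑ j ∈ Finset.univ.erase i, w' j := by
      rw [e1, e2, h]
    have h3 : w i - w' i = ∑ j ∈ Finset.univ.erase i, w' j - ∑ j ∈ Finset.univ.erase i, w j := by
      rw [sub_eq_sub_iff_add_eq_add]
      rw [this]; abel
    exact h3
  have h3 : w i - w' i ∈ ⨆ j, ⨆ (_ : j ≠ i), D j := by
    rw [h2]
    refine Submodule.sum_mem _ fun j hj => ?_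
    have hji : j ≠ i := (Finset.mem_erase.mp hj).1
    exact Submodule.mem_iSup_of_mem j (Submodule.mem_iSup_of_mem hji ((D j).sub_mem (hw' j) (hw j)))
  exact sub_eq_zero.mp (hdis _ h1 h3)

/-- the components of `v` -/
noncomputable def comp (htop : iSup D = ⊤) (v : M) : κ → M := Classical.choose (exists_decomp htop v)

theorem comp_mem (htop : iSup D = ⊤) (v : M) (i : κ) : comp htop v i ∈ D i :=
  (Classical.choose_spec (exists_decomp htop v)).1 i

theorem sum_comp (htop : iSup D = ⊤) (v : M) : ∑ i, comp htop v i = v :=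
  (Classical.choose_spec (exists_decomp htop v)).2

theorem comp_eq (hind : iSupIndep D) (htop : iSup D = ⊤) {v : M} {w : κ → M} (hw : ∀ i, w i ∈ D i)
    (h : ∑ i, w i = v) : comp htop v = w :=
  decomp_unique hind (comp_mem htop v) hw ((sum_comp htop v).trans h.symm)

theorem comp_zero (hind : iSupIndep D) (htop : iSup D = ⊤) : comp htop (0 : M) = 0 :=
  comp_eq hind htop (w := 0) (fun i => (D i).zero_mem) (by simp)

theorem comp_add (hind : iSupIndep D) (htop : iSup D = ⊤) (u v : M) :
    comp htop (u + v) = comp htop u + comp htop v :=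
  comp_eq hind htop (fun i => (D i).add_mem (comp_mem htop u i) (comp_mem htop v i)) (by
    simp only [Pi.add_apply, Finset.sum_add_distrib, sum_comp])

end Cfsg.Agent.Lib.Helper83.Decomp
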