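import Mathlib
import Cfsg.Agent.Lib.Helper58.IP26.Defs
import Cfsg.Agent.Lib.Helper36.IP26Ext
import Cfsg.Agent.Lib.Helper80.DG.FrobC

/-!
# Project IP26 (helper58), module [FROB], steps (1) and (2)  (helper83)

`K ≤ N` normal in `G`, `N/K` abelian, every `g ∉ N` acting fixed-point-freely on `N/K`.
* `frob_index_le` : `|G : N| ≤ b(G)`;
* `frob_vanish_off` : a character of `N` of degree `b(G)` vanishes on `N ∖ K`.
-/

set_option autoImplicit false
set_option linter.style.haveILetI false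
set_option linter.unusedSectionVars false

namespace Cfsg.Agent.Lib.Helper58.IP26

open Cfsg Cfsg.Agent.Lib
open scoped commutatorElement

universe u

variable {G : Type u} [Group G] [Finite G] {b : ℕ}

/-- the translation of the hypotheses of [FROB] into those of `Helper80.DG` -/
theorem frob_hyps (K N : Subgroup G) [hK : K.Normal] [hN : N.Normal]
    (habN : ∀ a ∈ N, ∀ c ∈ N, ⁅a, c⁆ ∈ K)
    (hfpf : ∀ g : G, g ∉ N → ∀ n ∈ N, ⁅g, n⁆ ∈ K → n ∈ K) :
    (∀ (g : G) (n : N), n ∈ K.subgroupOf N → Helper80.DG.cj N g n ∈ K.subgroupOf N) ∧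
    (∀ a c : N, a * c * a⁻¹ * c⁻¹ ∈ K.subgroupOf N) ∧
    (∀ g : G, g ∉ N → ∀ n : N, Helper80.DG.cj N g n * n⁻¹ ∈ K.subgroupOf N →
      n ∈ K.subgroupOf N) := by
  refine ⟨?_, ?_, ?_⟩
  · intro g n hn
    rw [Subgroup.mem_subgroupOf] at hn ⊢
    exact hK.conj_mem _ hn g
  · intro a c
    rw [Subgroup.mem_subgroupOf]
    have := habN a a.2 c c.2
    rw [commutatorElement_def] at this
    simpa using this
  · intro g hg n hn
    rw [Subgroup.mem_subgroupOf] at hn ⊢
    apply hfpf g hg n n.2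
    rw [commutatorElement_def]
    simpa [Helper80.DG.cj_coe] using hn

/-- IP26-[FROB], step (1): `|G : N| ≤ b`. -/
theorem frob_index_le (hb : IsMaxDeg G b) (K N : Subgroup G) [hK : K.Normal] [hN : N.Normal]
    (hNK : ¬ N ≤ K)
    (habN : ∀ a ∈ N, ∀ c ∈ N, ⁅a, c⁆ ∈ K)
    (hfpf : ∀ g : G, g ∉ N → ∀ n ∈ N, ⁅g, n⁆ ∈ K → n ∈ K) : N.index ≤ b := by
  classical
  letI : Fintype G := Fintype.ofFinite G
  letI : Fintype N := Fintype.ofFinite N
  obtain ⟨hKinv, habN', hfpf'⟩ := frob_hyps K N habN hfpf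
  have hK' : (K.subgroupOf N).Normal := inferInstance
  obtain ⟨n, hnN, hnK⟩ := Set.not_subset.1 hNK
  have hn' : (⟨n, hnN⟩ : N) ∉ K.subgroupOf N := by
    rw [Subgroup.mem_subgroupOf]; exact hnK
  obtain ⟨lam, hlam1, hlam2⟩ :=
    Helper89.DG.exists_hom_ne_one_of_not_mem (K.subgroupOf N) habN' ⟨n, hnN⟩ hn'
  have hlamne : lam ≠ 1 := by
    intro h
    apply hlam2
    rw [h, MonoidHom.one_apply]
  have hψirr : IsIrrCharacter N (Helper80.homFun lam) := Helper77.isIrrCharacter_of_monoidHom lam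
  -- the inertia group of `Helper80.homFun lam` is `N`
  have hT : ∀ g : G, g ∈ N ↔ Helper75.conjFun N g (Helper80.homFun lam) = Helper80.homFun lam := by
    intro g
    constructor
    · intro hg
      exact Helper75.conjFun_of_mem N (Helper78.IsCharacter.isClassFunction
        (Helper78.IsIrrCharacter.isCharacter hψirr)) ⟨g, hg⟩
    · intro hg
      by_contra hgN
      apply hlamne
      apply Helper80.DG.eq_one_of_conjHom_eq N (K.subgroupOf N) g (hKinv g) (hfpf' g hgN) lam hlam1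
      apply Helper80.homFun_injective
      rw [Helper80.homFun_conjHom]
      exact hg
  have hnorm := Helper75.classInner_indFun_self N N hψirr hT
  rw [div_self (by exact_mod_cast (Nat.card_pos (α := N)).ne')] at hnorm
  have hirr : IsIrrCharacter G (indFun N (Helper80.homFun lam)) :=
    Helper78.isIrrCharacter_of_classInner_self_eq_one
      (Cfsg.Agent.S0148.result N _ (Helper78.IsIrrCharacter.isCharacter hψirr)) hnorm
  have hdegξ : charDegree (indFun N (Helper80.homFun lam)) = N.index := by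
    apply Helper80.charDegree_natCast
    rw [Helper75.indFun_one]
    simp [Helper80.homFun]
  have := hb.le ⟨_, hirr⟩
  rw [hdegξ] at this
  exact this

/-- IP26-[FROB], step (2): a character of `N` of degree `b` vanishes on `N ∖ K`. -/
theorem frob_vanish_off (hb : IsMaxDeg G b) (K N : Subgroup G) [hK : K.Normal] [hN : N.Normal]
    (habN : ∀ a ∈ N, ∀ c ∈ N, ⁅a, c⁆ ∈ K) (habG : commutator G ≤ N) (hNtop : N ≠ ⊤)
    (hfpf : ∀ g : G, g ∉ N → ∀ n ∈ N, ⁅g, n⁆ ∈ K → n ∈ K)
    (ψ : IrrCharacter N) (hψ : charDegree (ψ : N → ℂ) = b) (n : N) (hn : (n : G) ∉ K) :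
    (ψ : N → ℂ) n = 0 := by
  classical
  letI : Fintype G := Fintype.ofFinite G
  letI : Fintype N := Fintype.ofFinite N
  obtain ⟨hKinv, habN', hfpf'⟩ := frob_hyps K N habN hfpf
  have hK' : (K.subgroupOf N).Normal := inferInstance
  have habG' : ∀ x y : G, x * y * x⁻¹ * y⁻¹ ∈ N := by
    intro x y
    have h1 : ⁅x, y⁆ ∈ commutator G := by
      rw [commutator_def]
      exact Subgroup.commutator_mem_commutator (Subgroup.mem_top x) (Subgroup.mem_top y)
    have := habG h1
    rwa [commutatorElement_def] at this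
  obtain ⟨g₀, hg₀⟩ : ∃ g : G, g ∉ N := by
    by_contra hcon
    push Not at hcon
    exact hNtop (eq_top_iff.2 fun x _ => hcon x)
  have hbig : ∀ ψ' : IrrCharacter N, charDegree (ψ' : N → ℂ) = b →
      ∃ g : G, g ∉ N ∧ Helper75.conjFun N g (ψ' : N → ℂ) = (ψ' : N → ℂ) := by
    intro ψ' hψ'
    obtain ⟨χ, -, hext⟩ := exists_extension hb N ψ' hψ'
    refine ⟨g₀, hg₀, ?_⟩
    funext m
    rw [Helper80.DG.conjFun_apply', ← hext, ← hext, Helper80.DG.cj_coe]
    exact Helper78.IsCharacter.isClassFunction (Helper78.IsIrrCharacter.isCharacter χ.2) _ _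
  have hn' : n ∉ K.subgroupOf N := by
    rw [Subgroup.mem_subgroupOf]; exact hn
  obtain ⟨lam, hlam1, hlam2⟩ :=
    Helper89.DG.exists_hom_ne_one_of_not_mem (K.subgroupOf N) habN' n hn'
  have h1 := Helper80.DG.mul_homFun_eq_self_of_inertia_big N (K.subgroupOf N) hKinv habG' hfpf' b
    hbig ψ hψ lam hlam1
  have h2 := congrFun h1 n
  simp only [Pi.mul_apply] at h2
  have h3 : (ψ : N → ℂ) n * (Helper80.homFun lam n - 1) = 0 := by rw [mul_sub, h2, mul_one, sub_self]
  rcases mul_eq_zero.mp h3 with h4 | h4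
  · exact h4
  · exfalso
    apply hlam2
    have h5 : ((lam n : ℂˣ) : ℂ) = 1 := sub_eq_zero.mp h4
    exact Units.ext (by simpa using h5)

end Cfsg.Agent.Lib.Helper58.IP26
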