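import Mathlib

/-!
helper83: module SZCOV-[CUSP-TYPES] of helper41's project SZCOV (S2457).
Pure arithmetic on a `Fintype`: from the degree list and the six inner-product sums of the cuspidal
characters of a Suzuki group, every index has type (0,1,0), (0,0,1), (1,h-1,h-1) or (1,h+1,h+1), with
the counts 1, 1, (h^2+h)/2, (h^2-h)/2.
-/

set_option autoImplicit false

namespace Cfsg.Agent.Lib.Helper83.SzCov

open Finset

theorem cusp_types {ι : Type*} [Fintype ι] (h : ℕ) (hh : 2 ≤ h) (a b c : ι → ℕ)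
    (hdeg : ∀ i, a i + h * (b i + c i) = h ∨ a i + h * (b i + c i) + 2 * h = 2 * h ^ 2 + 1 ∨
      a i + h * (b i + c i) = 2 * h ^ 2 + 2 * h + 1)
    (s1 : ∑ i, (a i : ℤ) ^ 2 = (h : ℤ) ^ 2)
    (s2 : ∑ i, (a i : ℤ) * b i = (h : ℤ) * ((h : ℤ) ^ 2 - 1))
    (s3 : ∑ i, (a i : ℤ) * c i = (h : ℤ) * ((h : ℤ) ^ 2 - 1))
    (s4 : ∑ i, (b i : ℤ) ^ 2 = 1 + (h : ℤ) ^ 2 * ((h : ℤ) ^ 2 - 1))
    (s5 : ∑ i, (b i : ℤ) * c i = (h : ℤ) ^ 2 * ((h : ℤ) ^ 2 - 1))
    (s6 : ∑ i, (c i : ℤ) ^ 2 = 1 + (h : ℤ) ^ 2 * ((h : ℤ) ^ 2 - 1)) :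
    ∃ (w₁ w₂ : ι) (Y₁ Y₂ : Finset ι),
      (a w₁ = 0 ∧ b w₁ = 1 ∧ c w₁ = 0) ∧ (a w₂ = 0 ∧ b w₂ = 0 ∧ c w₂ = 1) ∧
      (∀ i ∈ Y₁, a i = 1 ∧ b i + 1 = h ∧ c i + 1 = h) ∧
      (∀ i ∈ Y₂, a i = 1 ∧ b i = h + 1 ∧ c i = h + 1) ∧
      (∀ i, i = w₁ ∨ i = w₂ ∨ i ∈ Y₁ ∨ i ∈ Y₂) ∧
      (∀ i, a i = 0 → b i = 1 → i = w₁) ∧ (∀ i, a i = 0 → c i = 1 → i = w₂) ∧
      Y₁.card * 2 = h ^ 2 + h ∧ Y₂.card * 2 + h = h ^ 2 := by
  classical
  have hH2 : (2 : ℤ) ≤ (h : ℤ) := by exact_mod_cast hh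
  -- (1) a i ≤ h
  have ha_le : ∀ i, a i ≤ h := by
    intro i
    have h1 : (a i : ℤ) ^ 2 ≤ ∑ j, (a j : ℤ) ^ 2 :=
      Finset.single_le_sum (f := fun j => (a j : ℤ) ^ 2) (fun j _ => sq_nonneg _)
        (Finset.mem_univ i)
    rw [s1] at h1
    by_contra hlt
    push Not at hlt
    have h2 : (h : ℤ) + 1 ≤ (a i : ℤ) := by exact_mod_cast hlt
    nlinarith
  -- Σ (b - c)^2 = 2
  have hbc : ∑ i, ((b i : ℤ) - c i) ^ 2 = 2 := by
    have e : ∀ i, ((b i : ℤ) - c i) ^ 2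
        = (b i : ℤ) ^ 2 - 2 * ((b i : ℤ) * c i) + (c i : ℤ) ^ 2 := by
      intro i; ring
    simp only [e]
    rw [Finset.sum_add_distrib, Finset.sum_sub_distrib, ← Finset.mul_sum, s4, s5, s6]
    ring
  have hbc_le : ∀ i, ((b i : ℤ) - c i) ^ 2 ≤ 2 := by
    intro i
    have h1 := Finset.single_le_sum (f := fun j => ((b j : ℤ) - c j) ^ 2)
      (fun j _ => sq_nonneg _) (Finset.mem_univ i)
    rw [hbc] at h1
    exact h1
  -- classification
  have hclass : ∀ i, (a i = 0 ∧ b i = 1 ∧ c i = 0) ∨ (a i = 0 ∧ b i = 0 ∧ c i = 1) ∨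
      (a i = 1 ∧ b i + 1 = h ∧ c i + 1 = h) ∨ (a i = 1 ∧ b i = h + 1 ∧ c i = h + 1) := by
    intro i
    have hai := ha_le i
    have hd := hbc_le i
    have hd1 : (b i : ℤ) - c i ≤ 1 := by nlinarith
    have hd2 : -1 ≤ (b i : ℤ) - c i := by nlinarith
    have hA : (a i : ℤ) ≤ h := by exact_mod_cast hai
    have hA0 : (0 : ℤ) ≤ a i := by positivity
    rcases hdeg i with h1 | h1 | h1
    · -- a + h*(b+c) = h
      have hk : b i + c i ≤ 1 := by
        by_contra hk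
        push Not at hk
        have h2 : h * 2 ≤ h * (b i + c i) := Nat.mul_le_mul_left h hk
        omega
      rcases Nat.lt_or_ge (b i + c i) 1 with h0 | h0'
      · exfalso
        have hb0 : b i = 0 := by omega
        have hc0 : c i = 0 := by omega
        have hah : a i = h := by
          rw [hb0, hc0] at h1
          simpa using h1
        have hz : ∀ j, (a j : ℤ) * b j = 0 := by
          intro j
          by_cases hji : j = i
          · subst hji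
            simp [hb0]
          · have hpair : ∑ k ∈ ({i, j} : Finset ι), (a k : ℤ) ^ 2 ≤ ∑ k, (a k : ℤ) ^ 2 :=
              Finset.sum_le_sum_of_subset_of_nonneg (Finset.subset_univ _)
                (fun k _ _ => sq_nonneg _)
            rw [Finset.sum_pair (Ne.symm hji), s1, hah] at hpair
            have h3 : (a j : ℤ) ^ 2 ≤ 0 := by linarith
            have h4 : (a j : ℤ) = 0 := by nlinarith [sq_nonneg (a j : ℤ)]
            simp [h4]
        have s2' : (0 : ℤ) = (h : ℤ) * ((h : ℤ) ^ 2 - 1) := by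
          rw [← s2]
          exact (Finset.sum_eq_zero (fun j _ => hz j)).symm
        have hpos : (0 : ℤ) < (h : ℤ) * ((h : ℤ) ^ 2 - 1) := by
          apply mul_pos
          · linarith
          · nlinarith
        linarith
      · have hk1 : b i + c i = 1 := by omega
        have ha0 : a i = 0 := by
          rw [hk1] at h1
          omega
        rcases Nat.eq_zero_or_pos (b i) with hb | hb
        · right; left
          exact ⟨ha0, hb, by omega⟩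
        · left
          exact ⟨ha0, by omega, by omega⟩
    · -- a + h*(b+c) + 2h = 2h^2+1
      right; right; left
      have e : (a i : ℤ) + (h : ℤ) * ((b i : ℤ) + c i + 2) = 2 * (h : ℤ) ^ 2 + 1 := by
        have h1' : ((a i + h * (b i + c i) + 2 * h : ℕ) : ℤ) = ((2 * h ^ 2 + 1 : ℕ) : ℤ) := by
          rw [h1]
        push_cast at h1'
        linarith
      have hK : (b i : ℤ) + c i + 2 = 2 * (h : ℤ) := by
        rcases lt_trichotomy ((b i : ℤ) + c i + 2) (2 * (h : ℤ)) with hlt | heq | hgt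
        · exfalso
          have h5 : (b i : ℤ) + c i + 2 ≤ 2 * (h : ℤ) - 1 := by linarith
          have h6 : (h : ℤ) * ((b i : ℤ) + c i + 2) ≤ (h : ℤ) * (2 * (h : ℤ) - 1) :=
            mul_le_mul_of_nonneg_left h5 (by linarith)
          nlinarith
        · exact heq
        · exfalso
          have h5 : 2 * (h : ℤ) + 1 ≤ (b i : ℤ) + c i + 2 := by linarith
          have h6 : (h : ℤ) * (2 * (h : ℤ) + 1) ≤ (h : ℤ) * ((b i : ℤ) + c i + 2) :=
            mul_le_mul_of_nonneg_left h5 (by linarith)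
          nlinarith
      have ha1 : (a i : ℤ) = 1 := by
        rw [hK] at e
        linarith
      have hbeq : (b i : ℤ) = c i := by omega
      refine ⟨by exact_mod_cast ha1, ?_, ?_⟩ <;> omega
    · -- a + h*(b+c) = 2h^2+2h+1
      right; right; right
      have e : (a i : ℤ) + (h : ℤ) * ((b i : ℤ) + c i) = 2 * (h : ℤ) ^ 2 + 2 * h + 1 := by
        have h1' : ((a i + h * (b i + c i) : ℕ) : ℤ) = ((2 * h ^ 2 + 2 * h + 1 : ℕ) : ℤ) := by
          rw [h1]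
        push_cast at h1'
        linarith
      have hK : (b i : ℤ) + c i = 2 * (h : ℤ) + 2 := by
        rcases lt_trichotomy ((b i : ℤ) + c i) (2 * (h : ℤ) + 2) with hlt | heq | hgt
        · exfalso
          have h5 : (b i : ℤ) + c i ≤ 2 * (h : ℤ) + 1 := by linarith
          have h6 : (h : ℤ) * ((b i : ℤ) + c i) ≤ (h : ℤ) * (2 * (h : ℤ) + 1) :=
            mul_le_mul_of_nonneg_left h5 (by linarith)
          nlinarith
        · exact heq
        · exfalso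
          have h5 : 2 * (h : ℤ) + 3 ≤ (b i : ℤ) + c i := by linarith
          have h6 : (h : ℤ) * (2 * (h : ℤ) + 3) ≤ (h : ℤ) * ((b i : ℤ) + c i) :=
            mul_le_mul_of_nonneg_left h5 (by linarith)
          nlinarith
      have ha1 : (a i : ℤ) = 1 := by
        rw [hK] at e
        linarith
      have hbeq : (b i : ℤ) = c i := by omega
      refine ⟨by exact_mod_cast ha1, ?_, ?_⟩ <;> omega
  -- indicator functions
  set e1 : ι → ℤ := fun i => if (a i = 0 ∧ b i = 1 ∧ c i = 0) then 1 else 0 with he1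
  set e2 : ι → ℤ := fun i => if (a i = 0 ∧ b i = 0 ∧ c i = 1) then 1 else 0 with he2
  set e3 : ι → ℤ := fun i => if (a i = 1 ∧ b i + 1 = h ∧ c i + 1 = h) then 1 else 0 with he3
  set e4 : ι → ℤ := fun i => if (a i = 1 ∧ b i = h + 1 ∧ c i = h + 1) then 1 else 0 with he4
  have prof : ∀ i,
      (e1 i = 1 ∧ e2 i = 0 ∧ e3 i = 0 ∧ e4 i = 0 ∧ (a i : ℤ) = 0 ∧ (b i : ℤ) = 1 ∧ (c i : ℤ) = 0) ∨
      (e1 i = 0 ∧ e2 i = 1 ∧ e3 i = 0 ∧ e4 i = 0 ∧ (a i : ℤ) = 0 ∧ (b i : ℤ) = 0 ∧ (c i : ℤ) = 1) ∨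
      (e1 i = 0 ∧ e2 i = 0 ∧ e3 i = 1 ∧ e4 i = 0 ∧ (a i : ℤ) = 1 ∧ (b i : ℤ) = h - 1 ∧
        (c i : ℤ) = h - 1) ∨
      (e1 i = 0 ∧ e2 i = 0 ∧ e3 i = 0 ∧ e4 i = 1 ∧ (a i : ℤ) = 1 ∧ (b i : ℤ) = h + 1 ∧
        (c i : ℤ) = h + 1) := by
    intro i
    rcases hclass i with ⟨h1, h2, h3⟩ | ⟨h1, h2, h3⟩ | ⟨h1, h2, h3⟩ | ⟨h1, h2, h3⟩
    · left
      refine ⟨if_pos ⟨h1, h2, h3⟩, if_neg ?_, if_neg ?_, if_neg ?_, ?_, ?_, ?_⟩
      · rintro ⟨_, x, _⟩; omega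
      · rintro ⟨x, _, _⟩; omega
      · rintro ⟨x, _, _⟩; omega
      · omega
      · omega
      · omega
    · right; left
      refine ⟨if_neg ?_, if_pos ⟨h1, h2, h3⟩, if_neg ?_, if_neg ?_, ?_, ?_, ?_⟩
      · rintro ⟨_, x, _⟩; omega
      · rintro ⟨x, _, _⟩; omega
      · rintro ⟨x, _, _⟩; omega
      · omega
      · omega
      · omega
    · right; right; left
      refine ⟨if_neg ?_, if_neg ?_, if_pos ⟨h1, h2, h3⟩, if_neg ?_, ?_, ?_, ?_⟩
      · rintro ⟨x, _, _⟩; omega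
      · rintro ⟨x, _, _⟩; omega
      · rintro ⟨_, x, _⟩; omega
      · omega
      · omega
      · omega
    · right; right; right
      refine ⟨if_neg ?_, if_neg ?_, if_neg ?_, if_pos ⟨h1, h2, h3⟩, ?_, ?_, ?_⟩
      · rintro ⟨x, _, _⟩; omega
      · rintro ⟨x, _, _⟩; omega
      · rintro ⟨_, x, _⟩; omega
      · omega
      · omega
      · omega
  -- the four classes
  set N₁ : Finset ι := Finset.univ.filter (fun i => a i = 0 ∧ b i = 1 ∧ c i = 0) with hN₁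
  set N₂ : Finset ι := Finset.univ.filter (fun i => a i = 0 ∧ b i = 0 ∧ c i = 1) with hN₂
  set Y₁ : Finset ι := Finset.univ.filter (fun i => a i = 1 ∧ b i + 1 = h ∧ c i + 1 = h) with hY₁
  set Y₂ : Finset ι := Finset.univ.filter (fun i => a i = 1 ∧ b i = h + 1 ∧ c i = h + 1) with hY₂
  have c1 : ∑ i, e1 i = (N₁.card : ℤ) := by
    rw [he1, hN₁]; exact Finset.sum_boole _ _
  have c2 : ∑ i, e2 i = (N₂.card : ℤ) := by
    rw [he2, hN₂]; exact Finset.sum_boole _ _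
  have c3 : ∑ i, e3 i = (Y₁.card : ℤ) := by
    rw [he3, hY₁]; exact Finset.sum_boole _ _
  have c4 : ∑ i, e4 i = (Y₂.card : ℤ) := by
    rw [he4, hY₂]; exact Finset.sum_boole _ _
  -- pointwise identities
  have p1 : ∀ i, (a i : ℤ) ^ 2 = e3 i + e4 i := by
    intro i
    rcases prof i with ⟨x1, x2, x3, x4, xa, xb, xc⟩ | ⟨x1, x2, x3, x4, xa, xb, xc⟩ |
      ⟨x1, x2, x3, x4, xa, xb, xc⟩ | ⟨x1, x2, x3, x4, xa, xb, xc⟩ <;>
    · rw [x3, x4, xa]; ring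
  have p2 : ∀ i, (a i : ℤ) * b i = ((h : ℤ) - 1) * e3 i + ((h : ℤ) + 1) * e4 i := by
    intro i
    rcases prof i with ⟨x1, x2, x3, x4, xa, xb, xc⟩ | ⟨x1, x2, x3, x4, xa, xb, xc⟩ |
      ⟨x1, x2, x3, x4, xa, xb, xc⟩ | ⟨x1, x2, x3, x4, xa, xb, xc⟩ <;>
    · rw [x3, x4, xa, xb]; ring
  have p4 : ∀ i, (b i : ℤ) ^ 2 = e1 i + ((h : ℤ) - 1) ^ 2 * e3 i + ((h : ℤ) + 1) ^ 2 * e4 i := by
    intro i
    rcases prof i with ⟨x1, x2, x3, x4, xa, xb, xc⟩ | ⟨x1, x2, x3, x4, xa, xb, xc⟩ |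
      ⟨x1, x2, x3, x4, xa, xb, xc⟩ | ⟨x1, x2, x3, x4, xa, xb, xc⟩ <;>
    · rw [x1, x3, x4, xb]; ring
  have p6 : ∀ i, (c i : ℤ) ^ 2 = e2 i + ((h : ℤ) - 1) ^ 2 * e3 i + ((h : ℤ) + 1) ^ 2 * e4 i := by
    intro i
    rcases prof i with ⟨x1, x2, x3, x4, xa, xb, xc⟩ | ⟨x1, x2, x3, x4, xa, xb, xc⟩ |
      ⟨x1, x2, x3, x4, xa, xb, xc⟩ | ⟨x1, x2, x3, x4, xa, xb, xc⟩ <;>
    · rw [x2, x3, x4, xc]; ring
  -- summed identities
  have t1 : (Y₁.card : ℤ) + Y₂.card = (h : ℤ) ^ 2 := by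
    rw [← c3, ← c4, ← Finset.sum_add_distrib, ← s1]
    exact (Finset.sum_congr rfl (fun i _ => p1 i)).symm
  have t2 : ((h : ℤ) - 1) * Y₁.card + ((h : ℤ) + 1) * Y₂.card = (h : ℤ) * ((h : ℤ) ^ 2 - 1) := by
    rw [← c3, ← c4, Finset.mul_sum, Finset.mul_sum, ← Finset.sum_add_distrib, ← s2]
    exact (Finset.sum_congr rfl (fun i _ => p2 i)).symm
  have t4 : (N₁.card : ℤ) + ((h : ℤ) - 1) ^ 2 * Y₁.card + ((h : ℤ) + 1) ^ 2 * Y₂.card
      = 1 + (h : ℤ) ^ 2 * ((h : ℤ) ^ 2 - 1) := by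
    rw [← c1, ← c3, ← c4, Finset.mul_sum, Finset.mul_sum, ← Finset.sum_add_distrib,
      ← Finset.sum_add_distrib, ← s4]
    exact (Finset.sum_congr rfl (fun i _ => p4 i)).symm
  have t6 : (N₂.card : ℤ) + ((h : ℤ) - 1) ^ 2 * Y₁.card + ((h : ℤ) + 1) ^ 2 * Y₂.card
      = 1 + (h : ℤ) ^ 2 * ((h : ℤ) ^ 2 - 1) := by
    rw [← c2, ← c3, ← c4, Finset.mul_sum, Finset.mul_sum, ← Finset.sum_add_distrib,
      ← Finset.sum_add_distrib, ← s6]
    exact (Finset.sum_congr rfl (fun i _ => p6 i)).symm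
  have td : (Y₁.card : ℤ) - Y₂.card = h := by
    linear_combination (-1 : ℤ) * t2 + (h : ℤ) * t1
  have n1 : (N₁.card : ℤ) = 1 := by
    linear_combination t4 - ((h : ℤ) ^ 2 + 1) * t1 + 2 * (h : ℤ) * td
  have n2 : (N₂.card : ℤ) = 1 := by
    linear_combination t6 - ((h : ℤ) ^ 2 + 1) * t1 + 2 * (h : ℤ) * td
  have n1' : N₁.card = 1 := by exact_mod_cast n1
  have n2' : N₂.card = 1 := by exact_mod_cast n2
  obtain ⟨w₁, hw₁⟩ := Finset.card_eq_one.mp n1'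
  obtain ⟨w₂, hw₂⟩ := Finset.card_eq_one.mp n2'
  have hw₁P : a w₁ = 0 ∧ b w₁ = 1 ∧ c w₁ = 0 := by
    have : w₁ ∈ N₁ := by rw [hw₁]; exact Finset.mem_singleton_self _
    rw [hN₁, Finset.mem_filter] at this
    exact this.2
  have hw₂P : a w₂ = 0 ∧ b w₂ = 0 ∧ c w₂ = 1 := by
    have : w₂ ∈ N₂ := by rw [hw₂]; exact Finset.mem_singleton_self _
    rw [hN₂, Finset.mem_filter] at this
    exact this.2
  have hN₁w : ∀ i, (a i = 0 ∧ b i = 1 ∧ c i = 0) → i = w₁ := by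
    intro i hi
    have : i ∈ N₁ := by
      rw [hN₁, Finset.mem_filter]; exact ⟨Finset.mem_univ _, hi⟩
    rw [hw₁] at this
    exact Finset.mem_singleton.mp this
  have hN₂w : ∀ i, (a i = 0 ∧ b i = 0 ∧ c i = 1) → i = w₂ := by
    intro i hi
    have : i ∈ N₂ := by
      rw [hN₂, Finset.mem_filter]; exact ⟨Finset.mem_univ _, hi⟩
    rw [hw₂] at this
    exact Finset.mem_singleton.mp this
  refine ⟨w₁, w₂, Y₁, Y₂, hw₁P, hw₂P, ?_, ?_, ?_, ?_, ?_, ?_, ?_⟩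
  · intro i hi
    rw [hY₁, Finset.mem_filter] at hi
    exact hi.2
  · intro i hi
    rw [hY₂, Finset.mem_filter] at hi
    exact hi.2
  · intro i
    rcases hclass i with hi | hi | hi | hi
    · left; exact hN₁w i hi
    · right; left; exact hN₂w i hi
    · right; right; left
      rw [hY₁, Finset.mem_filter]; exact ⟨Finset.mem_univ _, hi⟩
    · right; right; right
      rw [hY₂, Finset.mem_filter]; exact ⟨Finset.mem_univ _, hi⟩
  · intro i hai hbi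
    rcases hclass i with hi | hi | hi | hi
    · exact hN₁w i hi
    · exfalso; omega
    · exfalso; omega
    · exfalso; omega
  · intro i hai hci
    rcases hclass i with hi | hi | hi | hi
    · exfalso; omega
    · exact hN₂w i hi
    · exfalso; omega
    · exfalso; omega
  · have : (Y₁.card : ℤ) * 2 = (h : ℤ) ^ 2 + h := by linarith
    exact_mod_cast this
  · have : (Y₂.card : ℤ) * 2 + h = (h : ℤ) ^ 2 := by linarith
    exact_mod_cast this

end Cfsg.Agent.Lib.Helper83.SzCov
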