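import Mathlib
import Cfsg.Agent.Lib.Helper53.SL2Pres.Defs
import Cfsg.Agent.Lib.Helper47.SL2PresComm1
import Cfsg.Agent.Lib.Helper47.SL2PresBraid
import Cfsg.Agent.Lib.Helper15.SL2PresClos

/-!
# S2286 (helper53), module [T1-ODD-PSL] (helper83): the relators of `PSL₂(q)`, `q` odd, give `Core`

`core_of_common_of` : the common part (with the closure lemma `comm_of_four` as a hypothesis).
-/

set_option autoImplicit false

namespace Cfsg.Agent.Lib.Helper83.SL2Pres

open Cfsg.Agent.Lib.Helper53 Cfsg.Agent.Lib.Helper53.Steinberg Cfsg.Agent.Lib.Helper53.SL2Pres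

variable {G : Type*} [Group G] {K : Type*} [Field K]

/-- for `e = 1` the product `pp h u b` is a power of `u` -/
theorem pp_eq_pow_of_one (h u : G) : ∀ (e : ℕ) (b : Fin e → ℕ), e = 1 → ∃ n, pp h u b = u ^ n := by
  intro e b he
  subst he
  refine ⟨b 0, ?_⟩
  simp [pp, uc_zero]

/-- the statement of module [CLOS4] -/
def Clos4 (G : Type*) [Group G] : Prop :=
  ∀ (h u : G) (k : ℕ), Commute u (uc h u 1) → Commute u (uc h u 2) →
    uc h u k = u * uc h u 1 ^ 2 * uc h u 2 → ∀ i j : ℕ, Commute (uc h u i) (uc h u j)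

/-- the common part of [T1-ODD-SL] and [T1-ODD-PSL] -/
theorem core_of_common_of (hclos : Clos4 G) (D : FieldData K) {u t s : G}
    (h : AllOne (relsOddCommon D u t s))
    (ht2 : (t * t) * u = u * (t * t)) (hst : s * s = t * t) : Core D u t s := by
  have h1 : u ^ D.p = 1 := h _ (by simp [relsOddCommon])
  have h2 : uc (s * t⁻¹) u D.e * (pp (s * t⁻¹) u D.b)⁻¹ = 1 := h _ (by simp [relsOddCommon])
  have h3 : u * (t * u * t⁻¹) * u * t⁻¹ = 1 := h _ (by simp [relsOddCommon])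
  have h4 : pp (s * t⁻¹) u D.c * (s * pp (s * t⁻¹) u D.c * s⁻¹) * pp (s * t⁻¹) u D.c * s⁻¹ = 1 :=
    h _ (by simp [relsOddCommon])
  have hpoly : uc (s * t⁻¹) u D.e = pp (s * t⁻¹) u D.b := mul_inv_eq_one.1 h2
  refine ⟨h1, ?_, hpoly, mul_inv_eq_one.1 h3, ht2, hst, mul_inv_eq_one.1 h4⟩
  by_cases he2 : 2 ≤ D.e
  · have c1 : u * uc (s * t⁻¹) u 1 * u⁻¹ * (uc (s * t⁻¹) u 1)⁻¹ = 1 :=
      h _ (by simp [relsOddCommon, he2])
    have c2 : u * uc (s * t⁻¹) u 2 * u⁻¹ * (uc (s * t⁻¹) u 2)⁻¹ = 1 :=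
      h _ (by simp [relsOddCommon, he2])
    have c3 : u * uc (s * t⁻¹) u 1 ^ 2 * uc (s * t⁻¹) u 2 * (uc (s * t⁻¹) u D.k)⁻¹ = 1 :=
      h _ (by simp [relsOddCommon, he2])
    have hc : ∀ x : G, u * x * u⁻¹ * x⁻¹ = 1 → Commute u x := by
      intro x hx
      have h5 : u * x * u⁻¹ = x := mul_inv_eq_one.1 hx
      have h6 : u * x = x * u := mul_inv_eq_iff_eq_mul.1 h5
      exact h6
    exact hclos (s * t⁻¹) u D.k (hc _ c1) (hc _ c2) (mul_inv_eq_one.1 c3).symm
  · have he1 : D.e = 1 := by have := D.he; omega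
    obtain ⟨n, hn⟩ := pp_eq_pow_of_one (s * t⁻¹) u D.e D.b he1
    have hrel : uc (s * t⁻¹) u 1 = u ^ n := by
      rw [← hn, ← hpoly, he1]
    exact Cfsg.Agent.Lib.Helper47.SL2Pres.comm_of_cyclic (s * t⁻¹) u n hrel

/-- [T1-ODD-PSL] with [CLOS4] as a hypothesis -/
theorem core_of_relsOddPSL_of (hclos : Clos4 G) (D : FieldData K) {u t s : G}
    (h : AllOne (relsOddPSL D u t s)) : Core D u t s := by
  unfold relsOddPSL at h
  rw [allOne_append] at h
  have ht : t * t = 1 := h.2 _ (by simp)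
  have hs : s * s = 1 := h.2 _ (by simp)
  exact core_of_common_of hclos D h.1 (by rw [ht, one_mul, mul_one]) (by rw [ht, hs])

/-- [T1-ODD-SL] with [CLOS4] as a hypothesis -/
theorem core_of_relsOddSL_of (hclos : Clos4 G) (D : FieldData K) {u t s : G}
    (h : AllOne (relsOddSL D u t s)) : Core D u t s := by
  unfold relsOddSL at h
  rw [allOne_append] at h
  have hb : (t * u * t⁻¹) * u * (t * u * t⁻¹) * t⁻¹ = 1 := h.2 _ (by simp)
  have hs : s * s * (t * t)⁻¹ = 1 := h.2 _ (by simp)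
  have h3 : u * (t * u * t⁻¹) * u * t⁻¹ = 1 := h.1 _ (by simp [relsOddCommon])
  exact core_of_common_of hclos D h.1
    (Cfsg.Agent.Lib.Helper47.SL2Pres.sq_comm_of_braid u t (mul_inv_eq_one.1 h3)
      (mul_inv_eq_one.1 hb)) (mul_inv_eq_one.1 hs)

theorem clos4 : Clos4 G := fun h u k c1 c2 rel =>
  Cfsg.Agent.Lib.Helper15.SL2Pres.comm_of_four h u k c1 c2 rel

/-- **[T1-ODD-PSL]** (exact sheet statement) -/
theorem core_of_relsOddPSL (D : FieldData K) {u t s : G} (h : AllOne (relsOddPSL D u t s)) :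
    Core D u t s :=
  core_of_relsOddPSL_of clos4 D h

/-- **[T1-ODD-SL]** (exact sheet statement) -/
theorem core_of_relsOddSL (D : FieldData K) {u t s : G} (h : AllOne (relsOddSL D u t s)) :
    Core D u t s :=
  core_of_relsOddSL_of clos4 D h

end Cfsg.Agent.Lib.Helper83.SL2Pres
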