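import Mathlib
import Cfsg.Agent.Lib.Helper53.SL2Pres.Defs
import Cfsg.Agent.Lib.Helper47.SL2PresComm1
import Cfsg.Agent.Lib.Helper15.SL2PresClos3
import Cfsg.Agent.Lib.Helper12.SL2PresXmap1
import Cfsg.Agent.Lib.Helper83.SL2PresT1OddPSL

/-!
# S2286 (helper53), module [T1-EVEN] (helper83): the relators of `SL₂(q)`, `q` even, give `Core`
-/

set_option autoImplicit false

namespace Cfsg.Agent.Lib.Helper83.SL2Pres

open Cfsg.Agent.Lib.Helper53 Cfsg.Agent.Lib.Helper53.Steinberg Cfsg.Agent.Lib.Helper53.SL2Pres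

variable {G : Type*} [Group G] {K : Type*} [Field K]

/-- the braid relation for an involution `x`: `x w x = w x w` gives `w² = 1` and `x (w x w⁻¹) x = w` -/
theorem even_braid (x w : G) (hx : x * x = 1) (hb : x * w * x = w * x * w) :
    w * w = 1 ∧ x * (w * x * w⁻¹) * x = w := by
  have hxi : x⁻¹ = x := inv_eq_of_mul_eq_one_left hx
  -- `w = (x w) x (x w)⁻¹`
  have h1 : w = (x * w) * x * (x * w)⁻¹ := by
    rw [eq_mul_inv_iff_mul_eq]
    calc w * (x * w) = w * x * w := by group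
      _ = x * w * x := hb.symm
  have hw : w * w = 1 := by
    have : w * w = (x * w) * (x * x) * (x * w)⁻¹ := by
      conv_lhs => rw [h1]
      group
    rw [this, hx]
    group
  have hwi : w⁻¹ = w := inv_eq_of_mul_eq_one_left hw
  refine ⟨hw, ?_⟩
  rw [hwi]
  calc x * (w * x * w) * x = (x * w * x) * w * x := by group
    _ = (w * x * w) * w * x := by rw [hb]
    _ = w * x * (w * w) * x := by group
    _ = w := by rw [hw, mul_one, mul_assoc, hx, mul_one]

/-- **[T1-EVEN]** (exact sheet statement) -/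
theorem core_of_relsEven (D : FieldData K) (hp : D.p = 2) {u t s : G}
    (h : AllOne (relsEven D u t s)) : Core D u t s := by
  have h1 : u * u = 1 := h _ (by simp [relsEven])
  have h2 : u * t * u * (t * u * t)⁻¹ = 1 := h _ (by simp [relsEven])
  have h3 : pp (s * t⁻¹) u D.c * s * pp (s * t⁻¹) u D.c * (s * pp (s * t⁻¹) u D.c * s)⁻¹ = 1 :=
    h _ (by simp [relsEven])
  have h4 : uc (s * t⁻¹) u D.e * (pp (s * t⁻¹) u D.b)⁻¹ = 1 := h _ (by simp [relsEven])
  have hpoly : uc (s * t⁻¹) u D.e = pp (s * t⁻¹) u D.b := mul_inv_eq_one.1 h4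
  have hup : u ^ D.p = 1 := by rw [hp, pow_two, h1]
  -- the conjugates of `u` commute
  have hcomm : ∀ i j : ℕ, Commute (uc (s * t⁻¹) u i) (uc (s * t⁻¹) u j) := by
    by_cases he2 : 2 ≤ D.e
    · have c3 : u * uc (s * t⁻¹) u 1 * (uc (s * t⁻¹) u D.k)⁻¹ = 1 :=
        h _ (by simp [relsEven, he2])
      exact Cfsg.Agent.Lib.Helper15.SL2Pres.comm_of_three (s * t⁻¹) u D.k h1
        (mul_inv_eq_one.1 c3).symm
    · have he1 : D.e = 1 := by have := D.he; omega
      obtain ⟨n, hn⟩ := pp_eq_pow_of_one (s * t⁻¹) u D.e D.b he1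
      have hrel : uc (s * t⁻¹) u 1 = u ^ n := by
        rw [← hn, ← hpoly, he1]
      exact Cfsg.Agent.Lib.Helper47.SL2Pres.comm_of_cyclic (s * t⁻¹) u n hrel
  -- `Xl` is an involution
  have hXl : pp (s * t⁻¹) u D.c * pp (s * t⁻¹) u D.c = 1 := by
    rw [← Cfsg.Agent.Lib.Helper12.SL2Pres.pp_add (s * t⁻¹) u hcomm,
      ← Cfsg.Agent.Lib.Helper12.SL2Pres.pp_zero_fun (s * t⁻¹) u (e := D.e)]
    apply Cfsg.Agent.Lib.Helper12.SL2Pres.pp_congr
    intro i
    have h5 : uc (s * t⁻¹) u i ^ 2 = 1 :=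
      Cfsg.Agent.Lib.Helper12.SL2Pres.uc_pow_eq_one (s * t⁻¹) u (by rw [pow_two, h1]) i
    rw [Pi.add_apply, ← two_mul, pow_mul, h5, one_pow, pow_zero]
  obtain ⟨ht, hw1⟩ := even_braid u t h1 (mul_inv_eq_one.1 h2)
  obtain ⟨hs, hwl⟩ := even_braid (pp (s * t⁻¹) u D.c) s hXl (mul_inv_eq_one.1 h3)
  exact ⟨hup, hcomm, hpoly, hw1, by rw [ht, one_mul, mul_one], by rw [hs, ht], hwl⟩

end Cfsg.Agent.Lib.Helper83.SL2Pres
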