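import Mathlib
import Cfsg.Prelude.Def_GeometricClasses
import Cfsg.Agent.Lib.Helper94.BHRSP.Kit
import Cfsg.Agent.Lib.Helper83.DecompKit

/-!
# BHRSP-[E-Q2] (helper94's project BHRSP) (helper83)

`decomp_planes_card_two`: over the field with two elements the stabiliser of a decomposition into non-degenerate
planes preserves the quadratic form `Q v = #{i : the i-th component of v is non-zero}`, whose polar form is the
symplectic form.
-/

set_option autoImplicit false

namespace Cfsg.Agent.Lib.Helper83.BhrspEQ2

open Cfsg Cfsg.Geo Cfsg.Agent.Lib.Helper94 Cfsg.Agent.Lib.Helper94.BHRSP Cfsg.Agent.Lib.Helper83.Decomp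
open scoped MatrixGroups Matrix

variable {F : Type*} [Field F] {m : ℕ}

theorem sympForm_sum_left {κ : Type*} (s : Finset κ) (w : κ → Fin m ⊕ Fin m → F) (v : Fin m ⊕ Fin m → F) :
    sympForm m F (∑ i ∈ s, w i) v = ∑ i ∈ s, sympForm m F (w i) v := by
  simp only [← sympBilin_apply, map_sum, LinearMap.sum_apply]

theorem sympForm_sum_right {κ : Type*} (s : Finset κ) (w : κ → Fin m ⊕ Fin m → F) (v : Fin m ⊕ Fin m → F) :
    sympForm m F v (∑ i ∈ s, w i) = ∑ i ∈ s, sympForm m F v (w i) := by
  simp only [← sympBilin_apply, map_sum]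

theorem sympForm_zero_left (v : Fin m ⊕ Fin m → F) : sympForm m F 0 v = 0 := by
  simp only [← sympBilin_apply, map_zero, LinearMap.zero_apply]

theorem sympForm_zero_right (v : Fin m ⊕ Fin m → F) : sympForm m F v 0 = 0 := by
  simp only [← sympBilin_apply, map_zero]

/-- the indicator of the non-zero vectors -/
noncomputable def ind (w : Fin m ⊕ Fin m → F) : F := by
  classical exact if w = 0 then 0 else 1

theorem ind_zero : ind (0 : Fin m ⊕ Fin m → F) = 0 := by
  classical
  simp [ind]

theorem ind_ne {w : Fin m ⊕ Fin m → F} (hw : w ≠ 0) : ind w = 1 := by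
  classical
  simp [ind, hw]

variable [Fintype F]

theorem eq_zero_or_one (hq : Fintype.card F = 2) (c : F) : c = 0 ∨ c = 1 := by
  classical
  by_contra h
  push Not at h
  have h1 : Fintype.card Fˣ = 1 := by rw [Fintype.card_units, hq]
  have hsub : Subsingleton Fˣ := Fintype.card_le_one_iff_subsingleton.mp h1.le
  have h2 := hsub.elim (Units.mk0 c h.1) 1
  exact h.2 (by simpa using congrArg Units.val h2)

theorem one_add_one (hq : Fintype.card F = 2) : (1 + 1 : F) = 0 := by
  rcases eq_zero_or_one hq (1 + 1 : F) with h | h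
  · exact h
  · exfalso
    exact one_ne_zero (α := F) (by linear_combination h)

theorem add_self_vec (hq : Fintype.card F = 2) {M : Type*} [AddCommGroup M] [Module F M] (a : M) : a + a = 0 := by
  have : a + a = ((1 : F) + 1) • a := by rw [add_smul, one_smul]
  rw [this, one_add_one hq, zero_smul]

/-- the plane lemma: on a non-degenerate plane over `F₂` the polar form of the indicator is the form -/
theorem plane_polar (hq : Fintype.card F = 2) (W : Submodule F (Fin m ⊕ Fin m → F))
    (hfr : Module.finrank F W = 2) (hnd : IsNondegenerateOn (sympForm m F) W)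
    {a b : Fin m ⊕ Fin m → F} (ha : a ∈ W) (hb : b ∈ W) :
    ind (a + b) - ind a - ind b = sympForm m F a b := by
  by_cases ha0 : a = 0
  · subst ha0; rw [zero_add, ind_zero, sympForm_zero_left]; ring
  by_cases hb0 : b = 0
  · subst hb0; rw [add_zero, ind_zero, sympForm_zero_right]; ring
  by_cases hab : a = b
  · subst hab
    rw [add_self_vec hq, ind_zero, ind_ne ha0, sympForm_self]
    linear_combination -(one_add_one hq)
  have hab0 : a + b ≠ 0 := by
    intro h
    apply hab
    have := add_self_vec hq b
    exact add_right_cancel (h.trans this.symm)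
  rw [ind_ne hab0, ind_ne ha0, ind_ne hb0]
  -- need `f a b = 1`
  have hne : sympForm m F a b ≠ 0 := by
    intro h0
    have hli : LinearIndependent F ![a, b] := by
      rw [LinearIndependent.pair_iff]
      intro s t hst
      rcases eq_zero_or_one hq s with hs | hs <;> rcases eq_zero_or_one hq t with ht | ht
      · exact ⟨hs, ht⟩
      · exfalso; apply hb0; simpa [hs, ht] using hst
      · exfalso; apply ha0; simpa [hs, ht] using hst
      · exfalso; apply hab0; simpa [hs, ht] using hst
    have hspan : Submodule.span F (Set.range ![a, b]) = W := by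
      apply Submodule.eq_of_le_of_finrank_eq
      · rw [Submodule.span_le]
        rintro x ⟨i, rfl⟩
        fin_cases i
        · exact ha
        · exact hb
      · rw [finrank_span_eq_card hli, hfr, Fintype.card_fin]
    obtain ⟨⟨x, hxW, hx⟩, _⟩ := hnd a ha ha0
    rw [← hspan, Matrix.range_cons, Matrix.range_cons, Matrix.range_empty, Set.union_empty,
      Set.singleton_union, Submodule.mem_span_pair] at hxW
    obtain ⟨α, β, rfl⟩ := hxW
    apply hx
    rw [sympForm_add_left, sympForm_smul_left, sympForm_smul_left, sympForm_self, sympForm_skew b a, h0]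
    ring
  rcases eq_zero_or_one hq (sympForm m F a b) with h | h
  · exact absurd h hne
  · rw [h]; linear_combination -(one_add_one hq)

end Cfsg.Agent.Lib.Helper83.BhrspEQ2

namespace Cfsg.Agent.Lib.Helper94.BHRSP

open Cfsg Cfsg.Geo Cfsg.Agent.Lib.Helper83.Decomp Cfsg.Agent.Lib.Helper83.BhrspEQ2
open scoped MatrixGroups Matrix Kronecker

variable {F : Type*} [Field F] [Fintype F] {m : ℕ}

/-- **[E-Q2]** `|F| = 2`: the stabiliser of a decomposition into non-degenerate planes lies in the group of a
quadratic form with polar form `sympForm`. -/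
theorem decomp_planes_card_two (hq : Fintype.card F = 2) {t : ℕ} (D : Fin t → Submodule F (Fin m ⊕ Fin m → F))
    (hD : IsNondegenerateMDecomposition (sympForm m F) 2 D) :
    ∃ Q : (Fin m ⊕ Fin m → F) → F, IsNondegenerateQuadraticForm Q ∧
      (∀ u v, QuadraticMap.polar Q u v = sympForm m F u v) ∧
      decompositionStabilizer D ⊓ spGL m F ≤ quadSimilarityGroup Q ⊓ spGL m F := by
  have hind := hD.decomp.indep
  have htop := hD.decomp.iSup_eq_top
  set Q : (Fin m ⊕ Fin m → F) → F := fun v => ∑ i, ind (comp htop v i) with hQ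
  have hpol : ∀ u v, QuadraticMap.polar Q u v = sympForm m F u v := by
    intro u v
    have h1 : sympForm m F u v = ∑ i, sympForm m F (comp htop u i) (comp htop v i) := by
      conv_lhs => rw [← sum_comp htop u, ← sum_comp htop v]
      rw [sympForm_sum_left]
      refine Finset.sum_congr rfl fun i _ => ?_
      rw [sympForm_sum_right, Finset.sum_eq_single i]
      · intro j _ hji
        exact hD.orthogonal i j (Ne.symm hji) _ (comp_mem htop u i) _ (comp_mem htop v j)
      · intro h; exact absurd (Finset.mem_univ i) h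
    rw [h1, QuadraticMap.polar, hQ]
    simp only
    rw [← Finset.sum_sub_distrib, ← Finset.sum_sub_distrib]
    refine Finset.sum_congr rfl fun i _ => ?_
    rw [comp_add hind htop, Pi.add_apply]
    exact plane_polar hq (D i) (hD.decomp.finrank_eq i) (hD.nondegenerate i) (comp_mem htop u i)
      (comp_mem htop v i)
  refine ⟨Q, ⟨?_, ?_, ?_⟩, hpol, ?_⟩
  · intro c v
    rcases eq_zero_or_one hq c with hc | hc
    · subst hc
      rw [zero_smul, hQ]
      simp only [comp_zero hind htop, Pi.zero_apply, ind_zero, Finset.sum_const_zero]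
      ring
    · subst hc
      rw [one_smul]; ring
  · have hb := (isSymplecticForm_sympForm (F := F) (m := m)).bilinear
    have hfun : QuadraticMap.polar Q = sympForm m F := by
      funext u v; exact hpol u v
    rw [hfun]; exact hb
  · have hfun : QuadraticMap.polar Q = sympForm m F := by
      funext u v; exact hpol u v
    rw [hfun]; exact (isSymplecticForm_sympForm (F := F) (m := m)).nondegenerate
  · intro g hg
    refine ⟨?_, hg.2⟩
    obtain ⟨σ, hσ⟩ := hg.1
    refine ⟨1, fun v => ?_⟩
    rw [Units.val_one, one_mul]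
    set A : Matrix (Fin m ⊕ Fin m) (Fin m ⊕ Fin m) F := (g : Matrix (Fin m ⊕ Fin m) (Fin m ⊕ Fin m) F) with hA
    have hinj : ∀ w : Fin m ⊕ Fin m → F, A *ᵥ w = 0 → w = 0 := by
      intro w hw
      have := congrArg (fun x => ((g⁻¹ : GL (Fin m ⊕ Fin m) F) : Matrix (Fin m ⊕ Fin m) (Fin m ⊕ Fin m) F) *ᵥ x) hw
      simp only [hA, Matrix.mulVec_mulVec, ← Units.val_mul, inv_mul_cancel, Units.val_one, Matrix.one_mulVec,
        Matrix.mulVec_zero] at this
      exact this
    have hcomp : comp htop (A *ᵥ v) = fun j => A *ᵥ comp htop v (σ.symm j) := by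
      apply comp_eq hind htop
      · intro j
        have h1 := hσ (σ.symm j)
        rw [Equiv.apply_symm_apply] at h1
        rw [← h1]
        exact Submodule.mem_map.mpr ⟨_, comp_mem htop v (σ.symm j), by rw [Matrix.toLin'_apply]⟩
      · rw [Equiv.sum_comp σ.symm (fun i => A *ᵥ comp htop v i)]
        conv_rhs => rw [← sum_comp htop v]
        rw [Matrix.mulVec_sum]
    show ∑ j, ind (comp htop (A *ᵥ v) j) = ∑ i, ind (comp htop v i)
    rw [hcomp, ← Equiv.sum_comp σ.symm (fun i => ind (comp htop v i))]
    refine Finset.sum_congr rfl fun j _ => ?_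
    show ind (A *ᵥ comp htop v (σ.symm j)) = ind (comp htop v (σ.symm j))
    by_cases h0 : comp htop v (σ.symm j) = 0
    · rw [h0, Matrix.mulVec_zero]
    · rw [ind_ne h0, ind_ne (fun h => h0 (hinj _ h))]

end Cfsg.Agent.Lib.Helper94.BHRSP
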