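import Mathlib

/-!
# S0889-[GT]: small group theory lemmas for Berger's theorem (helper83, for helper80's sheet)

* `exists_p_step`: above a proper subgroup `D` of a solvable `H`, normalized by `H`, there is a
  subgroup `M` normalized by `H` with `|M : D|` a power of `p` or prime to `p`.
* `sup_normal`: if `H K = Γ`, `K` normal and `D ≤ H` normalized by `H`, then `K D` is normal.
* `relIndex_sup`: `|K M : K D| = |M : D|` when `H ∩ K = N ≤ D ≤ M ≤ H`.
-/

set_option autoImplicit false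
set_option linter.unusedVariables false

namespace Cfsg.Agent.Lib.Helper83.BergerGT

universe u

open scoped commutatorElement

/-- In a nontrivial finite solvable group there is a nontrivial normal subgroup whose order is a
power of `p` or prime to `p`. -/
theorem exists_normal_pow_or_coprime {Q : Type u} [Group Q] [Finite Q] [Group.IsSolvable Q]
    [Nontrivial Q] (p : ℕ) [Fact p.Prime] :
    ∃ A : Subgroup Q, A.Normal ∧ A ≠ ⊥ ∧
      ((∃ j : ℕ, Nat.card A = p ^ j) ∨ (Nat.card A).Coprime p) := by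
  classical
  have hp : p.Prime := Fact.out
  -- the last nontrivial term of the derived series
  obtain ⟨n, hn⟩ := (Group.isSolvable_def Q).mp inferInstance
  have hex : ∃ n, derivedSeries Q n = ⊥ := ⟨n, hn⟩
  set m := Nat.find hex with hm
  have hm0 : m ≠ 0 := by
    intro h0
    have h1 : derivedSeries Q 0 = ⊥ := by
      have := Nat.find_spec hex
      rw [← hm, h0] at this
      exact this
    rw [derivedSeries_zero] at h1
    exact top_ne_bot h1
  obtain ⟨k, hk⟩ := Nat.exists_eq_succ_of_ne_zero hm0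
  set A := derivedSeries Q k with hA
  have hAn : A.Normal := derivedSeries_normal Q k
  have hAne : A ≠ ⊥ := by
    intro h
    have : m ≤ k := Nat.find_min' hex h
    omega
  have hAab : ⁅A, A⁆ = ⊥ := by
    have := Nat.find_spec hex
    rw [← hm, hk, derivedSeries_succ] at this
    exact this
  have hcomm : ∀ a ∈ A, ∀ b ∈ A, Commute a b := by
    intro a ha b hb
    have h1 : ⁅a, b⁆ ∈ ⁅A, A⁆ := Subgroup.commutator_mem_commutator ha hb
    rw [hAab, Subgroup.mem_bot] at h1
    exact commutatorElement_eq_one_iff_commute.mp h1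
  by_cases hpA : p ∣ Nat.card A
  · -- the `p`-torsion part of `A`
    set N := p ^ Nat.card Q with hN
    let Ap : Subgroup Q :=
      { carrier := {a | a ∈ A ∧ a ^ N = 1}
        mul_mem' := by
          rintro a b ⟨ha, hap⟩ ⟨hb, hbp⟩
          refine ⟨A.mul_mem ha hb, ?_⟩
          rw [(hcomm a ha b hb).mul_pow, hap, hbp, one_mul]
        one_mem' := ⟨A.one_mem, one_pow _⟩
        inv_mem' := by
          rintro a ⟨ha, hap⟩
          refine ⟨A.inv_mem ha, ?_⟩
          rw [inv_pow, hap, inv_one] }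
    have hApn : Ap.Normal := by
      constructor
      rintro a ⟨ha, hap⟩ g
      refine ⟨hAn.conj_mem a ha g, ?_⟩
      rw [conj_pow, hap, mul_one, mul_inv_cancel]
    have hApne : Ap ≠ ⊥ := by
      obtain ⟨x, hx⟩ := exists_prime_orderOf_dvd_card' p hpA
      intro h
      have hxmem : (x : Q) ∈ Ap := by
        refine ⟨x.2, ?_⟩
        have h1 : (x : Q) ^ p = 1 := by
          have : x ^ p = 1 := by rw [← hx]; exact pow_orderOf_eq_one x
          exact_mod_cast congrArg Subtype.val this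
        have hpos : 0 < Nat.card Q := Nat.card_pos
        obtain ⟨c, hc⟩ : p ∣ N := dvd_pow_self p hpos.ne'
        rw [hc, pow_mul, h1, one_pow]
      rw [h, Subgroup.mem_bot] at hxmem
      have hx1 : x = 1 := Subtype.ext hxmem
      rw [hx1, orderOf_one] at hx
      exact hp.one_lt.ne' hx.symm
    refine ⟨Ap, hApn, hApne, Or.inl ?_⟩
    have hpg : IsPGroup p Ap := by
      intro y
      refine ⟨Nat.card Q, ?_⟩
      have := y.2.2
      exact Subtype.ext this
    exact IsPGroup.iff_card.mp hpg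
  · exact ⟨A, hAn, hAne, Or.inr ((Nat.Prime.coprime_iff_not_dvd hp).mpr hpA).symm⟩

/-- [GT] (1). -/
theorem exists_p_step {Γ : Type u} [Group Γ] [Finite Γ] (p : ℕ) [Fact p.Prime]
    (H D : Subgroup Γ) (hsolv : Group.IsSolvable H)
    (hDH : D ≤ H) (hDn : ∀ h ∈ H, ∀ d ∈ D, h * d * h⁻¹ ∈ D) (hne : D ≠ H) :
    ∃ M : Subgroup Γ, D < M ∧ M ≤ H ∧ (∀ h ∈ H, ∀ m ∈ M, h * m * h⁻¹ ∈ M) ∧
      ((∃ j : ℕ, D.relIndex M = p ^ j) ∨ (D.relIndex M).Coprime p) := by
  classical
  set D' : Subgroup H := D.subgroupOf H with hD'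
  have hD'n : D'.Normal := by
    constructor
    intro d hd h
    rw [hD', Subgroup.mem_subgroupOf] at hd ⊢
    exact hDn h h.2 d hd
  have hD'top : D' ≠ ⊤ := by
    intro h
    apply hne
    apply le_antisymm hDH
    intro x hx
    have : (⟨x, hx⟩ : H) ∈ D' := by rw [h]; trivial
    exact Subgroup.mem_subgroupOf.mp this
  set π := QuotientGroup.mk' D' with hπ
  have hπs : Function.Surjective π := QuotientGroup.mk'_surjective D'
  have : Group.IsSolvable (H ⧸ D') := Group.isSolvable_of_surjective hπs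
  have : Nontrivial (H ⧸ D') := by
    obtain ⟨x, -, hx⟩ := SetLike.exists_of_lt (lt_top_iff_ne_top.mpr hD'top)
    refine ⟨⟨π x, 1, ?_⟩⟩
    intro h
    rw [hπ, QuotientGroup.mk'_apply, QuotientGroup.eq_one_iff] at h
    exact hx h
  obtain ⟨A, hAn, hAne, hA⟩ := exists_normal_pow_or_coprime (Q := H ⧸ D') p
  set M' : Subgroup H := A.comap π with hM'
  have hM'n : M'.Normal := hAn.comap π
  have hD'M' : D' ≤ M' := by
    intro x hx
    rw [hM', Subgroup.mem_comap, hπ, QuotientGroup.mk'_apply,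
      (QuotientGroup.eq_one_iff x).mpr hx]
    exact A.one_mem
  have hrel : D'.relIndex M' = Nat.card A := by
    have h1 : D' = (⊥ : Subgroup (H ⧸ D')).comap π := by
      rw [MonoidHom.comap_bot, hπ, QuotientGroup.ker_mk']
    have h2 : M'.map π = A := Subgroup.map_comap_eq_self_of_surjective hπs A
    conv_lhs => rw [h1]
    rw [Subgroup.relIndex_comap, h2, Subgroup.relIndex_bot_left]
  set M : Subgroup Γ := M'.map H.subtype with hM
  have hDmap : D'.map H.subtype = D := by
    rw [hD', Subgroup.subgroupOf_map_subtype]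
    exact inf_eq_left.mpr hDH
  have hDM : D ≤ M := by
    rw [← hDmap, hM]
    exact Subgroup.map_mono hD'M'
  have hMH : M ≤ H := by
    rw [hM]
    exact Subgroup.map_subtype_le M'
  have hrel' : D.relIndex M = Nat.card A := by
    rw [← hrel, ← hDmap, hM]
    exact Subgroup.relIndex_map_map_of_injective D' M' H.subtype_injective
  have hcardA : Nat.card A ≠ 1 := by
    intro h
    exact hAne (Subgroup.card_eq_one.mp h)
  refine ⟨M, lt_of_le_of_ne hDM ?_, hMH, ?_, ?_⟩
  · intro h
    rw [← h, Subgroup.relIndex_self] at hrel'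
    exact hcardA hrel'.symm
  · intro h hh m hm
    rw [hM, Subgroup.mem_map] at hm ⊢
    obtain ⟨m', hm', rfl⟩ := hm
    refine ⟨⟨h, hh⟩ * m' * ⟨h, hh⟩⁻¹, hM'n.conj_mem m' hm' ⟨h, hh⟩, ?_⟩
    simp
  · rw [hrel']
    exact hA

/-- [GT] (2). -/
theorem sup_normal {Γ : Type u} [Group Γ] (H K D : Subgroup Γ) [K.Normal] (hsup : H ⊔ K = ⊤)
    (hDH : D ≤ H) (hDn : ∀ h ∈ H, ∀ d ∈ D, h * d * h⁻¹ ∈ D) : (K ⊔ D).Normal := by
  have hK : K.Normal := inferInstance
  -- conjugation by elements of `H` and of `K` preserves `K ⊔ D`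
  have h1 : ∀ h ∈ H, ∀ n ∈ K ⊔ D, h * n * h⁻¹ ∈ K ⊔ D := by
    intro h hh n hn
    obtain ⟨k, hk, d, hd, rfl⟩ := Subgroup.mem_sup_of_normal_left.mp hn
    have : h * (k * d) * h⁻¹ = (h * k * h⁻¹) * (h * d * h⁻¹) := by group
    rw [this]
    exact (K ⊔ D).mul_mem (Subgroup.mem_sup_left (hK.conj_mem k hk h))
      (Subgroup.mem_sup_right (hDn h hh d hd))
  have h2 : ∀ k ∈ K, ∀ n ∈ K ⊔ D, k * n * k⁻¹ ∈ K ⊔ D := by
    intro k hk n hn
    have hk' : k ∈ K ⊔ D := Subgroup.mem_sup_left hk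
    exact (K ⊔ D).mul_mem ((K ⊔ D).mul_mem hk' hn) ((K ⊔ D).inv_mem hk')
  have hnorm : ∀ (S : Subgroup Γ), (∀ s ∈ S, ∀ n ∈ K ⊔ D, s * n * s⁻¹ ∈ K ⊔ D) →
      S ≤ Subgroup.normalizer ((K ⊔ D : Subgroup Γ) : Set Γ) := by
    intro S hS s hs
    rw [Subgroup.mem_normalizer_iff]
    intro n
    refine ⟨hS s hs n, fun hn => ?_⟩
    have := hS s⁻¹ (S.inv_mem hs) _ hn
    rw [inv_inv] at this
    have h3 : s⁻¹ * (s * n * s⁻¹) * s = n := by group
    rw [h3] at this
    exact this
  have htop : Subgroup.normalizer ((K ⊔ D : Subgroup Γ) : Set Γ) = ⊤ := by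
    rw [eq_top_iff, ← hsup]
    exact sup_le (hnorm H h1) (hnorm K h2)
  exact Subgroup.normalizer_eq_top_iff.mp htop

/-- [GT] (3). -/
theorem relIndex_sup {Γ : Type u} [Group Γ] [Finite Γ] (H K N D M : Subgroup Γ) [K.Normal]
    (hinf : H ⊓ K = N) (hND : N ≤ D) (hDM : D ≤ M) (hMH : M ≤ H) :
    (K ⊔ D).relIndex (K ⊔ M) = D.relIndex M := by
  have hNK : N ≤ K := hinf ▸ inf_le_right
  have key : ∀ S : Subgroup Γ, N ≤ S → S ≤ H → K.relIndex (K ⊔ S) = N.relIndex S := by
    intro S hNS hSH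
    have h1 : K ⊓ S = N := by
      apply le_antisymm
      · rw [← hinf]
        exact le_inf (inf_le_right.trans hSH) inf_le_left
      · exact le_inf hNK hNS
    rw [Subgroup.relIndex_sup_left, ← Subgroup.inf_relIndex_right, h1]
  have hM := key M (hND.trans hDM) hMH
  have hD := key D hND (hDM.trans hMH)
  have h1 : K.relIndex (K ⊔ D) * (K ⊔ D).relIndex (K ⊔ M) = K.relIndex (K ⊔ M) :=
    Subgroup.relIndex_mul_relIndex K (K ⊔ D) (K ⊔ M) le_sup_left (sup_le_sup_left hDM K)
  have h2 : N.relIndex D * D.relIndex M = N.relIndex M :=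
    Subgroup.relIndex_mul_relIndex N D M hND hDM
  rw [hM, hD, ← h2] at h1
  have hpos : 0 < N.relIndex D :=
    Nat.pos_of_ne_zero (Subgroup.index_ne_zero_of_finite (H := N.subgroupOf D))
  exact Nat.eq_of_mul_eq_mul_left hpos h1

end Cfsg.Agent.Lib.Helper83.BergerGT
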