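import Mathlib
import Cfsg.Agent.Lib.Helper75.Clifford

/-!
# S0889-[QP-XI] (helper83, for helper80's Berger sheet)

`D ≤ M ≤ H`, `D` normalized by `H`, `ψ ∈ Irr(H)`, `ξD ∈ Irr(D)` and `ξM ∈ Irr(M)` constituents of
the restrictions of `ψ`.  Then `ξM(1)` is a natural multiple of `ξD(1)`.
-/

set_option autoImplicit false
set_option linter.unusedVariables false
set_option linter.unusedSectionVars false

namespace Cfsg.Agent.Lib.Helper83.BergerQPXi

open Cfsg
open Cfsg.Agent.Lib.Helper75 Cfsg.Agent.Lib.Helper78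
open scoped ComplexConjugate

universe u

/-- transport of `classInner` along a bijection -/
theorem classInner_comp_equiv' {A B : Type u} [Group A] [Group B] [Fintype A] [Fintype B]
    (e : A ≃* B) (f h : B → ℂ) : classInner (f ∘ e) (h ∘ e) = classInner f h := by
  unfold classInner
  rw [Nat.card_congr e.toEquiv]
  congr 1
  exact Fintype.sum_equiv e.toEquiv _ _ (fun a => rfl)

/-- The inner product of two characters is a natural number. -/
theorem exists_nat_classInner_of_isCharacter {A : Type u} [Group A] [Fintype A] {α β : A → ℂ}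
    (hα : IsCharacter A α) (hβ : IsCharacter A β) : ∃ n : ℕ, classInner α β = n := by
  classical
  obtain ⟨m, hm⟩ := (isCharacter_iff_exists_nat_combination β).mp hβ
  choose k hk using fun φ : IrrCharacter A => IsCharacter.exists_nat_classInner hα φ
  refine ⟨∑ φ : IrrCharacter A, k φ * m φ, ?_⟩
  rw [hm]
  have h1 : ∀ (s : Finset (IrrCharacter A)),
      classInner α (∑ φ ∈ s, (m φ : ℂ) • (φ : A → ℂ)) = ∑ φ ∈ s, ((k φ * m φ : ℕ) : ℂ) := by
    intro s
    induction s using Finset.induction_on with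
    | empty =>
      simp only [Finset.sum_empty]
      unfold classInner
      simp
    | insert a s ha ih =>
      rw [Finset.sum_insert ha, Finset.sum_insert ha, classInner_add_right, ih,
        classInner_smul_right, hk a]
      simp only [Complex.conj_natCast]
      push_cast
      ring
  rw [h1]
  push_cast
  rfl

variable {G : Type u} [Group G] [Fintype G]

/-- Clifford: all irreducible constituents of `ψ|_D` have the same degree. -/
theorem degree_eq_of_constituents (H D : Subgroup G) [Fintype D] (hDH : D ≤ H)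
    (hDn : ∀ h ∈ H, ∀ d ∈ D, h * d * h⁻¹ ∈ D) (ψ : H → ℂ) (hψ : IsIrrCharacter H ψ)
    (ξ ξ' : D → ℂ) (hξ : IsIrrCharacter D ξ) (hξ' : IsIrrCharacter D ξ')
    (hc : classInner (fun d : D => ψ ⟨d, hDH d.2⟩) ξ ≠ 0)
    (hc' : classInner (fun d : D => ψ ⟨d, hDH d.2⟩) ξ' ≠ 0) : ξ' 1 = ξ 1 := by
  classical
  have : Fintype H := Fintype.ofFinite H
  set N : Subgroup H := D.subgroupOf H with hN
  have hNn : N.Normal := by
    constructor
    intro d hd h
    rw [hN, Subgroup.mem_subgroupOf] at hd ⊢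
    exact hDn h h.2 d hd
  have : Fintype N := Fintype.ofFinite N
  let e : N ≃* D := Subgroup.subgroupOfEquivOfLe hDH
  have he : ∀ n : N, ((e n : D) : G) = ((n : H) : G) := fun n => rfl
  have hθ : IsIrrCharacter N (ξ ∘ e) :=
    Cfsg.Agent.Lib.Helper81.isIrrCharacter_comp_mulEquiv hξ e
  have hθ' : IsIrrCharacter N (ξ' ∘ e) :=
    Cfsg.Agent.Lib.Helper81.isIrrCharacter_comp_mulEquiv hξ' e
  have hres : (fun n : N => ψ n) = (fun d : D => ψ ⟨d, hDH d.2⟩) ∘ e := by
    funext n
    simp only [Function.comp_apply]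
    congr 1
  have h1 : classInner (fun n : N => ψ n) (ξ ∘ e) ≠ 0 := by
    rw [hres, classInner_comp_equiv' e]
    exact hc
  have h2 : classInner (fun n : N => ψ n) (ξ' ∘ e) ≠ 0 := by
    rw [hres, classInner_comp_equiv' e]
    exact hc'
  obtain ⟨g, hg⟩ := clifford_conj N hψ hθ hθ' h1 h2
  have h3 := congrFun hg 1
  rw [conjFun_apply] at h3
  have h4 : (⟨g * ((1 : N) : H) * g⁻¹, hNn.conj_mem (1 : N) (1 : N).2 g⟩ : N) = 1 := by
    apply Subtype.ext
    simp
  rw [h4] at h3
  simp only [Function.comp_apply, map_one] at h3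
  exact h3.symm

/-- [QP-XI]. -/
theorem xi_step (H D M : Subgroup G) [Fintype D] [Fintype M] (hDM : D ≤ M) (hMH : M ≤ H)
    (hDn : ∀ h ∈ H, ∀ d ∈ D, h * d * h⁻¹ ∈ D) (ψ : H → ℂ) (hψ : IsIrrCharacter H ψ)
    (ξD : D → ℂ) (ξM : M → ℂ) (hD : IsIrrCharacter D ξD) (hM : IsIrrCharacter M ξM)
    (hcD : classInner (fun d : D => ψ ⟨d, hMH (hDM d.2)⟩) ξD ≠ 0)
    (hcM : classInner (fun m : M => ψ ⟨m, hMH m.2⟩) ξM ≠ 0) :
    ∃ c : ℕ, ξM 1 = (c : ℂ) * ξD 1 := by
  classical
  have hψc : IsCharacter H ψ := IsIrrCharacter.isCharacter hψ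
  -- restrictions as characters
  set ψM : M → ℂ := fun m : M => ψ ⟨m, hMH m.2⟩ with hψM
  set ψD : D → ℂ := fun d : D => ψ ⟨d, hMH (hDM d.2)⟩ with hψD
  have hψMc : IsCharacter M ψM :=
    Cfsg.Agent.Lib.Helper81.isCharacter_comp hψc (Subgroup.inclusion hMH)
  have hresM : ∀ (η : M → ℂ), IsCharacter M η → IsCharacter D (fun d : D => η ⟨d, hDM d.2⟩) :=
    fun η hη => Cfsg.Agent.Lib.Helper81.isCharacter_comp hη (Subgroup.inclusion hDM)
  set ξMD : D → ℂ := fun d : D => ξM ⟨d, hDM d.2⟩ with hξMD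
  have hξMDc : IsCharacter D ξMD := hresM ξM (IsIrrCharacter.isCharacter hM)
  -- multiplicities
  choose n hn using fun φ : IrrCharacter D => IsCharacter.exists_nat_classInner hξMDc φ
  -- every constituent of `ξM|_D` is a constituent of `ψ|_D`
  have hconst : ∀ φ : IrrCharacter D, n φ ≠ 0 → classInner ψD (φ : D → ℂ) ≠ 0 := by
    intro φ hφ
    obtain ⟨m, hm⟩ := (isCharacter_iff_exists_nat_combination ψM).mp hψMc
    have hmξ : m ⟨ξM, hM⟩ ≠ 0 := by
      intro h0
      apply hcM
      rw [hm]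
      have := classInner_nat_combination (fun η : IrrCharacter M => (m η : ℂ)) ⟨ξM, hM⟩
      rw [this, h0, Nat.cast_zero]
    -- `ψD = Σ m_η η|_D`
    have hψD' : ψD = ∑ η : IrrCharacter M, (m η : ℂ) • (fun d : D => (η : M → ℂ) ⟨d, hDM d.2⟩) := by
      funext d
      have := congrFun hm ⟨d, hDM d.2⟩
      simp only [Finset.sum_apply, Pi.smul_apply, smul_eq_mul] at this ⊢
      rw [← this]
    choose k hk using fun η : IrrCharacter M =>
      IsCharacter.exists_nat_classInner (hresM η (IsIrrCharacter.isCharacter η.2)) φ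
    have hsum : classInner ψD (φ : D → ℂ) = ((∑ η : IrrCharacter M, m η * k η : ℕ) : ℂ) := by
      rw [hψD', classInner_sum_left]
      push_cast
      apply Finset.sum_congr rfl
      intro η _
      rw [classInner_smul_left, hk η]
    rw [hsum]
    have hkξ : k ⟨ξM, hM⟩ = n φ := by
      have h1 := hk ⟨ξM, hM⟩
      have h2 := hn φ
      rw [hξMD] at h2
      rw [h2] at h1
      exact_mod_cast h1.symm
    have hpos : 0 < ∑ η : IrrCharacter M, m η * k η := by
      apply Finset.sum_pos'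
      · intro η _
        exact Nat.zero_le _
      · refine ⟨⟨ξM, hM⟩, Finset.mem_univ _, ?_⟩
        rw [hkξ]
        exact Nat.mul_pos (Nat.pos_of_ne_zero hmξ) (Nat.pos_of_ne_zero hφ)
    exact_mod_cast hpos.ne'
  -- degrees
  have hdeg : ∀ φ : IrrCharacter D, n φ ≠ 0 → (φ : D → ℂ) 1 = ξD 1 := by
    intro φ hφ
    exact degree_eq_of_constituents H D (hDM.trans hMH) hDn ψ hψ ξD φ hD φ.2 hcD (hconst φ hφ)
  refine ⟨∑ φ : IrrCharacter D, n φ, ?_⟩
  have hexp := congrFun (IsCharacter.eq_sum_irr hξMDc) 1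
  simp only [Finset.sum_apply, Pi.smul_apply, smul_eq_mul] at hexp
  have h1 : ξM 1 = ξMD 1 := by
    simp only [hξMD]
    congr 1
  rw [h1, hexp]
  push_cast
  rw [Finset.sum_mul]
  apply Finset.sum_congr rfl
  intro φ _
  rw [hn φ]
  by_cases h0 : n φ = 0
  · rw [h0]; simp
  · rw [hdeg φ h0]

end Cfsg.Agent.Lib.Helper83.BergerQPXi
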