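/-
helper83: ASCH-[DESCENT] for a general finite index type (the landed `realisable_of_trace_mem` is for `Fin n`):
an absolutely irreducible subgroup of `GL ι F`, `F` finite, all of whose traces lie in the subfield `F₀`, is realisable over `F₀`.
-/
import Mathlib
import Cfsg.Prelude.Def_GeometricClasses
import Cfsg.Agent.Lib.Helper83.AschDescent

set_option autoImplicit false

namespace Cfsg.Agent.Lib.Helper83.AschDescent

open Cfsg Cfsg.Geo Cfsg.Agent.Lib.Helper99.Asch
open scoped MatrixGroups Matrix

/-- ASCH-[DESCENT], general index type. -/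
theorem realisable_of_trace_mem_gen {ι : Type} [Fintype ι] [DecidableEq ι] {F : Type*} [Field F] [Finite F]
    (S : Subgroup (GL ι F))
    (hS : ActsAbsolutelyIrreducibly (matrixSet S)) (F₀ : Subfield F)
    (htr : ∀ x ∈ S, Matrix.trace (x : Matrix ι ι F) ∈ F₀) :
    RealisableOver F₀ (matrixSet S) := by
  classical
  let Mon : Submonoid (Matrix ι ι F) :=
    S.toSubmonoid.map (Units.coeHom (Matrix ι ι F))
  have hMon : (Mon : Set (Matrix ι ι F)) = matrixSet S := by
    ext M
    simp only [Mon, Submonoid.coe_map, Set.mem_image, matrixSet]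
    rfl
  let A : Subalgebra F₀ (Matrix ι ι F) := Algebra.adjoin F₀ (matrixSet S)
  have hAsub : Subalgebra.toSubmodule A = Submodule.span F₀ (matrixSet S) := by
    have h1 := Algebra.adjoin_eq_span F₀ (matrixSet S)
    rw [← hMon, Submonoid.closure_eq, hMon] at h1
    exact h1
  have hA : IsForm A := by
    refine ⟨?_, ?_⟩
    · rw [eq_top_iff, ← span_eq_top_of_absIrred' S hS]
      exact Submodule.span_mono Algebra.subset_adjoin
    · intro a ha
      have ha' : a ∈ Submodule.span F₀ (matrixSet S) := by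
        rw [← hAsub]; exact ha
      refine Submodule.span_induction ?_ ?_ ?_ ?_ ha'
      · rintro x ⟨g, hg, rfl⟩
        exact ⟨⟨_, htr g hg⟩, rfl⟩
      · exact ⟨0, by simp⟩
      · rintro x y _ _ ⟨kx, hx⟩ ⟨ky, hy⟩
        exact ⟨kx + ky, by rw [map_add, hx, hy, Matrix.trace_add]⟩
      · rintro k x _ ⟨kx, hx⟩
        refine ⟨k * kx, ?_⟩
        rw [map_mul, hx, algebra_compatible_smul F k x, Matrix.trace_smul, smul_eq_mul]
  obtain ⟨T, hT⟩ := exists_conj hA
  refine ⟨T, fun s hs i j => ?_⟩
  obtain ⟨k, hk⟩ := hT s (Algebra.subset_adjoin hs) i j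
  rw [← hk]
  exact k.2

end Cfsg.Agent.Lib.Helper83.AschDescent
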