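import Mathlib
import Cfsg.Agent.Lib.Helper80.Berger.WolfDefs

/-!
# S0889-[WOLF-MUL] (helper83, for helper80's Berger sheet)

The Wolf bound for a finite solvable group `X` acting faithfully and irreducibly by automorphisms
on a finite commutative group `V` of exponent `p`: `p ^ (v_p |X| + 1) ≤ |V|`.

`wolf_mul_of_bound` takes the linear bound (`Cfsg.Agent.Lib.Helper80.Wolf.Bound`, all dimensions)
as a hypothesis; once `wolf_bound` is on main, `wolf_mul` is
`wolf_mul_of_bound p (fun _ => fun ρ hρ hirr _ => wolf_bound p ρ hρ hirr) hexp φ hφ hirr`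
(checked against a stub of `wolf_bound`).
-/

set_option autoImplicit false
set_option linter.style.haveILetI false

namespace Cfsg.Agent.Lib.Helper83.BergerWolfMul

open Cfsg.Agent.Lib.Helper80.Wolf

universe u

/-- [WOLF-MUL], with the linear Wolf bound as a hypothesis. -/
theorem wolf_mul_of_bound (p : ℕ) [Fact p.Prime] (hb : ∀ d : ℕ, Bound.{u, u} p d)
    {X V : Type u} [Group X] [Finite X]
    [Group.IsSolvable X] [CommGroup V] [Finite V] [Nontrivial V] (hexp : ∀ w : V, w ^ p = 1)
    (φ : X →* MulAut V) (hφ : Function.Injective φ)
    (hirr : ∀ U : Subgroup V, (∀ (x : X) (w : V), w ∈ U → φ x w ∈ U) → U = ⊥ ∨ U = ⊤) :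
    p ^ ((Nat.card X).factorization p + 1) ≤ Nat.card V := by
  classical
  -- the field and the module
  let F : Type u := ULift.{u} (ZMod p)
  let W : Type u := Additive V
  have hpW : ∀ w : W, p • w = 0 := by
    intro w
    have := hexp (Additive.toMul w)
    exact congrArg Additive.ofMul this
  letI instZ : Module (ZMod p) W := AddCommGroup.zmodModule hpW
  letI instF : Module F W :=
    Module.compHom W ((ULift.ringEquiv : ULift.{u} (ZMod p) ≃+* ZMod p) : F →+* ZMod p)
  have hsmul : ∀ (c : F) (w : W), c • w = c.down • w := fun c w => rfl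
  -- every additive automorphism is `F`-linear
  let toLin : (W ≃+ W) → (W ≃ₗ[F] W) := fun f =>
    { f with
      map_smul' := by
        intro c w
        simp only [AddEquiv.toEquiv_eq_coe, Equiv.toFun_as_coe, EquivLike.coe_coe, RingHom.id_apply]
        exact ZMod.map_smul (f : W →+ W) c.down w }
  have htoLin : ∀ (f : W ≃+ W) (w : W), toLin f w = f w := fun f w => rfl
  let ρ : X →* (W ≃ₗ[F] W) :=
    { toFun := fun x => toLin (MulEquiv.toAdditive (φ x))
      map_one' := by
        apply LinearEquiv.ext
        intro w
        rw [htoLin, map_one]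
        rfl
      map_mul' := by
        intro x y
        apply LinearEquiv.ext
        intro w
        rw [htoLin, map_mul]
        rfl }
  have hρ_apply : ∀ (x : X) (w : W), ρ x w = Additive.ofMul (φ x (Additive.toMul w)) :=
    fun x w => rfl
  have hρ : Function.Injective ρ := by
    intro x y hxy
    apply hφ
    apply MulEquiv.ext
    intro v
    have := congrArg (fun f : W ≃ₗ[F] W => f (Additive.ofMul v)) hxy
    simp only [hρ_apply, toMul_ofMul] at this
    exact Additive.ofMul.injective this
  have hirr' : Irr ρ := by
    refine ⟨?_, ?_, ?_⟩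
    · intro h
      obtain ⟨a, b, hab⟩ := exists_pair_ne V
      have h1 : Additive.ofMul a ∈ (⊤ : Submodule F W) := trivial
      have h2 : Additive.ofMul b ∈ (⊤ : Submodule F W) := trivial
      rw [h, Submodule.mem_bot] at h1 h2
      exact hab (Additive.ofMul.injective (h1.trans h2.symm))
    · intro x _ w _
      trivial
    · intro U _ hU
      set U' : Subgroup V := AddSubgroup.toSubgroup' U.toAddSubgroup with hU'
      have hmem : ∀ v : V, v ∈ U' ↔ Additive.ofMul v ∈ U := fun v => Iff.rfl
      have hinv : ∀ (x : X) (w : V), w ∈ U' → φ x w ∈ U' := by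
        intro x w hw
        rw [hmem] at hw ⊢
        have := hU x (Subgroup.mem_top x) (Additive.ofMul w) hw
        rw [hρ_apply, toMul_ofMul] at this
        exact this
      rcases hirr U' hinv with h | h
      · left
        rw [Submodule.eq_bot_iff]
        intro w hw
        have : Additive.toMul w ∈ U' := (hmem _).mpr hw
        rw [h, Subgroup.mem_bot] at this
        exact congrArg Additive.ofMul this
      · right
        rw [Submodule.eq_top_iff']
        intro w
        have : Additive.toMul w ∈ U' := by rw [h]; trivial
        exact (hmem _).mp this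
  have hbound := hb (Module.finrank F W) (K := F) (V := W) (X := X) ρ hρ hirr' rfl
  have hF : Nat.card F = p := by
    rw [Nat.card_ulift, Nat.card_zmod]
  have hW : Nat.card W = Nat.card V := Nat.card_congr Additive.toMul
  rw [hF, hW] at hbound
  rw [pow_succ]
  exact hbound

end Cfsg.Agent.Lib.Helper83.BergerWolfMul
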