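/-
helper83: BHRSU-[ROW-5841], BHRSU-[ROW-5865] (helper37's project BHRSU), `_of_max` form: the SU_10 and SU_12 rows from the
conclusion of BHRSU-[MAXU] (`maximal_eq_member`).  The exact rows are one-liners once [MAXU] is on main.
-/
import Mathlib
import Cfsg.Prelude.Def_GeometricClasses
import Cfsg.Agent.Lib.Helper37.BHRSU.Defs
import Cfsg.Agent.Lib.Helper37.BHRSU.Except
import Cfsg.Agent.Lib.Helper87.BhrMaxCasesOf
import Cfsg.Agent.Lib.Helper24.BhrC3Div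
import Cfsg.Agent.Lib.Helper94.TensorUnit2

set_option autoImplicit false
set_option maxHeartbeats 1000000

namespace Cfsg.Agent.Lib.Helper83.BhrsuRows

open Cfsg Cfsg.Geo Cfsg.Agent.Lib.Helper70.AschU Cfsg.Agent.Lib.Helper37.BHRSU
open scoped MatrixGroups Matrix Kronecker

variable {F : Type*} [Field F] [Fintype F] {n q : ℕ}

/-- a maximal decomposition stabiliser with blocks of dimension 2 forces `3 ≤ q` -/
theorem three_le_q_of_decomp_two (hF : Fintype.card F = q ^ 2) {t : ℕ} (D : Fin t → Submodule F (Fin n → F))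
    (hD : IsNondegenerateMDecomposition (hermForm n F q) 2 D)
    (hH : IsMaximalIn (GU n F q ⊓ specialLinear (Fin n) F)
      (decompositionStabilizer D ⊓ (GU n F q ⊓ specialLinear (Fin n) F))) : 3 ≤ q := by
  have h2 := two_le_q hF
  by_contra hlt
  have hq : q = 2 := by omega
  subst hq
  have hF4 : Fintype.card F = 4 := by rw [hF]; norm_num
  obtain ⟨K, h1, h2⟩ := exists_between_decomp_two hF4 D hD
  exact not_isMaximalIn_of_between h1 h2 hH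

/-- a maximal tensor product stabiliser with a first factor of dimension 2 forces `3 ≤ q` -/
theorem three_le_q_of_tensor_two (hF : Fintype.card F = q ^ 2) {n₂ : ℕ} (hn₂ : 2 ≤ n₂)
    (e : Fin n ≃ Fin 2 × Fin n₂) (P : GL (Fin n) F)
    (f₁ : (Fin 2 → F) → (Fin 2 → F) → F) (f₂ : (Fin n₂ → F) → (Fin n₂ → F) → F)
    (hf₁ : IsUnitaryFormPow q f₁) (hf₂ : IsUnitaryFormPow q f₂)
    (hT : IsTensorFormStructure (fun x : F => x ^ q) (hermForm n F q) f₁ f₂ e P)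
    (hH : IsMaximalIn (GU n F q ⊓ specialLinear (Fin n) F)
      (tensorProductSubgroup 2 n₂ e P ⊓ (GU n F q ⊓ specialLinear (Fin n) F))) : 3 ≤ q := by
  have h2 := two_le_q hF
  by_contra hlt
  have hq : q = 2 := by omega
  subst hq
  have hF4 : Fintype.card F = 4 := by rw [hF]; norm_num
  obtain ⟨K, h1, h2⟩ := Cfsg.Agent.Lib.Helper94.exists_between_tensor_unit2 hF4 n hn₂ e P f₁ f₂ hf₁ hf₂ hT
  exact not_isMaximalIn_of_between h1 h2 hH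

/-- `r ^ k = n` has no solution with `r` prime for `n = 10, 12` -/
theorem prime_pow_ne_ten {r k : ℕ} (hr : r.Prime) : r ^ k ≠ 10 := by
  intro h
  have hk0 : k ≠ 0 := by rintro rfl; simp at h
  have hr2 := hr.two_le
  have hrle : r ≤ 10 := by
    calc r = r ^ 1 := (pow_one r).symm
      _ ≤ r ^ k := Nat.pow_le_pow_right (by omega) (by omega)
      _ = 10 := h
  have hkle : k ≤ 3 := by
    by_contra hk
    have : 2 ^ 4 ≤ r ^ k := by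
      calc 2 ^ 4 ≤ 2 ^ k := Nat.pow_le_pow_right (by norm_num) (by omega)
        _ ≤ r ^ k := Nat.pow_le_pow_left hr2 k
    omega
  interval_cases r <;> interval_cases k <;> first | omega | (exfalso; revert hr; norm_num)

theorem prime_pow_ne_twelve {r k : ℕ} (hr : r.Prime) : r ^ k ≠ 12 := by
  intro h
  have hk0 : k ≠ 0 := by rintro rfl; simp at h
  have hr2 := hr.two_le
  have hrle : r ≤ 12 := by
    calc r = r ^ 1 := (pow_one r).symm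
      _ ≤ r ^ k := Nat.pow_le_pow_right (by omega) (by omega)
      _ = 12 := h
  have hkle : k ≤ 3 := by
    by_contra hk
    have : 2 ^ 4 ≤ r ^ k := by
      calc 2 ^ 4 ≤ 2 ^ k := Nat.pow_le_pow_right (by norm_num) (by omega)
        _ ≤ r ^ k := Nat.pow_le_pow_left hr2 k
    omega
  interval_cases r <;> interval_cases k <;> first | omega | (exfalso; revert hr; norm_num)

/-- `k ^ t = n` with `3 ≤ k`, `2 ≤ t` is impossible for `n = 10, 12` -/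
theorem pow_ne_of_three_le {k t N : ℕ} (hk : 3 ≤ k) (ht : 2 ≤ t) (hN : N = 10 ∨ N = 12) : k ^ t ≠ N := by
  intro h
  have hk2 : k ^ 2 ≤ k ^ t := Nat.pow_le_pow_right (by omega) ht
  have hkle : k ≤ 3 := by
    by_contra hk4
    have : 4 ^ 2 ≤ k ^ 2 := Nat.pow_le_pow_left (by omega) 2
    rcases hN with rfl | rfl <;> omega
  have hk3 : k = 3 := by omega
  subst hk3
  have htle : t ≤ 2 := by
    by_contra ht3
    have : 3 ^ 3 ≤ 3 ^ t := Nat.pow_le_pow_right (by norm_num) (by omega)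
    rcases hN with rfl | rfl <;> omega
  have ht2 : t = 2 := by omega
  subst ht2
  rcases hN with rfl | rfl <;> omega

end Cfsg.Agent.Lib.Helper83.BhrsuRows

namespace Cfsg.Agent.Lib.Helper83.BhrsuRows

open Cfsg Cfsg.Geo Cfsg.Agent.Lib.Helper70.AschU Cfsg.Agent.Lib.Helper37.BHRSU
open scoped MatrixGroups Matrix Kronecker

/-- BHRSU-[ROW-5841]  the frozen statement of S5841 (SU_10) from the conclusion of [MAXU]. -/
theorem row5841_of_max {F : Type*} [Field F] [Fintype F] (q : ℕ) (hF : Fintype.card F = q ^ 2) (H : Subgroup (Matrix.GeneralLinearGroup (Fin 10) F)) (hH : Cfsg.Geo.IsMaximalIn (Cfsg.GU 10 F q ⊓ Cfsg.Geo.specialLinear (Fin 10) F) H)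
    (hmax : (∃ M : Subgroup (Matrix.GeneralLinearGroup (Fin 10) F), InUnitaryClassR 10 F q M ∧ H = M ⊓ Cfsg.Geo.specialLinear (Fin 10) F) ∨
      Cfsg.Geo.InUnitaryResidualClass H) :
    (∃ W : Submodule F (Fin 10 → F), W ≠ ⊥ ∧ Cfsg.Geo.IsTotallySingularFor (Cfsg.hermForm 10 F q) W ∧ H = Cfsg.Geo.subspaceStabilizer W ⊓ (Cfsg.GU 10 F q ⊓ Cfsg.Geo.specialLinear (Fin 10) F)) ∨
    (∃ W : Submodule F (Fin 10 → F), W ≠ ⊥ ∧ Cfsg.Geo.IsNondegenerateOn (Cfsg.hermForm 10 F q) W ∧ 2 * Module.finrank F W < 10 ∧ H = Cfsg.Geo.subspaceStabilizer W ⊓ (Cfsg.GU 10 F q ⊓ Cfsg.Geo.specialLinear (Fin 10) F)) ∨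
    (∃ D : Fin 10 → Submodule F (Fin 10 → F), Cfsg.Geo.IsNondegenerateMDecomposition (Cfsg.hermForm 10 F q) 1 D ∧ H = Cfsg.Geo.decompositionStabilizer D ⊓ (Cfsg.GU 10 F q ⊓ Cfsg.Geo.specialLinear (Fin 10) F)) ∨
    (3 ≤ q ∧ ∃ D : Fin 5 → Submodule F (Fin 10 → F), Cfsg.Geo.IsNondegenerateMDecomposition (Cfsg.hermForm 10 F q) 2 D ∧ H = Cfsg.Geo.decompositionStabilizer D ⊓ (Cfsg.GU 10 F q ⊓ Cfsg.Geo.specialLinear (Fin 10) F)) ∨
    (∃ D : Fin 2 → Submodule F (Fin 10 → F), Cfsg.Geo.IsNondegenerateMDecomposition (Cfsg.hermForm 10 F q) 5 D ∧ H = Cfsg.Geo.decompositionStabilizer D ⊓ (Cfsg.GU 10 F q ⊓ Cfsg.Geo.specialLinear (Fin 10) F)) ∨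
    (∃ D : Fin 2 → Submodule F (Fin 10 → F), Cfsg.Geo.IsMDecomposition 5 D ∧ (∀ i, Cfsg.Geo.IsTotallySingularFor (Cfsg.hermForm 10 F q) (D i)) ∧ H = Cfsg.Geo.decompositionStabilizer D ⊓ (Cfsg.GU 10 F q ⊓ Cfsg.Geo.specialLinear (Fin 10) F)) ∨
    (∃ K : Subalgebra F (Matrix (Fin 10) (Fin 10) F), Cfsg.Geo.IsFieldSubalgebra 5 K ∧ Cfsg.Geo.IsAdjointClosedFor (Cfsg.hermForm 10 F q) K ∧ H = Cfsg.Geo.subalgebraNormalizer K ⊓ (Cfsg.GU 10 F q ⊓ Cfsg.Geo.specialLinear (Fin 10) F)) ∨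
    (3 ≤ q ∧ ∃ (e : Fin 10 ≃ Fin 2 × Fin 5) (P : Matrix.GeneralLinearGroup (Fin 10) F) (f₁ : (Fin 2 → F) → (Fin 2 → F) → F) (f₂ : (Fin 5 → F) → (Fin 5 → F) → F), Cfsg.Geo.IsUnitaryFormPow q f₁ ∧ Cfsg.Geo.IsUnitaryFormPow q f₂ ∧ Cfsg.Geo.IsTensorFormStructure (fun x : F => x ^ q) (Cfsg.hermForm 10 F q) f₁ f₂ e P ∧ H = Cfsg.Geo.tensorProductSubgroup 2 5 e P ⊓ (Cfsg.GU 10 F q ⊓ Cfsg.Geo.specialLinear (Fin 10) F)) ∨
    (∃ (F₀ : Subfield F) (r : ℕ) (P : Matrix.GeneralLinearGroup (Fin 10) F), r.Prime ∧ Odd r ∧ Fintype.card F = Nat.card F₀ ^ r ∧ Cfsg.Geo.IsFormRationalStructure (Cfsg.hermForm 10 F q) F₀ 1 P ∧ H = Cfsg.Geo.subfieldSubgroup F₀ P ⊓ (Cfsg.GU 10 F q ⊓ Cfsg.Geo.specialLinear (Fin 10) F)) ∨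
    (∃ (F₀ : Subfield F) (P : Matrix.GeneralLinearGroup (Fin 10) F) (ζ : F), Fintype.card F = Nat.card F₀ ^ 2 ∧ ζ ≠ 0 ∧ ζ + ζ ^ q = 0 ∧ Cfsg.Geo.IsFormRationalStructure (Cfsg.hermForm 10 F q) F₀ ζ P ∧ (∀ u : Fin 10 → F, (∀ i, u i ∈ F₀) → (Cfsg.hermForm 10 F q) (Matrix.mulVec (P : Matrix (Fin 10) (Fin 10) F) u) (Matrix.mulVec (P : Matrix (Fin 10) (Fin 10) F) u) = 0) ∧ H = Cfsg.Geo.subfieldSubgroup F₀ P ⊓ (Cfsg.GU 10 F q ⊓ Cfsg.Geo.specialLinear (Fin 10) F)) ∨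
    (Odd q ∧ ∃ (F₀ : Subfield F) (P : Matrix.GeneralLinearGroup (Fin 10) F), Fintype.card F = Nat.card F₀ ^ 2 ∧ Cfsg.Geo.IsFormRationalStructure (Cfsg.hermForm 10 F q) F₀ 1 P ∧ H = Cfsg.Geo.subfieldSubgroup F₀ P ⊓ (Cfsg.GU 10 F q ⊓ Cfsg.Geo.specialLinear (Fin 10) F)) ∨
    Cfsg.Geo.InUnitaryResidualClass H := by
  rcases hmax with ⟨M, hM, rfl⟩ | hres
  · rcases hM with (h | h | h | h | h | h | h | h | h | h) | h
    · -- totally singular subspace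
      obtain ⟨W, hW, hts, rfl⟩ := h
      exact Or.inl ⟨W, hW, hts, inf_assoc _ _ _⟩
    · -- non-degenerate subspace
      obtain ⟨W, hW, hnd, hlt, rfl⟩ := h
      exact Or.inr (Or.inl ⟨W, hW, hnd, hlt, inf_assoc _ _ _⟩)
    · -- non-degenerate decomposition
      obtain ⟨t, k, D, hD, rfl⟩ := h
      have htk := Cfsg.Agent.Lib.Helper87.BhrMaxCases.mul_eq_of_isMDecomposition D hD.decomp
      have ht2 := hD.decomp.two_le
      have hk0 := hD.decomp.pos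
      have htle : t ≤ 10 := Nat.le_of_dvd (by norm_num) ⟨k, htk.symm⟩
      have hcases : (t = 10 ∧ k = 1) ∨ (t = 5 ∧ k = 2) ∨ (t = 2 ∧ k = 5) := by
        interval_cases t <;> omega
      rcases hcases with ⟨rfl, rfl⟩ | ⟨rfl, rfl⟩ | ⟨rfl, rfl⟩
      · exact Or.inr (Or.inr (Or.inl ⟨D, hD, inf_assoc _ _ _⟩))
      · have hH' : IsMaximalIn (GU 10 F q ⊓ specialLinear (Fin 10) F)
            (decompositionStabilizer D ⊓ (GU 10 F q ⊓ specialLinear (Fin 10) F)) := by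
          rw [← inf_assoc]; exact hH
        exact Or.inr (Or.inr (Or.inr (Or.inl ⟨three_le_q_of_decomp_two hF D hD hH', D, hD, inf_assoc _ _ _⟩)))
      · exact Or.inr (Or.inr (Or.inr (Or.inr (Or.inl ⟨D, hD, inf_assoc _ _ _⟩))))
    · -- totally singular pair
      obtain ⟨k, D, hk, hD, hts, rfl⟩ := h
      have hk5 : k = 5 := by omega
      subst hk5
      exact Or.inr (Or.inr (Or.inr (Or.inr (Or.inr (Or.inl ⟨D, hD, hts, inf_assoc _ _ _⟩)))))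
    · -- subfield, odd index
      obtain ⟨F₀, r, P, hr, hodd, hcard, hrat, rfl⟩ := h
      exact Or.inr (Or.inr (Or.inr (Or.inr (Or.inr (Or.inr (Or.inr (Or.inr (Or.inl
        ⟨F₀, r, P, hr, hodd, hcard, hrat, inf_assoc _ _ _⟩))))))))
    · -- subfield, index 2, unitary type with ζ = 1
      obtain ⟨F₀, P, hodd, hcard, hrat, rfl⟩ := h
      exact Or.inr (Or.inr (Or.inr (Or.inr (Or.inr (Or.inr (Or.inr (Or.inr (Or.inr (Or.inr (Or.inl
        ⟨hodd, F₀, P, hcard, hrat, inf_assoc _ _ _⟩))))))))))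
    · -- subfield, index 2, with ζ
      obtain ⟨F₀, P, ζ, -, hcard, hζ, hζ', hrat, hiso, rfl⟩ := h
      exact Or.inr (Or.inr (Or.inr (Or.inr (Or.inr (Or.inr (Or.inr (Or.inr (Or.inr (Or.inl
        ⟨F₀, P, ζ, hcard, hζ, hζ', hrat, hiso, inf_assoc _ _ _⟩)))))))))
    · -- field subalgebra
      obtain ⟨r, K, hr, hodd, hK, hadj, rfl⟩ := h
      have hdvd := Cfsg.Agent.Lib.Helper99.Asch.dvd_of_isFieldSubalgebra r K hK
      have hr5 : r = 5 := by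
        have hle : r ≤ 10 := Nat.le_of_dvd (by norm_num) hdvd
        have h2 := hr.two_le
        obtain ⟨c, hc⟩ := hodd
        interval_cases r <;> first | rfl | omega
      subst hr5
      exact Or.inr (Or.inr (Or.inr (Or.inr (Or.inr (Or.inr (Or.inl ⟨K, hK, hadj, inf_assoc _ _ _⟩))))))
    · -- tensor product
      obtain ⟨n₁, n₂, e, P, f₁, f₂, h1, h12, hf₁, hf₂, hT, rfl⟩ := h
      have hmul := Cfsg.Agent.Lib.Helper87.BhrMaxCases.mul_eq_of_equiv_prod e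
      have hn₁ : n₁ = 2 ∧ n₂ = 5 := by
        have hle : n₁ ≤ 10 := Nat.le_of_dvd (by norm_num) ⟨n₂, hmul.symm⟩
        have : n₁ * n₁ < 10 := by nlinarith
        have hn₁3 : n₁ ≤ 3 := by nlinarith
        interval_cases n₁ <;> omega
      obtain ⟨rfl, rfl⟩ := hn₁
      have hH' : IsMaximalIn (GU 10 F q ⊓ specialLinear (Fin 10) F)
          (tensorProductSubgroup 2 5 e P ⊓ (GU 10 F q ⊓ specialLinear (Fin 10) F)) := by
        rw [← inf_assoc]; exact hH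
      exact Or.inr (Or.inr (Or.inr (Or.inr (Or.inr (Or.inr (Or.inr (Or.inl
        ⟨three_le_q_of_tensor_two hF (by norm_num) e P f₁ f₂ hf₁ hf₂ hT hH', e, P, f₁, f₂, hf₁, hf₂, hT,
          inf_assoc _ _ _⟩)))))))
    · -- tensor wreath
      obtain ⟨k, t, e, P, f₁, hk, ht, -, -, -, -⟩ := h
      exact absurd (Cfsg.Agent.Lib.Helper87.BhrMaxCases.pow_eq_of_equiv_fun e) (pow_ne_of_three_le hk ht (Or.inl rfl))
    · -- class 6
      obtain ⟨r, R, p, e, k, hR, -, -, -, -, -, hn, -⟩ := h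
      exact absurd hn.symm (prime_pow_ne_ten hR.prime)
  · exact Or.inr (Or.inr (Or.inr (Or.inr (Or.inr (Or.inr (Or.inr (Or.inr (Or.inr (Or.inr (Or.inr hres))))))))))

/-- BHRSU-[ROW-5865]  the frozen statement of S5865 (SU_12) from the conclusion of [MAXU]. -/
theorem row5865_of_max {F : Type*} [Field F] [Fintype F] (q : ℕ) (hF : Fintype.card F = q ^ 2) (H : Subgroup (Matrix.GeneralLinearGroup (Fin 12) F)) (hH : Cfsg.Geo.IsMaximalIn (Cfsg.GU 12 F q ⊓ Cfsg.Geo.specialLinear (Fin 12) F) H)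
    (hmax : (∃ M : Subgroup (Matrix.GeneralLinearGroup (Fin 12) F), InUnitaryClassR 12 F q M ∧ H = M ⊓ Cfsg.Geo.specialLinear (Fin 12) F) ∨
      Cfsg.Geo.InUnitaryResidualClass H) :
    (∃ W : Submodule F (Fin 12 → F), W ≠ ⊥ ∧ Cfsg.Geo.IsTotallySingularFor (Cfsg.hermForm 12 F q) W ∧ H = Cfsg.Geo.subspaceStabilizer W ⊓ (Cfsg.GU 12 F q ⊓ Cfsg.Geo.specialLinear (Fin 12) F)) ∨
    (∃ W : Submodule F (Fin 12 → F), W ≠ ⊥ ∧ Cfsg.Geo.IsNondegenerateOn (Cfsg.hermForm 12 F q) W ∧ 2 * Module.finrank F W < 12 ∧ H = Cfsg.Geo.subspaceStabilizer W ⊓ (Cfsg.GU 12 F q ⊓ Cfsg.Geo.specialLinear (Fin 12) F)) ∨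
    (∃ D : Fin 12 → Submodule F (Fin 12 → F), Cfsg.Geo.IsNondegenerateMDecomposition (Cfsg.hermForm 12 F q) 1 D ∧ H = Cfsg.Geo.decompositionStabilizer D ⊓ (Cfsg.GU 12 F q ⊓ Cfsg.Geo.specialLinear (Fin 12) F)) ∨
    (3 ≤ q ∧ ∃ D : Fin 6 → Submodule F (Fin 12 → F), Cfsg.Geo.IsNondegenerateMDecomposition (Cfsg.hermForm 12 F q) 2 D ∧ H = Cfsg.Geo.decompositionStabilizer D ⊓ (Cfsg.GU 12 F q ⊓ Cfsg.Geo.specialLinear (Fin 12) F)) ∨
    (∃ D : Fin 4 → Submodule F (Fin 12 → F), Cfsg.Geo.IsNondegenerateMDecomposition (Cfsg.hermForm 12 F q) 3 D ∧ H = Cfsg.Geo.decompositionStabilizer D ⊓ (Cfsg.GU 12 F q ⊓ Cfsg.Geo.specialLinear (Fin 12) F)) ∨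
    (∃ D : Fin 3 → Submodule F (Fin 12 → F), Cfsg.Geo.IsNondegenerateMDecomposition (Cfsg.hermForm 12 F q) 4 D ∧ H = Cfsg.Geo.decompositionStabilizer D ⊓ (Cfsg.GU 12 F q ⊓ Cfsg.Geo.specialLinear (Fin 12) F)) ∨
    (∃ D : Fin 2 → Submodule F (Fin 12 → F), Cfsg.Geo.IsNondegenerateMDecomposition (Cfsg.hermForm 12 F q) 6 D ∧ H = Cfsg.Geo.decompositionStabilizer D ⊓ (Cfsg.GU 12 F q ⊓ Cfsg.Geo.specialLinear (Fin 12) F)) ∨
    (∃ D : Fin 2 → Submodule F (Fin 12 → F), Cfsg.Geo.IsMDecomposition 6 D ∧ (∀ i, Cfsg.Geo.IsTotallySingularFor (Cfsg.hermForm 12 F q) (D i)) ∧ H = Cfsg.Geo.decompositionStabilizer D ⊓ (Cfsg.GU 12 F q ⊓ Cfsg.Geo.specialLinear (Fin 12) F)) ∨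
    (∃ K : Subalgebra F (Matrix (Fin 12) (Fin 12) F), Cfsg.Geo.IsFieldSubalgebra 3 K ∧ Cfsg.Geo.IsAdjointClosedFor (Cfsg.hermForm 12 F q) K ∧ H = Cfsg.Geo.subalgebraNormalizer K ⊓ (Cfsg.GU 12 F q ⊓ Cfsg.Geo.specialLinear (Fin 12) F)) ∨
    (3 ≤ q ∧ ∃ (e : Fin 12 ≃ Fin 2 × Fin 6) (P : Matrix.GeneralLinearGroup (Fin 12) F) (f₁ : (Fin 2 → F) → (Fin 2 → F) → F) (f₂ : (Fin 6 → F) → (Fin 6 → F) → F), Cfsg.Geo.IsUnitaryFormPow q f₁ ∧ Cfsg.Geo.IsUnitaryFormPow q f₂ ∧ Cfsg.Geo.IsTensorFormStructure (fun x : F => x ^ q) (Cfsg.hermForm 12 F q) f₁ f₂ e P ∧ H = Cfsg.Geo.tensorProductSubgroup 2 6 e P ⊓ (Cfsg.GU 12 F q ⊓ Cfsg.Geo.specialLinear (Fin 12) F)) ∨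
    (∃ (e : Fin 12 ≃ Fin 3 × Fin 4) (P : Matrix.GeneralLinearGroup (Fin 12) F) (f₁ : (Fin 3 → F) → (Fin 3 → F) → F) (f₂ : (Fin 4 → F) → (Fin 4 → F) → F), Cfsg.Geo.IsUnitaryFormPow q f₁ ∧ Cfsg.Geo.IsUnitaryFormPow q f₂ ∧ Cfsg.Geo.IsTensorFormStructure (fun x : F => x ^ q) (Cfsg.hermForm 12 F q) f₁ f₂ e P ∧ H = Cfsg.Geo.tensorProductSubgroup 3 4 e P ⊓ (Cfsg.GU 12 F q ⊓ Cfsg.Geo.specialLinear (Fin 12) F)) ∨
    (∃ (F₀ : Subfield F) (r : ℕ) (P : Matrix.GeneralLinearGroup (Fin 12) F), r.Prime ∧ Odd r ∧ Fintype.card F = Nat.card F₀ ^ r ∧ Cfsg.Geo.IsFormRationalStructure (Cfsg.hermForm 12 F q) F₀ 1 P ∧ H = Cfsg.Geo.subfieldSubgroup F₀ P ⊓ (Cfsg.GU 12 F q ⊓ Cfsg.Geo.specialLinear (Fin 12) F)) ∨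
    (∃ (F₀ : Subfield F) (P : Matrix.GeneralLinearGroup (Fin 12) F) (ζ : F), Fintype.card F = Nat.card F₀ ^ 2 ∧ ζ ≠ 0 ∧ ζ + ζ ^ q = 0 ∧ Cfsg.Geo.IsFormRationalStructure (Cfsg.hermForm 12 F q) F₀ ζ P ∧ (∀ u : Fin 12 → F, (∀ i, u i ∈ F₀) → (Cfsg.hermForm 12 F q) (Matrix.mulVec (P : Matrix (Fin 12) (Fin 12) F) u) (Matrix.mulVec (P : Matrix (Fin 12) (Fin 12) F) u) = 0) ∧ H = Cfsg.Geo.subfieldSubgroup F₀ P ⊓ (Cfsg.GU 12 F q ⊓ Cfsg.Geo.specialLinear (Fin 12) F)) ∨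
    (Odd q ∧ ∃ (F₀ : Subfield F) (P : Matrix.GeneralLinearGroup (Fin 12) F), Fintype.card F = Nat.card F₀ ^ 2 ∧ Cfsg.Geo.IsFormRationalStructure (Cfsg.hermForm 12 F q) F₀ 1 P ∧ H = Cfsg.Geo.subfieldSubgroup F₀ P ⊓ (Cfsg.GU 12 F q ⊓ Cfsg.Geo.specialLinear (Fin 12) F)) ∨
    Cfsg.Geo.InUnitaryResidualClass H := by
  rcases hmax with ⟨M, hM, rfl⟩ | hres
  · rcases hM with (h | h | h | h | h | h | h | h | h | h) | h
    · -- totally singular subspace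
      obtain ⟨W, hW, hts, rfl⟩ := h
      exact Or.inl ⟨W, hW, hts, inf_assoc _ _ _⟩
    · -- non-degenerate subspace
      obtain ⟨W, hW, hnd, hlt, rfl⟩ := h
      exact Or.inr (Or.inl ⟨W, hW, hnd, hlt, inf_assoc _ _ _⟩)
    · -- non-degenerate decomposition
      obtain ⟨t, k, D, hD, rfl⟩ := h
      have htk := Cfsg.Agent.Lib.Helper87.BhrMaxCases.mul_eq_of_isMDecomposition D hD.decomp
      have ht2 := hD.decomp.two_le
      have hk0 := hD.decomp.pos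
      have htle : t ≤ 12 := Nat.le_of_dvd (by norm_num) ⟨k, htk.symm⟩
      have hcases : (t = 12 ∧ k = 1) ∨ (t = 6 ∧ k = 2) ∨ (t = 4 ∧ k = 3) ∨ (t = 3 ∧ k = 4) ∨ (t = 2 ∧ k = 6) := by
        interval_cases t <;> omega
      rcases hcases with ⟨rfl, rfl⟩ | ⟨rfl, rfl⟩ | ⟨rfl, rfl⟩ | ⟨rfl, rfl⟩ | ⟨rfl, rfl⟩
      · exact Or.inr (Or.inr (Or.inl ⟨D, hD, inf_assoc _ _ _⟩))
      · have hH' : IsMaximalIn (GU 12 F q ⊓ specialLinear (Fin 12) F)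
            (decompositionStabilizer D ⊓ (GU 12 F q ⊓ specialLinear (Fin 12) F)) := by
          rw [← inf_assoc]; exact hH
        exact Or.inr (Or.inr (Or.inr (Or.inl ⟨three_le_q_of_decomp_two hF D hD hH', D, hD, inf_assoc _ _ _⟩)))
      · exact Or.inr (Or.inr (Or.inr (Or.inr (Or.inl ⟨D, hD, inf_assoc _ _ _⟩))))
      · exact Or.inr (Or.inr (Or.inr (Or.inr (Or.inr (Or.inl ⟨D, hD, inf_assoc _ _ _⟩)))))
      · exact Or.inr (Or.inr (Or.inr (Or.inr (Or.inr (Or.inr (Or.inl ⟨D, hD, inf_assoc _ _ _⟩))))))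
    · -- totally singular pair
      obtain ⟨k, D, hk, hD, hts, rfl⟩ := h
      have hk6 : k = 6 := by omega
      subst hk6
      exact Or.inr (Or.inr (Or.inr (Or.inr (Or.inr (Or.inr (Or.inr (Or.inl ⟨D, hD, hts, inf_assoc _ _ _⟩)))))))
    · -- subfield, odd index
      obtain ⟨F₀, r, P, hr, hodd, hcard, hrat, rfl⟩ := h
      exact Or.inr (Or.inr (Or.inr (Or.inr (Or.inr (Or.inr (Or.inr (Or.inr (Or.inr (Or.inr (Or.inr (Or.inl ⟨F₀, r, P, hr, hodd, hcard, hrat, inf_assoc _ _ _⟩)))))))))))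
    · -- subfield, index 2, unitary type with ζ = 1
      obtain ⟨F₀, P, hodd, hcard, hrat, rfl⟩ := h
      exact Or.inr (Or.inr (Or.inr (Or.inr (Or.inr (Or.inr (Or.inr (Or.inr (Or.inr (Or.inr (Or.inr (Or.inr (Or.inr (Or.inl ⟨hodd, F₀, P, hcard, hrat, inf_assoc _ _ _⟩)))))))))))))
    · -- subfield, index 2, with ζ
      obtain ⟨F₀, P, ζ, -, hcard, hζ, hζ', hrat, hiso, rfl⟩ := h
      exact Or.inr (Or.inr (Or.inr (Or.inr (Or.inr (Or.inr (Or.inr (Or.inr (Or.inr (Or.inr (Or.inr (Or.inr (Or.inl ⟨F₀, P, ζ, hcard, hζ, hζ', hrat, hiso, inf_assoc _ _ _⟩))))))))))))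
    · -- field subalgebra
      obtain ⟨r, K, hr, hodd, hK, hadj, rfl⟩ := h
      have hdvd := Cfsg.Agent.Lib.Helper99.Asch.dvd_of_isFieldSubalgebra r K hK
      have hr3 : r = 3 := by
        have hle : r ≤ 12 := Nat.le_of_dvd (by norm_num) hdvd
        have h2 := hr.two_le
        obtain ⟨c, hc⟩ := hodd
        interval_cases r <;> first | rfl | omega
      subst hr3
      exact Or.inr (Or.inr (Or.inr (Or.inr (Or.inr (Or.inr (Or.inr (Or.inr (Or.inl ⟨K, hK, hadj, inf_assoc _ _ _⟩))))))))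
    · -- tensor product
      obtain ⟨n₁, n₂, e, P, f₁, f₂, h1, h12, hf₁, hf₂, hT, rfl⟩ := h
      have hmul := Cfsg.Agent.Lib.Helper87.BhrMaxCases.mul_eq_of_equiv_prod e
      have hn₁ : (n₁ = 2 ∧ n₂ = 6) ∨ (n₁ = 3 ∧ n₂ = 4) := by
        have hle : n₁ ≤ 12 := Nat.le_of_dvd (by norm_num) ⟨n₂, hmul.symm⟩
        have : n₁ * n₁ < 12 := by nlinarith
        have hn₁3 : n₁ ≤ 3 := by nlinarith
        interval_cases n₁ <;> omega
      rcases hn₁ with ⟨rfl, rfl⟩ | ⟨rfl, rfl⟩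
      · have hH' : IsMaximalIn (GU 12 F q ⊓ specialLinear (Fin 12) F)
            (tensorProductSubgroup 2 6 e P ⊓ (GU 12 F q ⊓ specialLinear (Fin 12) F)) := by
          rw [← inf_assoc]; exact hH
        exact Or.inr (Or.inr (Or.inr (Or.inr (Or.inr (Or.inr (Or.inr (Or.inr (Or.inr (Or.inl ⟨three_le_q_of_tensor_two hF (by norm_num) e P f₁ f₂ hf₁ hf₂ hT hH', e, P, f₁, f₂, hf₁, hf₂, hT, inf_assoc _ _ _⟩)))))))))
      · exact Or.inr (Or.inr (Or.inr (Or.inr (Or.inr (Or.inr (Or.inr (Or.inr (Or.inr (Or.inr (Or.inl ⟨e, P, f₁, f₂, hf₁, hf₂, hT, inf_assoc _ _ _⟩))))))))))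
    · -- tensor wreath
      obtain ⟨k, t, e, P, f₁, hk, ht, -, -, -, -⟩ := h
      exact absurd (Cfsg.Agent.Lib.Helper87.BhrMaxCases.pow_eq_of_equiv_fun e) (pow_ne_of_three_le hk ht (Or.inr rfl))
    · -- class 6
      obtain ⟨r, R, p, e, k, hR, -, -, -, -, -, hn, -⟩ := h
      exact absurd hn.symm (prime_pow_ne_twelve hR.prime)
  · exact Or.inr (Or.inr (Or.inr (Or.inr (Or.inr (Or.inr (Or.inr (Or.inr (Or.inr (Or.inr (Or.inr (Or.inr (Or.inr (Or.inr hres)))))))))))))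

end Cfsg.Agent.Lib.Helper83.BhrsuRows
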