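import Mathlib
import Cfsg.Prelude.Def_RootSubgroups

set_option autoImplicit false

namespace Cfsg.Agent.Lib.Helper83

open Cfsg

variable {G : Type*} [Group G]

lemma mem_conjBy {A : Subgroup G} {g x : G} : x ∈ conjBy A g ↔ g⁻¹ * x * g ∈ A := by
  unfold conjBy
  rw [Subgroup.mem_map]
  constructor
  · rintro ⟨y, hy, rfl⟩
    simpa [MulAut.conj_apply, mul_assoc] using hy
  · intro h
    exact ⟨g⁻¹ * x * g, h, by simp [MulAut.conj_apply, mul_assoc]⟩

lemma conj_mem_conjBy {A : Subgroup G} {g a : G} (ha : a ∈ A) : g * a * g⁻¹ ∈ conjBy A g := by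
  rw [mem_conjBy]; simpa [mul_assoc] using ha

lemma conjBy_one (A : Subgroup G) : conjBy A 1 = A := by
  ext x; rw [mem_conjBy]; simp

lemma conjBy_conjBy (A : Subgroup G) (g h : G) : conjBy (conjBy A g) h = conjBy A (h * g) := by
  ext x; simp only [mem_conjBy]; simp [mul_assoc]

lemma conjBy_eq_self_iff {A : Subgroup G} {g : G} :
    conjBy A g = A ↔ g ∈ Subgroup.normalizer (A : Set G) :=
  Subgroup.mem_normalizer_iff_map_conj_eq.symm

lemma conjBy_of_mem {A : Subgroup G} {g : G} (hg : g ∈ A) : conjBy A g = A :=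
  conjBy_eq_self_iff.mpr (Subgroup.le_normalizer hg)

lemma conjBy_inv_conjBy (A : Subgroup G) (g : G) : conjBy (conjBy A g) g⁻¹ = A := by
  rw [conjBy_conjBy]; simp [conjBy_one]

lemma conjBy_conjBy_inv (A : Subgroup G) (g : G) : conjBy (conjBy A g⁻¹) g = A := by
  rw [conjBy_conjBy]; simp [conjBy_one]

lemma conjBy_injective (g : G) : Function.Injective (fun A : Subgroup G => conjBy A g) := by
  intro A B h
  have := congrArg (fun C => conjBy C g⁻¹) h
  simpa [conjBy_inv_conjBy] using this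

lemma conjBy_inj {A B : Subgroup G} {g : G} : conjBy A g = conjBy B g ↔ A = B :=
  (conjBy_injective g).eq_iff

lemma conjBy_eq_iff {A B : Subgroup G} {g : G} : conjBy A g = B ↔ A = conjBy B g⁻¹ := by
  constructor
  · rintro rfl; rw [conjBy_inv_conjBy]
  · rintro rfl; rw [conjBy_conjBy_inv]

lemma conjBy_mono {A B : Subgroup G} (h : A ≤ B) (g : G) : conjBy A g ≤ conjBy B g :=
  Subgroup.map_mono h

lemma conjBy_le_iff {A B : Subgroup G} {g : G} : conjBy A g ≤ conjBy B g ↔ A ≤ B := by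
  constructor
  · intro h
    have := conjBy_mono h g⁻¹
    simpa [conjBy_inv_conjBy] using this
  · intro h; exact conjBy_mono h g

lemma conjBy_sup (A B : Subgroup G) (g : G) : conjBy (A ⊔ B) g = conjBy A g ⊔ conjBy B g :=
  Subgroup.map_sup _ _ _

lemma conjBy_inf (A B : Subgroup G) (g : G) : conjBy (A ⊓ B) g = conjBy A g ⊓ conjBy B g := by
  ext x; simp only [mem_conjBy, Subgroup.mem_inf]

lemma conjBy_bot (g : G) : conjBy (⊥ : Subgroup G) g = ⊥ := Subgroup.map_bot _

lemma conjBy_eq_bot_iff {A : Subgroup G} {g : G} : conjBy A g = ⊥ ↔ A = ⊥ := by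
  rw [conjBy_eq_iff, conjBy_bot]

lemma conjBy_le_of_mem {A X : Subgroup G} (h : A ≤ X) {g : G} (hg : g ∈ X) : conjBy A g ≤ X := by
  intro x hx
  rw [mem_conjBy] at hx
  have h1 := h hx
  have : x = g * (g⁻¹ * x * g) * g⁻¹ := by group
  rw [this]
  exact X.mul_mem (X.mul_mem hg h1) (X.inv_mem hg)

/-- Conjugating a normalizer. -/
lemma normalizer_conjBy (A : Subgroup G) (g : G) :
    Subgroup.normalizer ((conjBy A g : Subgroup G) : Set G) =
      conjBy (Subgroup.normalizer (A : Set G)) g := by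
  ext x
  rw [mem_conjBy, ← conjBy_eq_self_iff, ← conjBy_eq_self_iff, conjBy_conjBy]
  rw [← conjBy_inj (g := g⁻¹), conjBy_conjBy, conjBy_conjBy]
  simp [mul_assoc, conjBy_one]

lemma conjBy_equiv (A : Subgroup G) (g : G) : Nonempty (A ≃* conjBy A g) :=
  ⟨A.equivMapOfInjective _ (MulAut.conj g).injective⟩

lemma conjBy_isNilpotent {A : Subgroup G} (h : Group.IsNilpotent A) (g : G) :
    Group.IsNilpotent (conjBy A g) := by
  obtain ⟨e⟩ := conjBy_equiv A g
  exact Group.nilpotent_of_surjective e.toMonoidHom e.surjective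

end Cfsg.Agent.Lib.Helper83
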