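import Mathlib
import Cfsg.Agent.Lib.Helper58.IP26.Defs
import Cfsg.Agent.Lib.Helper36.IP26Ext
import Cfsg.Agent.Lib.Helper84.IP26Van
import Cfsg.Agent.Lib.Helper71.IP26Div
import Cfsg.Agent.Lib.Helper83.IP26Frob12

/-!
# Project IP26 (helper58), module [FROB], steps (5), (6) and the assembly in `_of` form  (helper83)

`CE.false_of_frobenius_quotient_of`: the statement of [FROB] with the output of step (4)
(coprimality of `|G : N|` and `q`, and a complement `Y` of `N/K` all of whose elements outside `K`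
have a conjugate outside `Y`) as extra hypotheses.
-/

set_option autoImplicit false
set_option linter.style.haveILetI false
set_option linter.unusedSectionVars false

namespace Cfsg.Agent.Lib.Helper58.IP26

open Cfsg Cfsg.Agent.Lib
open scoped commutatorElement

universe u

variable {G : Type u} [Group G] [Finite G] {b : ℕ}

/-- a character of degree `b` of a subgroup `H ≥ K` (`K ⊲ G`) vanishing on `H ∖ K` forces
`|H : K| ∣ b²` -/
theorem relIndex_dvd_sq_of_vanish (K H : Subgroup G) [hK : K.Normal]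
    (ψ : IrrCharacter H) (hψ : charDegree (ψ : H → ℂ) = b)
    (hvan : ∀ h : H, (h : G) ∉ K → (ψ : H → ℂ) h = 0) : K.relIndex H ∣ b ^ 2 := by
  classical
  letI : Fintype H := Fintype.ofFinite H
  letI : Fintype (K.subgroupOf H) := Fintype.ofFinite _
  have hK' : (K.subgroupOf H).Normal := inferInstance
  have h1 := Helper71.IP26Frob.index_dvd_sq_of_vanish_off (K.subgroupOf H) ψ.2
    (fun h hh => hvan h (by rwa [Subgroup.mem_subgroupOf] at hh))
  rw [hψ] at h1
  exact h1

/-- IP26-[FROB] with the output of step (4) as hypotheses. -/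
theorem CE.false_of_frobenius_quotient_of (hb : IsMaxDeg G b) (h2 : 2 ≤ b) (hCE : CE G b)
    (K N : Subgroup G) [hK : K.Normal] [hN : N.Normal] (hKN : K ≤ N) (hNK : ¬ N ≤ K)
    (habN : ∀ a ∈ N, ∀ c ∈ N, ⁅a, c⁆ ∈ K) (habG : commutator G ≤ N) (hNtop : N ≠ ⊤)
    (q : ℕ) (hq : q.Prime) (a : ℕ) (hidx : K.relIndex N = q ^ a)
    (hfpf : ∀ g : G, g ∉ N → ∀ n ∈ N, ⁅g, n⁆ ∈ K → n ∈ K)
    (hcop : ¬ q ∣ N.index)
    (Y : Subgroup G) (hNY : N ⊓ Y = K) (hsup : N ⊔ Y = ⊤)
    (hconj : ∀ y ∈ Y, y ∉ K → ∃ x : G, x * y * x⁻¹ ∉ Y) : False := by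
  classical
  have hbpos : 0 < b := by omega
  have hb2pos : 0 < b ^ 2 := by positivity
  have hble : b ≤ b ^ 2 := by nlinarith
  -- step (1)
  have hf : N.index ≤ b := frob_index_le hb K N hNK habN hfpf
  -- step (2) + (3): `Q ∣ b²`
  obtain ⟨ψ, hψ⟩ := hCE N (hf.trans hble)
  have hQ : q ^ a ∣ b ^ 2 := by
    rw [← hidx]
    exact relIndex_dvd_sq_of_vanish K N ψ hψ
      (fun n hn => frob_vanish_off hb K N habN habG hNtop hfpf ψ hψ n hn)
  -- indices
  have hKY : K ≤ Y := hNY ▸ inf_le_right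
  have hfY : K.relIndex Y = N.index := by
    rw [← hNY, Subgroup.inf_relIndex_right, ← Subgroup.relIndex_sup_left Y N, hsup,
      Subgroup.relIndex_top_right]
  have hi1 : K.relIndex N * N.index = K.index := Subgroup.relIndex_mul_index hKN
  have hi2 : K.relIndex Y * Y.index = K.index := Subgroup.relIndex_mul_index hKY
  have hNpos : 0 < N.index := Nat.pos_of_ne_zero Subgroup.index_ne_zero_of_finite
  have hYidx : Y.index = q ^ a := by
    rw [hfY, ← hi1, hidx, mul_comm] at hi2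
    exact Nat.eq_of_mul_eq_mul_right hNpos hi2
  -- step (5)
  obtain ⟨η, hη⟩ := hCE Y (by rw [hYidx]; exact Nat.le_of_dvd hb2pos hQ)
  have hfdvd : N.index ∣ b ^ 2 := by
    rw [← hfY]
    apply relIndex_dvd_sq_of_vanish K Y η hη
    intro y hy
    obtain ⟨x, hx⟩ := hconj y y.2 hy
    exact vanish_off_core hb Y η hη y x hx
  have hcop' : Nat.Coprime (q ^ a) N.index :=
    Nat.Coprime.pow_left a ((Nat.Prime.coprime_iff_not_dvd hq).2 hcop)
  have hKidx : K.index ∣ b ^ 2 := by
    rw [← hi1, hidx]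
    exact Nat.Coprime.mul_dvd_of_dvd_of_dvd hcop' hQ hfdvd
  -- step (6)
  obtain ⟨θ, hθ⟩ := hCE K (Nat.le_of_dvd hb2pos hKidx)
  have hGK : commutator G ≤ K := commutator_le_of_maxDeg hb K θ hθ
  obtain ⟨g₀, hg₀⟩ : ∃ g : G, g ∉ N := by
    by_contra hcon
    push Not at hcon
    exact hNtop (eq_top_iff.2 fun x _ => hcon x)
  obtain ⟨n, hnN, hnK⟩ := Set.not_subset.1 hNK
  apply hnK
  apply hfpf g₀ hg₀ n hnN
  apply hGK
  rw [commutator_def]
  exact Subgroup.commutator_mem_commutator (Subgroup.mem_top _) (Subgroup.mem_top _)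

end Cfsg.Agent.Lib.Helper58.IP26
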