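import Mathlib
import Cfsg.Agent.Lib.Helper58.IP26.Defs
import Cfsg.Agent.Lib.Helper71.IP26FrobGrp
import Cfsg.Agent.Lib.Helper83.IP26Frob56

/-!
# Project IP26 (helper58), module [FROB]: the exact statement  (helper83)

Assembly of steps (1), (2), (5), (6) (`Lib/Helper83/IP26Frob12.lean`, `IP26Frob56.lean`) with
helper71's steps (3) (`Lib/Helper71/IP26Div.lean`) and (4) (`Lib/Helper71/IP26FrobGrp.lean`).
-/

set_option autoImplicit false

namespace Cfsg.Agent.Lib.Helper58.IP26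

open Cfsg
open scoped commutatorElement

universe u

variable {G : Type u} [Group G] [Finite G] {b : ℕ}

/-- IP26-[FROB]: a counterexample has no quotient `G/K` of "Frobenius type"
(`N/K = (G/K)'` an abelian `q`-group on which every element outside `N` acts fixed-point-freely). -/
theorem CE.false_of_frobenius_quotient (hb : IsMaxDeg G b) (h2 : 2 ≤ b) (hCE : CE G b)
    (K N : Subgroup G) [K.Normal] [N.Normal] (hKN : K ≤ N) (hNK : ¬ N ≤ K)
    (habN : ∀ a ∈ N, ∀ c ∈ N, ⁅a, c⁆ ∈ K) (habG : commutator G ≤ N) (hNtop : N ≠ ⊤)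
    (q : ℕ) (hq : q.Prime) (a : ℕ) (hidx : K.relIndex N = q ^ a)
    (hfpf : ∀ g : G, g ∉ N → ∀ n ∈ N, ⁅g, n⁆ ∈ K → n ∈ K) : False := by
  obtain ⟨hcop, Y, -, hNY, hsup, -, -, hconj⟩ :=
    Cfsg.Agent.Lib.Helper71.IP26Frob.exists_complement_of_fpf K N hKN hNK q hq a hidx hfpf
  have hcop' : ¬ q ∣ N.index := (Nat.Prime.coprime_iff_not_dvd hq).1 hcop.symm
  exact CE.false_of_frobenius_quotient_of hb h2 hCE K N hKN hNK habN habG hNtop q hq a hidx hfpf
    hcop' Y hNY hsup hconj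

end Cfsg.Agent.Lib.Helper58.IP26
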