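import Mathlib

set_option autoImplicit false

/-!
General commutator calculus for joins of subgroups, and a criterion for nilpotency of a subgroup
through a finite central series inside the ambient group.
-/

namespace Cfsg.Agent.Lib.Helper83

open scoped commutatorElement

variable {G : Type*} [Group G]

/-- The elements `x` normalizing `M` with `⁅x, r⁆ ∈ M` for all `r ∈ R`. -/
def commWith (M R : Subgroup G) : Subgroup G where
  carrier := {x | x ∈ Subgroup.normalizer (M : Set G) ∧ ∀ r ∈ R, ⁅x, r⁆ ∈ M}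
  one_mem' := ⟨Subgroup.one_mem _, fun r _ => by
    rw [commutatorElement_one_left]; exact M.one_mem⟩
  mul_mem' := by
    rintro x y ⟨hxN, hx⟩ ⟨hyN, hy⟩
    refine ⟨Subgroup.mul_mem _ hxN hyN, fun r hr => ?_⟩
    rw [commutatorElement_mul_left_eq_conj_mul]
    exact M.mul_mem ((Subgroup.mem_normalizer_iff.mp hxN _).mp (hy r hr)) (hx r hr)
  inv_mem' := by
    rintro x ⟨hxN, hx⟩
    refine ⟨Subgroup.inv_mem _ hxN, fun r hr => ?_⟩
    rw [commutatorElement_inv_left]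
    have h1 : ⁅r, x⁆ ∈ M := by
      rw [← commutatorElement_inv]; exact M.inv_mem (hx r hr)
    exact (Subgroup.mem_normalizer_iff''.mp hxN _).mp h1

lemma mem_commWith {M R : Subgroup G} {x : G} :
    x ∈ commWith M R ↔ x ∈ Subgroup.normalizer (M : Set G) ∧ ∀ r ∈ R, ⁅x, r⁆ ∈ M := Iff.rfl

lemma le_commWith {M R H : Subgroup G} (hN : H ≤ Subgroup.normalizer (M : Set G))
    (hc : ⁅H, R⁆ ≤ M) : H ≤ commWith M R :=
  fun _ hx => ⟨hN hx, fun _ hr => hc (Subgroup.commutator_mem_commutator hx hr)⟩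

lemma commutator_le_of_le_commWith {M R H : Subgroup G} (h : H ≤ commWith M R) : ⁅H, R⁆ ≤ M :=
  Subgroup.commutator_le.mpr fun _ hx r hr => (h hx).2 r hr

/-- `⁅H₁ ⊔ H₂, R⁆ ≤ M` if `H₁, H₂` normalize `M` and `⁅Hᵢ, R⁆ ≤ M`. -/
lemma sup_commutator_le {M R H₁ H₂ : Subgroup G}
    (h₁ : H₁ ≤ Subgroup.normalizer (M : Set G)) (h₂ : H₂ ≤ Subgroup.normalizer (M : Set G))
    (c₁ : ⁅H₁, R⁆ ≤ M) (c₂ : ⁅H₂, R⁆ ≤ M) : ⁅H₁ ⊔ H₂, R⁆ ≤ M :=
  commutator_le_of_le_commWith (sup_le (le_commWith h₁ c₁) (le_commWith h₂ c₂))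

/-- `⁅H, R₁ ⊔ R₂⁆ ≤ M` if `R₁, R₂` normalize `M` and `⁅H, Rᵢ⁆ ≤ M`. -/
lemma commutator_sup_le {M H R₁ R₂ : Subgroup G}
    (h₁ : R₁ ≤ Subgroup.normalizer (M : Set G)) (h₂ : R₂ ≤ Subgroup.normalizer (M : Set G))
    (c₁ : ⁅H, R₁⁆ ≤ M) (c₂ : ⁅H, R₂⁆ ≤ M) : ⁅H, R₁ ⊔ R₂⁆ ≤ M := by
  rw [Subgroup.commutator_comm]
  apply sup_commutator_le h₁ h₂
  · rw [Subgroup.commutator_comm]; exact c₁
  · rw [Subgroup.commutator_comm]; exact c₂

/-- If `⁅M, H⁆ ≤ M` then `H` normalizes `M`. -/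
lemma le_normalizer_of_commutator_le {M H : Subgroup G} (h : ⁅M, H⁆ ≤ M) :
    H ≤ Subgroup.normalizer (M : Set G) :=
  Subgroup.le_normalizer_iff_commutator_le_left.mpr h

/-- If `⁅M, H⁆ = ⊥` then `H` normalizes `M`. -/
lemma le_normalizer_of_commutator_eq_bot {M H : Subgroup G} (h : ⁅M, H⁆ = ⊥) :
    H ≤ Subgroup.normalizer (M : Set G) :=
  le_normalizer_of_commutator_le (h ▸ bot_le)

/-- Pairwise commuting subgroups generate commuting joins. -/
lemma sup_commutator_sup_eq_bot {H₁ H₂ K₁ K₂ : Subgroup G} (h11 : ⁅H₁, K₁⁆ = ⊥)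
    (h12 : ⁅H₁, K₂⁆ = ⊥) (h21 : ⁅H₂, K₁⁆ = ⊥) (h22 : ⁅H₂, K₂⁆ = ⊥) :
    ⁅H₁ ⊔ H₂, K₁ ⊔ K₂⁆ = ⊥ := by
  rw [Subgroup.commutator_eq_bot_iff_le_centralizer] at *
  refine sup_le ?_ ?_
  · rw [Subgroup.le_centralizer_iff]
    exact sup_le (Subgroup.le_centralizer_iff.mp h11) (Subgroup.le_centralizer_iff.mp h12)
  · rw [Subgroup.le_centralizer_iff]
    exact sup_le (Subgroup.le_centralizer_iff.mp h21) (Subgroup.le_centralizer_iff.mp h22)

lemma sup_commutator_eq_bot {H₁ H₂ K : Subgroup G} (h1 : ⁅H₁, K⁆ = ⊥) (h2 : ⁅H₂, K⁆ = ⊥) :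
    ⁅H₁ ⊔ H₂, K⁆ = ⊥ := by
  rw [Subgroup.commutator_eq_bot_iff_le_centralizer] at *
  exact sup_le h1 h2

lemma commutator_sup_eq_bot {H K₁ K₂ : Subgroup G} (h1 : ⁅H, K₁⁆ = ⊥) (h2 : ⁅H, K₂⁆ = ⊥) :
    ⁅H, K₁ ⊔ K₂⁆ = ⊥ := by
  rw [Subgroup.commutator_comm] at *
  exact sup_commutator_eq_bot h1 h2

/-- Elementwise commutation from a trivial commutator subgroup. -/
lemma mul_comm_of_commutator_eq_bot {H K : Subgroup G} (h : ⁅H, K⁆ = ⊥) {x y : G} (hx : x ∈ H)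
    (hy : y ∈ K) : x * y = y * x := by
  rw [Subgroup.commutator_eq_bot_iff_le_centralizer] at h
  exact ((Subgroup.mem_centralizer_iff.mp (h hx)) y hy).symm

lemma commutator_eq_bot_of_forall_mul_comm {H K : Subgroup G}
    (h : ∀ x ∈ H, ∀ y ∈ K, x * y = y * x) : ⁅H, K⁆ = ⊥ := by
  rw [Subgroup.commutator_eq_bot_iff_le_centralizer]
  intro x hx
  rw [Subgroup.mem_centralizer_iff]
  intro y hy
  exact (h x hx y hy).symm

/-- A subgroup with a finite central series (inside the ambient group) is nilpotent. -/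
lemma isNilpotent_of_series {R : Subgroup G} (H : ℕ → Subgroup G) (n : ℕ) (h0 : H 0 = ⊥)
    (hn : R ≤ H n) (hstep : ∀ i, i < n → ⁅H (i + 1), R⁆ ≤ H i) : Group.IsNilpotent R := by
  rw [Subgroup.isNilpotent_iff_lowerCentralSeries]
  have key : ∀ k, k ≤ n → R.lowerCentralSeries k ≤ H (n - k) := by
    intro k
    induction k with
    | zero => intro _; simpa using hn
    | succ k ih =>
      intro hk
      rw [Subgroup.lowerCentralSeries_succ]
      have h1 := ih (by omega)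
      have h2 : n - k = (n - (k + 1)) + 1 := by omega
      rw [h2] at h1
      exact (Subgroup.commutator_mono h1 le_rfl).trans (hstep _ (by omega))
  refine ⟨n, ?_⟩
  have := key n le_rfl
  rw [Nat.sub_self, h0] at this
  exact le_bot_iff.mp this

/-- An abelian join. -/
lemma isMulCommutative_sup {H K : Subgroup G} (hH : IsMulCommutative H) (hK : IsMulCommutative K)
    (h : ⁅H, K⁆ = ⊥) : IsMulCommutative ↥(H ⊔ K) := by
  rw [← Subgroup.commutator_self_eq_bot_iff]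
  have h' : ⁅K, H⁆ = ⊥ := by rw [Subgroup.commutator_comm]; exact h
  exact sup_commutator_sup_eq_bot (Subgroup.commutator_self_eq_bot_iff.mpr hH) h h'
    (Subgroup.commutator_self_eq_bot_iff.mpr hK)

end Cfsg.Agent.Lib.Helper83
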