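import Mathlib
import Cfsg.Prelude.Def_RootSubgroups
import Cfsg.Agent.Lib.Helper83.ConjBy

set_option autoImplicit false

namespace Cfsg.Agent.Lib.Helper83

open Cfsg

variable {G : Type*} [Group G] {A B : Subgroup G}

/-- `conjBy A x = conjBy A y` iff `y⁻¹ x` normalizes `A`. -/
lemma conjBy_eq_conjBy_iff {A : Subgroup G} {x y : G} :
    conjBy A x = conjBy A y ↔ y⁻¹ * x ∈ Subgroup.normalizer (A : Set G) := by
  rw [← conjBy_eq_self_iff, ← conjBy_conjBy]
  constructor
  · intro h; rw [h, conjBy_inv_conjBy]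
  · intro h
    conv_rhs => rw [← h]
    rw [conjBy_conjBy_inv]

namespace RankOne

/-- No non-identity element of `A` normalizes `B`. -/
lemma inf_normalizer_right (h : IsRankOnePair A B) :
    A ⊓ Subgroup.normalizer (B : Set G) = ⊥ := by
  rw [eq_bot_iff]
  intro a ha
  rw [Subgroup.mem_bot]
  by_contra ha1
  obtain ⟨haA, haN⟩ := Subgroup.mem_inf.mp ha
  obtain ⟨b, hb, _, hAB⟩ := h.cond_left a haA ha1
  have h1 : conjBy B a⁻¹ = B := conjBy_eq_self_iff.mpr (Subgroup.inv_mem _ haN)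
  rw [h1, conjBy_eq_iff, inv_inv, conjBy_of_mem hb] at hAB
  exact h.ne hAB

lemma inf_normalizer_left (h : IsRankOnePair A B) :
    B ⊓ Subgroup.normalizer (A : Set G) = ⊥ :=
  inf_normalizer_right (RankOnePair_symm h)

lemma eq_one_of_mem_of_mem_normalizer (h : IsRankOnePair A B) {a : G} (ha : a ∈ A)
    (haN : a ∈ Subgroup.normalizer (B : Set G)) : a = 1 := by
  have : a ∈ A ⊓ Subgroup.normalizer (B : Set G) := Subgroup.mem_inf.mpr ⟨ha, haN⟩
  rwa [inf_normalizer_right h, Subgroup.mem_bot] at this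

lemma eq_one_of_mem_of_mem_normalizer' (h : IsRankOnePair A B) {b : G} (hb : b ∈ B)
    (hbN : b ∈ Subgroup.normalizer (A : Set G)) : b = 1 :=
  eq_one_of_mem_of_mem_normalizer (RankOnePair_symm h) hb hbN

lemma left_ne_bot (h : IsRankOnePair A B) : A ≠ ⊥ := by
  intro hA
  have hB : B ≠ ⊥ := fun hB => h.ne (hA.trans hB.symm)
  obtain ⟨b, hb1⟩ := (Subgroup.ne_bot_iff_exists_ne_one).mp hB
  obtain ⟨a, ha, ha1, _⟩ := h.cond_right b.1 b.2 (by simpa using hb1)
  rw [hA, Subgroup.mem_bot] at ha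
  exact ha1 ha

lemma right_ne_bot (h : IsRankOnePair A B) : B ≠ ⊥ := left_ne_bot (RankOnePair_symm h)

lemma exists_ne_one_left (h : IsRankOnePair A B) : ∃ a ∈ A, a ≠ 1 := by
  by_contra hcon
  push Not at hcon
  exact left_ne_bot h ((Subgroup.eq_bot_iff_forall _).mpr hcon)

lemma exists_ne_one_right (h : IsRankOnePair A B) : ∃ b ∈ B, b ≠ 1 :=
  exists_ne_one_left (RankOnePair_symm h)

/-- Injectivity of `a ↦ conjBy B a` on `A`. -/
lemma conjBy_right_injOn (h : IsRankOnePair A B) {a a' : G} (ha : a ∈ A) (ha' : a' ∈ A)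
    (heq : conjBy B a = conjBy B a') : a = a' := by
  rw [conjBy_eq_conjBy_iff] at heq
  have := eq_one_of_mem_of_mem_normalizer h (A.mul_mem (A.inv_mem ha') ha) heq
  exact (inv_mul_eq_one.mp this).symm

lemma conjBy_left_injOn (h : IsRankOnePair A B) {b b' : G} (hb : b ∈ B) (hb' : b' ∈ B)
    (heq : conjBy A b = conjBy A b') : b = b' :=
  conjBy_right_injOn (RankOnePair_symm h) hb hb' heq

/-- `A` is not of the form `conjBy B a`, `a ∈ A`. -/
lemma left_ne_conjBy_right (h : IsRankOnePair A B) {a : G} (ha : a ∈ A) : A ≠ conjBy B a := by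
  intro heq
  have : conjBy A a⁻¹ = B := by rw [conjBy_eq_iff, inv_inv]; exact heq
  rw [conjBy_of_mem (A.inv_mem ha)] at this
  exact h.ne this

lemma right_ne_conjBy_left (h : IsRankOnePair A B) {b : G} (hb : b ∈ B) : B ≠ conjBy A b :=
  left_ne_conjBy_right (RankOnePair_symm h) hb

/-- The conjugate of `A` by an element of `B` is `A` or a conjugate of `B` by an element of `A`. -/
lemma conjBy_left_by_right (h : IsRankOnePair A B) {b : G} (hb : b ∈ B) :
    conjBy A b = A ∨ ∃ a ∈ A, a ≠ 1 ∧ conjBy A b = conjBy B a := by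
  by_cases hb1 : b = 1
  · left; rw [hb1, conjBy_one]
  · right
    have hb1' : b⁻¹ ≠ 1 := by simpa using hb1
    obtain ⟨a, ha, ha1, heq⟩ := h.cond_right b⁻¹ (B.inv_mem hb) hb1'
    rw [inv_inv] at heq
    exact ⟨a⁻¹, A.inv_mem ha, by simpa using ha1, heq.symm⟩

/-- The set `{A} ∪ B^A` is stable under conjugation by `A ⊔ B`. -/
lemma omega_stable (h : IsRankOnePair A B) {x : G} (hx : x ∈ A ⊔ B) :
    ∀ C : Subgroup G, (C = A ∨ ∃ a ∈ A, C = conjBy B a) →
      (conjBy C x = A ∨ ∃ a ∈ A, conjBy C x = conjBy B a) := by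
  have hA : ∀ a' ∈ A, ∀ C : Subgroup G, (C = A ∨ ∃ a ∈ A, C = conjBy B a) →
      (conjBy C a' = A ∨ ∃ a ∈ A, conjBy C a' = conjBy B a) := by
    rintro a' ha' C (rfl | ⟨a, ha, rfl⟩)
    · left; exact conjBy_of_mem ha'
    · right; exact ⟨a' * a, A.mul_mem ha' ha, conjBy_conjBy _ _ _⟩
  have hB : ∀ b' ∈ B, ∀ C : Subgroup G, (C = A ∨ ∃ a ∈ A, C = conjBy B a) →
      (conjBy C b' = A ∨ ∃ a ∈ A, conjBy C b' = conjBy B a) := by
    rintro b' hb' C (rfl | ⟨a, ha, rfl⟩)
    · rcases conjBy_left_by_right h hb' with h1 | ⟨a, ha, _, h1⟩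
      · left; exact h1
      · right; exact ⟨a, ha, h1⟩
    · by_cases ha1 : a = 1
      · right
        refine ⟨1, A.one_mem, ?_⟩
        rw [ha1, conjBy_one, conjBy_of_mem hb']
      · have ha1' : a⁻¹ ≠ 1 := by simpa using ha1
        obtain ⟨b, hb, _, heq⟩ := h.cond_left a⁻¹ (A.inv_mem ha) ha1'
        rw [inv_inv] at heq
        rw [← heq, conjBy_conjBy]
        rcases conjBy_left_by_right h (B.mul_mem hb' (B.inv_mem hb)) with h1 | ⟨a₂, ha₂, _, h1⟩
        · left; exact h1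
        · right; exact ⟨a₂, ha₂, h1⟩
  rw [Subgroup.sup_eq_closure] at hx
  induction hx using Subgroup.closure_induction'' with
  | mem y hy =>
    rcases hy with hy | hy
    · exact hA y hy
    · exact hB y hy
  | inv_mem y hy =>
    rcases hy with hy | hy
    · exact hA y⁻¹ (A.inv_mem hy)
    · exact hB y⁻¹ (B.inv_mem hy)
  | one => intro C hC; rwa [conjBy_one]
  | mul y z _ _ ihy ihz =>
    intro C hC
    rw [← conjBy_conjBy]
    exact ihy _ (ihz C hC)

/-- `B` is a conjugate of `A` under `A ⊔ B`. -/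
lemma right_mem_unipotentSubgroups (h : IsRankOnePair A B) : B ∈ unipotentSubgroups A B := by
  obtain ⟨a, ha, ha1⟩ := exists_ne_one_left h
  obtain ⟨b, hb, _, heq⟩ := h.cond_left a ha ha1
  refine ⟨a * b⁻¹, ?_, ?_⟩
  · exact Subgroup.mul_mem _ (Subgroup.mem_sup_left ha) (Subgroup.inv_mem _ (Subgroup.mem_sup_right hb))
  · rw [← conjBy_conjBy, heq, conjBy_conjBy_inv]

lemma left_mem_unipotentSubgroups : A ∈ unipotentSubgroups A B :=
  ⟨1, Subgroup.one_mem _, (conjBy_one A).symm⟩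

lemma conjBy_mem_unipotentSubgroups {C : Subgroup G} (hC : C ∈ unipotentSubgroups A B) {x : G}
    (hx : x ∈ A ⊔ B) : conjBy C x ∈ unipotentSubgroups A B := by
  obtain ⟨y, hy, rfl⟩ := hC
  exact ⟨x * y, Subgroup.mul_mem _ hx hy, conjBy_conjBy _ _ _⟩

/-- Description of the set of unipotent subgroups: `Ω = {A} ∪ B^A`. -/
lemma mem_unipotentSubgroups_iff (h : IsRankOnePair A B) {C : Subgroup G} :
    C ∈ unipotentSubgroups A B ↔ C = A ∨ ∃ a ∈ A, C = conjBy B a := by
  constructor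
  · rintro ⟨x, hx, rfl⟩
    exact omega_stable h hx A (Or.inl rfl)
  · rintro (rfl | ⟨a, ha, rfl⟩)
    · exact left_mem_unipotentSubgroups
    · exact conjBy_mem_unipotentSubgroups (right_mem_unipotentSubgroups h) (Subgroup.mem_sup_left ha)

/-- Members of `Ω` are contained in `A ⊔ B`. -/
lemma le_of_mem_unipotentSubgroups {C : Subgroup G} (hC : C ∈ unipotentSubgroups A B) :
    C ≤ A ⊔ B := by
  obtain ⟨x, hx, rfl⟩ := hC
  exact conjBy_le_of_mem le_sup_left hx

/-- A member of `Ω` other than `A` is `conjBy B a` for a unique `a ∈ A`. -/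
lemma exists_of_mem_unipotentSubgroups_of_ne (h : IsRankOnePair A B) {C : Subgroup G}
    (hC : C ∈ unipotentSubgroups A B) (hCA : C ≠ A) : ∃ a ∈ A, C = conjBy B a := by
  rcases (mem_unipotentSubgroups_iff h).mp hC with h1 | h1
  · exact absurd h1 hCA
  · exact h1

/-- If a conjugate `conjBy A x` (with `x ∈ A ⊔ B`) normalizes... more precisely is contained in the
normalizer of `A`, then it equals `A`. -/
lemma conjBy_eq_of_le_normalizer (h : IsRankOnePair A B) {C : Subgroup G}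
    (hC : C ∈ unipotentSubgroups A B) (hle : C ≤ Subgroup.normalizer (A : Set G)) : C = A := by
  by_contra hne
  obtain ⟨a, ha, rfl⟩ := exists_of_mem_unipotentSubgroups_of_ne h hC hne
  have hNA : conjBy (Subgroup.normalizer (A : Set G)) a⁻¹ = Subgroup.normalizer (A : Set G) := by
    rw [← normalizer_conjBy, conjBy_of_mem (A.inv_mem ha)]
  have h1 : B ≤ Subgroup.normalizer (A : Set G) := by
    have := conjBy_mono hle a⁻¹
    rwa [conjBy_inv_conjBy, hNA] at this
  have h2 : B ⊓ Subgroup.normalizer (A : Set G) = B := inf_eq_left.mpr h1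
  rw [inf_normalizer_left h] at h2
  exact right_ne_bot h h2.symm

/-- Any two distinct members of `Ω`: the pair is conjugate to `(A, B)` under `A ⊔ B`. -/
lemma exists_conj_pair (h : IsRankOnePair A B) {C D : Subgroup G}
    (hC : C ∈ unipotentSubgroups A B) (hD : D ∈ unipotentSubgroups A B) (hCD : C ≠ D) :
    ∃ x ∈ A ⊔ B, C = conjBy A x ∧ D = conjBy B x := by
  obtain ⟨y, hy, rfl⟩ := hC
  have hD' : conjBy D y⁻¹ ∈ unipotentSubgroups A B :=
    conjBy_mem_unipotentSubgroups hD (Subgroup.inv_mem _ hy)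
  have hne : conjBy D y⁻¹ ≠ A := by
    intro heq
    rw [conjBy_eq_iff, inv_inv] at heq
    exact hCD heq.symm
  obtain ⟨a, ha, heq⟩ := exists_of_mem_unipotentSubgroups_of_ne h hD' hne
  refine ⟨y * a, Subgroup.mul_mem _ hy (Subgroup.mem_sup_left ha), ?_, ?_⟩
  · rw [← conjBy_conjBy, conjBy_of_mem ha]
  · rw [← conjBy_conjBy, ← heq, conjBy_conjBy_inv]

/-- A conjugate (by anything) of a rank one pair is a rank one pair. -/
lemma conj (h : IsRankOnePair A B) (x : G) : IsRankOnePair (conjBy A x) (conjBy B x) := by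
  refine ⟨fun heq => h.ne (conjBy_inj.mp heq), conjBy_isNilpotent h.nilpotent_left x,
    conjBy_isNilpotent h.nilpotent_right x, ?_, ?_⟩
  · intro a ha ha1
    rw [mem_conjBy] at ha
    have ha1' : x⁻¹ * a * x ≠ 1 := by
      intro h1
      apply ha1
      have : a = x * (x⁻¹ * a * x) * x⁻¹ := by group
      rw [this, h1]; group
    obtain ⟨b, hb, hb1, heq⟩ := h.cond_left _ ha ha1'
    refine ⟨x * b * x⁻¹, conj_mem_conjBy hb, ?_, ?_⟩
    · intro h1
      apply hb1
      have : b = x⁻¹ * (x * b * x⁻¹) * x := by group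
      rw [this, h1]; group
    · rw [conjBy_conjBy, conjBy_conjBy]
      have e1 : (x * b * x⁻¹)⁻¹ * x = x * b⁻¹ := by group
      have e2 : a⁻¹ * x = x * (x⁻¹ * a * x)⁻¹ := by group
      rw [e1, e2, ← conjBy_conjBy, ← conjBy_conjBy, heq]
  · intro a ha ha1
    rw [mem_conjBy] at ha
    have ha1' : x⁻¹ * a * x ≠ 1 := by
      intro h1
      apply ha1
      have : a = x * (x⁻¹ * a * x) * x⁻¹ := by group
      rw [this, h1]; group
    obtain ⟨b, hb, hb1, heq⟩ := h.cond_right _ ha ha1'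
    refine ⟨x * b * x⁻¹, conj_mem_conjBy hb, ?_, ?_⟩
    · intro h1
      apply hb1
      have : b = x⁻¹ * (x * b * x⁻¹) * x := by group
      rw [this, h1]; group
    · rw [conjBy_conjBy, conjBy_conjBy]
      have e1 : (x * b * x⁻¹)⁻¹ * x = x * b⁻¹ := by group
      have e2 : a⁻¹ * x = x * (x⁻¹ * a * x)⁻¹ := by group
      rw [e1, e2, ← conjBy_conjBy, ← conjBy_conjBy, heq]

/-- Any two distinct members of `Ω` form a rank one pair generating `A ⊔ B`. -/
lemma pair_of_mem_unipotentSubgroups (h : IsRankOnePair A B) {C D : Subgroup G}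
    (hC : C ∈ unipotentSubgroups A B) (hD : D ∈ unipotentSubgroups A B) (hCD : C ≠ D) :
    IsRankOnePair C D ∧ C ⊔ D = A ⊔ B := by
  obtain ⟨x, hx, rfl, rfl⟩ := exists_conj_pair h hC hD hCD
  refine ⟨conj h x, ?_⟩
  rw [← conjBy_sup]
  exact conjBy_of_mem hx

/-- Distinct members of `Ω`: no non-identity element of one normalizes the other. -/
lemma inf_normalizer_of_mem_unipotentSubgroups (h : IsRankOnePair A B) {C D : Subgroup G}
    (hC : C ∈ unipotentSubgroups A B) (hD : D ∈ unipotentSubgroups A B) (hCD : C ≠ D) :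
    C ⊓ Subgroup.normalizer (D : Set G) = ⊥ :=
  inf_normalizer_right (pair_of_mem_unipotentSubgroups h hC hD hCD).1

lemma unipotentSubgroups_eq_of_mem (h : IsRankOnePair A B) {C D : Subgroup G}
    (hC : C ∈ unipotentSubgroups A B) (hD : D ∈ unipotentSubgroups A B) (hCD : C ≠ D) :
    unipotentSubgroups C D = unipotentSubgroups A B := by
  obtain ⟨x, hx, rfl, rfl⟩ := exists_conj_pair h hC hD hCD
  have hsup : conjBy A x ⊔ conjBy B x = A ⊔ B := by
    rw [← conjBy_sup]; exact conjBy_of_mem hx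
  ext E
  unfold unipotentSubgroups
  simp only [Set.mem_ofPred_eq, hsup]
  constructor
  · rintro ⟨y, hy, rfl⟩
    exact ⟨y * x, Subgroup.mul_mem _ hy hx, conjBy_conjBy _ _ _⟩
  · rintro ⟨y, hy, rfl⟩
    refine ⟨y * x⁻¹, Subgroup.mul_mem _ hy (Subgroup.inv_mem _ hx), ?_⟩
    rw [conjBy_conjBy]; simp [mul_assoc]

end RankOne

end Cfsg.Agent.Lib.Helper83
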