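import Mathlib
import Cfsg.Prelude.Def_RootSubgroups
import Cfsg.Agent.Lib.Helper83.RankOne

set_option autoImplicit false

namespace Cfsg.Agent.Lib.Helper83

open Cfsg

variable {G : Type*} [Group G] {A B : Subgroup G}

namespace RankOne

/-- An element normalizing every member of `Ω` centralizes `A ⊔ B`. -/
lemma mem_centralizer_of_forall_normalizer (h : IsRankOnePair A B) {n : G}
    (hn : ∀ C ∈ unipotentSubgroups A B, n ∈ Subgroup.normalizer (C : Set G)) :
    n ∈ Subgroup.centralizer ((A ⊔ B : Subgroup G) : Set G) := by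
  -- generic step: for a rank one pair (C, D) with the same Ω, n commutes with the elements of C
  have key : ∀ C D : Subgroup G, C ∈ unipotentSubgroups A B → D ∈ unipotentSubgroups A B → C ≠ D →
      ∀ c ∈ C, n * c = c * n := by
    intro C D hC hD hCD c hc
    have hnC := hn C hC
    -- commutator n c n⁻¹ c⁻¹ lies in C
    have h1 : n * c * n⁻¹ * c⁻¹ ∈ C := by
      have : n * c * n⁻¹ ∈ C := (Subgroup.mem_normalizer_iff.mp hnC c).mp hc
      exact C.mul_mem this (C.inv_mem hc)
    -- and normalizes D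
    have h2 : n * c * n⁻¹ * c⁻¹ ∈ Subgroup.normalizer (D : Set G) := by
      have hcX : c ∈ A ⊔ B := le_of_mem_unipotentSubgroups hC hc
      have hD' : conjBy D c⁻¹ ∈ unipotentSubgroups A B :=
        conjBy_mem_unipotentSubgroups hD (Subgroup.inv_mem _ hcX)
      have h3 : n⁻¹ ∈ Subgroup.normalizer ((conjBy D c⁻¹ : Subgroup G) : Set G) :=
        Subgroup.inv_mem _ (hn _ hD')
      rw [← conjBy_eq_self_iff] at h3 ⊢
      have h4 : conjBy D n = D := conjBy_eq_self_iff.mpr (hn D hD)
      have e : n * c * n⁻¹ * c⁻¹ = n * (c * (n⁻¹ * c⁻¹)) := by group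
      rw [e, ← conjBy_conjBy, ← conjBy_conjBy, ← conjBy_conjBy, h3, conjBy_conjBy_inv, h4]
    have h5 := eq_one_of_mem_of_mem_normalizer (pair_of_mem_unipotentSubgroups h hC hD hCD).1 h1 h2
    have : n * c = (n * c * n⁻¹ * c⁻¹) * (c * n) := by group
    rw [this, h5, one_mul]
  have hA : ∀ a ∈ A, n * a = a * n :=
    key A B left_mem_unipotentSubgroups (right_mem_unipotentSubgroups h) h.ne
  have hB : ∀ b ∈ B, n * b = b * n :=
    key B A (right_mem_unipotentSubgroups h) left_mem_unipotentSubgroups h.ne.symm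
  have hle : A ⊔ B ≤ Subgroup.centralizer ({n} : Set G) := by
    refine sup_le ?_ ?_
    · intro a ha
      rw [Subgroup.mem_centralizer_iff]
      rintro m rfl
      exact hA a ha
    · intro b hb
      rw [Subgroup.mem_centralizer_iff]
      rintro m rfl
      exact hB b hb
  rw [Subgroup.mem_centralizer_iff]
  intro x hx
  have := Subgroup.mem_centralizer_iff.mp (hle hx) n rfl
  exact this.symm

/-- A subgroup normalized by `A ⊔ B` and normalizing `A` centralizes `A ⊔ B`. -/
lemma le_centralizer_of_le_normalizer (h : IsRankOnePair A B) {N : Subgroup G}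
    (hN : ∀ x ∈ A ⊔ B, conjBy N x = N) (hNA : N ≤ Subgroup.normalizer (A : Set G)) :
    N ≤ Subgroup.centralizer ((A ⊔ B : Subgroup G) : Set G) := by
  intro n hn
  apply mem_centralizer_of_forall_normalizer h
  rintro C ⟨x, hx, rfl⟩
  rw [normalizer_conjBy]
  have : n ∈ conjBy N x := by rw [hN x hx]; exact hn
  exact conjBy_mono hNA x this

/-- The dichotomy for subgroups of `A ⊔ B` normalized by `A ⊔ B`. -/
lemma sup_le_or_le_centralizer (h : IsRankOnePair A B) {N : Subgroup G} (hNX : N ≤ A ⊔ B)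
    (hN : ∀ x ∈ A ⊔ B, conjBy N x = N) :
    A ⊔ B ≤ N ⊔ A ∨ N ≤ Subgroup.centralizer ((A ⊔ B : Subgroup G) : Set G) := by
  by_cases hNA : N ≤ Subgroup.normalizer (A : Set G)
  · right; exact le_centralizer_of_le_normalizer h hN hNA
  · left
    obtain ⟨n, hn, hnA⟩ := SetLike.not_le_iff_exists.mp hNA
    have hne : conjBy A n ≠ A := fun heq => hnA (conjBy_eq_self_iff.mp heq)
    have hmem : conjBy A n ∈ unipotentSubgroups A B := ⟨n, hNX hn, rfl⟩
    obtain ⟨a, ha, heq⟩ := exists_of_mem_unipotentSubgroups_of_ne h hmem hne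
    have hB : B = conjBy A (a⁻¹ * n) := by
      rw [← conjBy_conjBy, heq, conjBy_inv_conjBy]
    refine sup_le le_sup_right ?_
    rw [hB]
    refine conjBy_le_of_mem le_sup_right ?_
    exact Subgroup.mul_mem _ (Subgroup.mem_sup_right (A.inv_mem ha)) (Subgroup.mem_sup_left hn)

end RankOne

end Cfsg.Agent.Lib.Helper83
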