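import Mathlib
import Cfsg.Prelude.Def_RootSubgroups
import Cfsg.Agent.Lib.Helper83.RankOneNormal

set_option autoImplicit false

namespace Cfsg.Agent.Lib.Helper83

open Cfsg

variable {G : Type*} [Group G] {A B : Subgroup G}

namespace RankOne

lemma unipotentSubgroups_symm (h : IsRankOnePair A B) :
    unipotentSubgroups B A = unipotentSubgroups A B :=
  unipotentSubgroups_eq_of_mem h (right_mem_unipotentSubgroups h) left_mem_unipotentSubgroups
    h.ne.symm

/-- Distinct members of `Ω` intersect trivially. -/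
lemma inf_eq_bot_of_mem_unipotentSubgroups (h : IsRankOnePair A B) {C D : Subgroup G}
    (hC : C ∈ unipotentSubgroups A B) (hD : D ∈ unipotentSubgroups A B) (hCD : C ≠ D) :
    C ⊓ D = ⊥ := by
  rw [eq_bot_iff, ← inf_normalizer_of_mem_unipotentSubgroups h hC hD hCD]
  exact inf_le_inf_left _ Subgroup.le_normalizer

/-- An element of `A ⊔ B` commuting with a non-identity element of `A` normalizes `A`. -/
lemma mem_normalizer_of_commute (h : IsRankOnePair A B) {a x : G} (ha : a ∈ A) (ha1 : a ≠ 1)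
    (hx : x ∈ A ⊔ B) (hax : x * a = a * x) : x ∈ Subgroup.normalizer (A : Set G) := by
  rw [← conjBy_eq_self_iff]
  by_contra hne
  have hmem : conjBy A x ∈ unipotentSubgroups A B := ⟨x, hx, rfl⟩
  have hinf := inf_eq_bot_of_mem_unipotentSubgroups h hmem left_mem_unipotentSubgroups hne
  have ha' : a ∈ conjBy A x := by
    rw [mem_conjBy]
    have : x⁻¹ * a * x = a := by rw [mul_assoc, ← hax]; group
    rw [this]; exact ha
  have : a ∈ conjBy A x ⊓ A := Subgroup.mem_inf.mpr ⟨ha', ha⟩
  rw [hinf, Subgroup.mem_bot] at this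
  exact ha1 this

/-- Key contradiction: if all commutators `a b a⁻¹ b⁻¹`, `b ∈ B`, normalize `B` then `a = 1`. -/
lemma eq_one_of_forall_commutator_mem_normalizer (h : IsRankOnePair A B) {a : G} (ha : a ∈ A)
    (hc : ∀ b ∈ B, a * b * a⁻¹ * b⁻¹ ∈ Subgroup.normalizer (B : Set G)) : a = 1 := by
  apply eq_one_of_mem_of_mem_normalizer h ha
  rw [← conjBy_eq_self_iff]
  apply conjBy_eq_of_le_normalizer (RankOnePair_symm h)
  · rw [unipotentSubgroups_symm h]
    exact conjBy_mem_unipotentSubgroups (right_mem_unipotentSubgroups h) (Subgroup.mem_sup_left ha)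
  · intro x hx
    rw [mem_conjBy] at hx
    have h1 := hc _ hx
    have h2 : x = (a * (a⁻¹ * x * a) * a⁻¹ * (a⁻¹ * x * a)⁻¹) * (a⁻¹ * x * a) := by group
    rw [h2]
    exact Subgroup.mul_mem _ h1 (Subgroup.le_normalizer hx)

end RankOne

namespace RootSet

variable {S : Set (Subgroup G)}

lemma rankOnePair_of_not_isolated {A : Subgroup G}
    (hA : ¬ IsIsolatedIn (FAdj S) S A) (hAS : A ∈ S) : ∃ B ∈ S, IsRankOnePair A B := by
  unfold IsIsolatedIn at hA
  push Not at hA
  obtain ⟨B, hB⟩ := hA hAS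
  by_cases h1 : FAdj S A B
  · exact ⟨B, h1.2.1, h1.2.2⟩
  · have h2 := hB h1
    exact ⟨B, h2.1, RankOnePair_symm h2.2.2⟩

lemma commute_of_commutator_eq_bot {E B : Subgroup G} (h : ⁅E, B⁆ = ⊥) {e b : G} (he : e ∈ E)
    (hb : b ∈ B) : e * b = b * e := by
  rw [Subgroup.commutator_eq_bot_iff_le_centralizer] at h
  exact ((Subgroup.mem_centralizer_iff.mp (h he)) b hb).symm

/-- In the commutator case the elementary commutators lie in `⁅E, B⁆` and commute with `E ⊔ B`. -/
lemma commutator_central {E B : Subgroup G} (h : RootCommutatorCase S E B) {e b : G} (he : e ∈ E)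
    (hb : b ∈ B) : ∀ x ∈ E ⊔ B, (e * b * e⁻¹ * b⁻¹) * x = x * (e * b * e⁻¹ * b⁻¹) := by
  have hmem : e * b * e⁻¹ * b⁻¹ ∈ ⁅E, B⁆ := Subgroup.commutator_mem_commutator he hb
  exact h.2.1 _ hmem

/-- Members of a root subgroup set meeting a member `A` with a rank one partner nontrivially
coincide with it. -/
lemma eq_of_inf_ne_bot (hS : IsRootSubgroupSet S) {A B E : Subgroup G} (hB : B ∈ S) (hE : E ∈ S)
    (hAB : IsRankOnePair A B) {x : G} (hxA : x ∈ A) (hxE : x ∈ E) (hx1 : x ≠ 1) : A = E := by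
  have hxN : x ∉ Subgroup.normalizer (B : Set G) := fun h =>
    hx1 (RankOne.eq_one_of_mem_of_mem_normalizer hAB hxA h)
  rcases hS.pair E hE B hB with h | h | h
  · exfalso
    apply hxN
    rw [Subgroup.commutator_eq_bot_iff_le_centralizer] at h
    exact Subgroup.centralizer_le_normalizer _ (h hxE)
  · obtain ⟨b, hb, _, hEb⟩ := h.cond_left x hxE hx1
    obtain ⟨b', hb', _, hAb⟩ := hAB.cond_left x hxA hx1
    have hE' : E = conjBy A (b * b'⁻¹) := by
      rw [← conjBy_conjBy, hAb, ← hEb, conjBy_conjBy_inv]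
    by_contra hne
    have hmem : E ∈ unipotentSubgroups A B := by
      rw [hE']
      exact ⟨_, Subgroup.mem_sup_right (B.mul_mem hb (B.inv_mem hb')), rfl⟩
    have := RankOne.inf_eq_bot_of_mem_unipotentSubgroups hAB RankOne.left_mem_unipotentSubgroups
      hmem hne
    have hx : x ∈ A ⊓ E := Subgroup.mem_inf.mpr ⟨hxA, hxE⟩
    rw [this, Subgroup.mem_bot] at hx
    exact hx1 hx
  · exfalso
    apply hx1
    apply RankOne.eq_one_of_forall_commutator_mem_normalizer hAB hxA
    intro b hb
    apply Subgroup.centralizer_le_normalizer _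
    rw [Subgroup.mem_centralizer_iff]
    intro y hy
    exact (commutator_central h hxE hb y (Subgroup.mem_sup_right hy)).symm

end RootSet

end Cfsg.Agent.Lib.Helper83
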