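import Mathlib
import Cfsg.Prelude.Def_RootSubgroups
import Cfsg.Agent.Lib.Helper83.RootSet

set_option autoImplicit false

namespace Cfsg.Agent.Lib.Helper83

open Cfsg

variable {G : Type*} [Group G] {A B : Subgroup G}

namespace RootSet

variable {S : Set (Subgroup G)}

lemma mul_comm_of_mem (hS : IsRootSubgroupSet S) {A : Subgroup G} (hA : A ∈ S) {a b : G}
    (ha : a ∈ A) (hb : b ∈ A) : a * b = b * a := by
  have := hS.commutative A hA
  exact setLike_mul_comm ha hb

/-- If `z` centralizes the rank one group `⟨A, B⟩` and `z * a` is a non-identity element of a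
member of `S` for some non-identity `a ∈ A`, then `z = 1`. -/
lemma central_eq_one (hS : IsRootSubgroupSet S) (hA : A ∈ S) (hB : B ∈ S)
    (hAB : IsRankOnePair A B) {z : G}
    (hz : z ∈ Subgroup.centralizer ((A ⊔ B : Subgroup G) : Set G)) {a : G} (ha : a ∈ A)
    (ha1 : a ≠ 1) {E : Subgroup G} (hE : E ∈ S) (hzaE : z * a ∈ E) (hza1 : z * a ≠ 1) : z = 1 := by
  have hzX : ∀ x ∈ A ⊔ B, x * z = z * x := fun x hx => Subgroup.mem_centralizer_iff.mp hz x hx
  have hzA : ∀ x ∈ A, x * z = z * x := fun x hx => hzX x (Subgroup.mem_sup_left hx)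
  have hzB : ∀ x ∈ B, x * z = z * x := fun x hx => hzX x (Subgroup.mem_sup_right hx)
  -- z * a commutes with A
  have hzaA : ∀ x ∈ A, (z * a) * x = x * (z * a) := by
    intro x hx
    rw [mul_assoc, mul_comm_of_mem hS hA ha hx, ← mul_assoc, ← hzA x hx, mul_assoc]
  by_contra hz1
  -- Step A: E commutes with A
  have hEA : ⁅E, A⁆ = ⊥ := by
    rcases hS.pair E hE A hA with h | h | h
    · exact h
    · exfalso
      apply hza1
      apply RankOne.eq_one_of_mem_of_mem_normalizer h hzaE
      apply Subgroup.centralizer_le_normalizer _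
      rw [Subgroup.mem_centralizer_iff]
      intro x hx
      exact (hzaA x hx).symm
    · exfalso
      have h1 := h.2.2.1 (z * a) hzaE hza1
      have h2 : ⁅E, A⁆ ≠ ⊥ := hS.ne_bot _ h.1
      apply h2
      rw [← h1, Subgroup.closure_eq_bot_iff]
      rintro y ⟨x, hx, rfl⟩
      simp only [Set.mem_singleton_iff]
      rw [hzaA x hx, mul_assoc x, mul_inv_cancel, mul_one, mul_inv_cancel]
  -- Step B: relation of E and B
  rcases hS.pair E hE B hB with h | h | h
  · -- a commutes with B
    apply ha1
    apply RankOne.eq_one_of_mem_of_mem_normalizer hAB ha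
    apply Subgroup.centralizer_le_normalizer _
    rw [Subgroup.mem_centralizer_iff]
    intro b hb
    have h1 := commute_of_commutator_eq_bot h hzaE hb
    -- z * a * b = b * (z * a) → a * b = b * a
    have h2 : z * (a * b) = z * (b * a) := by
      rw [← mul_assoc, h1, ← mul_assoc, hzB b hb, mul_assoc]
    exact (mul_left_cancel h2).symm
  · -- rank one pair (E, B)
    obtain ⟨b, hb, _, hEb⟩ := h.cond_left (z * a) hzaE hza1
    obtain ⟨b', hb', _, hAb⟩ := hAB.cond_left a ha ha1
    have hzn : conjBy B z⁻¹ = B := by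
      rw [conjBy_eq_self_iff]
      apply Subgroup.inv_mem
      apply Subgroup.centralizer_le_normalizer _
      rw [Subgroup.mem_centralizer_iff]
      intro x hx
      exact hzB x hx
    have h3 : conjBy B (z * a)⁻¹ = conjBy B a⁻¹ := by
      rw [mul_inv_rev, ← conjBy_conjBy, hzn]
    have hE' : E = conjBy A (b * b'⁻¹) := by
      rw [← conjBy_conjBy, hAb, ← h3, ← hEb, conjBy_conjBy_inv]
    have hmem : E ∈ unipotentSubgroups A B := by
      rw [hE']
      exact ⟨_, Subgroup.mem_sup_right (B.mul_mem hb (B.inv_mem hb')), rfl⟩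
    have hEN : E ≤ Subgroup.normalizer (A : Set G) := by
      rw [Subgroup.commutator_eq_bot_iff_le_centralizer] at hEA
      exact hEA.trans (Subgroup.centralizer_le_normalizer _)
    have hEeq : E = A := RankOne.conjBy_eq_of_le_normalizer hAB hmem hEN
    -- then z ∈ A, and z normalizes B
    apply hz1
    have hzA' : z ∈ A := by
      have : z * a ∈ A := hEeq ▸ hzaE
      have h4 := A.mul_mem this (A.inv_mem ha)
      rwa [mul_assoc, mul_inv_cancel, mul_one] at h4
    apply RankOne.eq_one_of_mem_of_mem_normalizer hAB hzA'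
    apply Subgroup.centralizer_le_normalizer _
    rw [Subgroup.mem_centralizer_iff]
    intro x hx
    exact hzB x hx
  · -- commutator case
    apply ha1
    apply RankOne.eq_one_of_forall_commutator_mem_normalizer hAB ha
    intro b hb
    have h1 : (z * a) * b * (z * a)⁻¹ * b⁻¹ = a * b * a⁻¹ * b⁻¹ := by
      have e1 : z * a = a * z := (hzA a ha).symm
      have e2 : z * b = b * z := (hzB b hb).symm
      rw [mul_inv_rev]
      calc z * a * b * (a⁻¹ * z⁻¹) * b⁻¹ = a * (z * b) * (a⁻¹ * z⁻¹) * b⁻¹ := by
            rw [e1]; group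
        _ = a * b * (z * a⁻¹) * z⁻¹ * b⁻¹ := by rw [e2]; group
        _ = a * b * (a⁻¹ * z) * z⁻¹ * b⁻¹ := by
            have : z * a⁻¹ = a⁻¹ * z := (hzA _ (A.inv_mem ha)).symm
            rw [this]
        _ = a * b * a⁻¹ * b⁻¹ := by group
    rw [← h1]
    apply Subgroup.centralizer_le_normalizer _
    rw [Subgroup.mem_centralizer_iff]
    intro y hy
    exact (commutator_central h hzaE hb y (Subgroup.mem_sup_right hy)).symm

end RootSet

end Cfsg.Agent.Lib.Helper83
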