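import Mathlib
import Cfsg.Prelude.Def_RootSubgroups
import Cfsg.Agent.Lib.Helper83.RootSetCentral

set_option autoImplicit false

namespace Cfsg.Agent.Lib.Helper83

open Cfsg
open scoped commutatorElement

variable {G : Type*} [Group G]

/-- `⁅A, B⁆` is normalized by `A ⊔ B`. -/
lemma conjBy_commutator_of_mem_sup (A B : Subgroup G) {x : G} (hx : x ∈ A ⊔ B) :
    conjBy ⁅A, B⁆ x = ⁅A, B⁆ := by
  rw [conjBy_eq_self_iff]
  revert x
  change A ⊔ B ≤ Subgroup.normalizer ((⁅A, B⁆ : Subgroup G) : Set G)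
  -- it suffices to show that conjugation by elements of A and B maps ⁅A, B⁆ into itself
  have hA : ∀ a' ∈ A, conjBy ⁅A, B⁆ a' ≤ ⁅A, B⁆ := by
    intro a' ha'
    unfold conjBy
    rw [Subgroup.map_le_iff_le_comap, Subgroup.commutator_le]
    intro a ha b hb
    rw [Subgroup.mem_comap]
    have e : (MulAut.conj a').toMonoidHom ⁅a, b⁆ = ⁅a' * a, b⁆ * ⁅a', b⁆⁻¹ := by
      simp only [MulEquiv.coe_toMonoidHom, MulAut.conj_apply, commutatorElement_def]; group
    rw [e]
    exact Subgroup.mul_mem _ (Subgroup.commutator_mem_commutator (A.mul_mem ha' ha) hb)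
      (Subgroup.inv_mem _ (Subgroup.commutator_mem_commutator ha' hb))
  have hB : ∀ b' ∈ B, conjBy ⁅A, B⁆ b' ≤ ⁅A, B⁆ := by
    intro b' hb'
    unfold conjBy
    rw [Subgroup.map_le_iff_le_comap, Subgroup.commutator_le]
    intro a ha b hb
    rw [Subgroup.mem_comap]
    have e : (MulAut.conj b').toMonoidHom ⁅a, b⁆ = ⁅a, b'⁆⁻¹ * ⁅a, b' * b⁆ := by
      simp only [MulEquiv.coe_toMonoidHom, MulAut.conj_apply, commutatorElement_def]; group
    rw [e]
    exact Subgroup.mul_mem _ (Subgroup.inv_mem _ (Subgroup.commutator_mem_commutator ha hb'))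
      (Subgroup.commutator_mem_commutator ha (B.mul_mem hb' hb))
  have key : ∀ (H : Subgroup G), (∀ h ∈ H, conjBy ⁅A, B⁆ h ≤ ⁅A, B⁆) →
      H ≤ Subgroup.normalizer ((⁅A, B⁆ : Subgroup G) : Set G) := by
    intro H hH h hh
    rw [← conjBy_eq_self_iff]
    apply le_antisymm (hH h hh)
    have := conjBy_mono (hH h⁻¹ (H.inv_mem hh)) h
    rwa [conjBy_conjBy_inv] at this
  exact sup_le (key A hA) (key B hB)

/-- Membership in the join of two elementwise commuting subgroups. -/
lemma mem_sup_of_commute {A C : Subgroup G} (h : ∀ a ∈ A, ∀ c ∈ C, a * c = c * a) {x : G} :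
    x ∈ A ⊔ C ↔ ∃ a ∈ A, ∃ c ∈ C, x = a * c := by
  constructor
  · intro hx
    let T : Subgroup G :=
      { carrier := {x | ∃ a ∈ A, ∃ c ∈ C, x = a * c}
        one_mem' := ⟨1, A.one_mem, 1, C.one_mem, by simp⟩
        mul_mem' := by
          rintro _ _ ⟨a, ha, c, hc, rfl⟩ ⟨a', ha', c', hc', rfl⟩
          refine ⟨a * a', A.mul_mem ha ha', c * c', C.mul_mem hc hc', ?_⟩
          calc a * c * (a' * c') = a * (c * a') * c' := by group
            _ = a * (a' * c) * c' := by rw [h a' ha' c hc]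
            _ = a * a' * (c * c') := by group
        inv_mem' := by
          rintro _ ⟨a, ha, c, hc, rfl⟩
          refine ⟨a⁻¹, A.inv_mem ha, c⁻¹, C.inv_mem hc, ?_⟩
          rw [mul_inv_rev, h a⁻¹ (A.inv_mem ha) c⁻¹ (C.inv_mem hc)] }
    have hle : A ⊔ C ≤ T := by
      refine sup_le ?_ ?_
      · intro a ha; exact ⟨a, ha, 1, C.one_mem, by simp⟩
      · intro c hc; exact ⟨1, A.one_mem, c, hc, by simp⟩
    exact hle hx
  · rintro ⟨a, ha, c, hc, rfl⟩
    exact Subgroup.mul_mem _ (Subgroup.mem_sup_left ha) (Subgroup.mem_sup_right hc)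

namespace RootSet

variable {S : Set (Subgroup G)}

/-- The commutator case is symmetric. -/
lemma commCase_symm {A B : Subgroup G} (h : RootCommutatorCase S A B) : RootCommutatorCase S B A := by
  have hcomm : ⁅B, A⁆ = ⁅A, B⁆ := Subgroup.commutator_comm B A
  have hinv : ∀ (f : G → G) (T : Set G) (K : Subgroup G),
      Subgroup.closure (f '' T) = K → Subgroup.closure ((fun x => (f x)⁻¹) '' T) = K := by
    intro f T K hK
    have : (fun x => (f x)⁻¹) '' T = (f '' T)⁻¹ := by
      ext y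
      simp only [Set.mem_image, Set.mem_inv]
      constructor
      · rintro ⟨x, hx, rfl⟩; exact ⟨x, hx, by simp⟩
      · rintro ⟨x, hx, hxy⟩; exact ⟨x, hx, by rw [hxy, inv_inv]⟩
    rw [this, Subgroup.closure_inv, hK]
  refine ⟨by rw [hcomm]; exact h.1, ?_, ?_, ?_⟩
  · intro c hc x hx
    rw [hcomm] at hc
    rw [sup_comm] at hx
    exact h.2.1 c hc x hx
  · intro b hb hb1
    rw [hcomm]
    have := hinv _ _ _ (h.2.2.2 b hb hb1)
    convert this using 3
    group
  · intro a ha ha1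
    rw [hcomm]
    have := hinv _ _ _ (h.2.2.1 a ha ha1)
    convert this using 3
    group

/-- If `⁅A, B⁆ ∈ S` then the pair `(A, B)` is in the commutator case. -/
lemma commCase_of_commutator_mem (hS : IsRootSubgroupSet S) {A B : Subgroup G} (hA : A ∈ S)
    (hB : B ∈ S) (hC : ⁅A, B⁆ ∈ S) : RootCommutatorCase S A B := by
  rcases hS.pair A hA B hB with h | h | h
  · exact absurd h (hS.ne_bot _ hC)
  · exfalso
    -- rank one pair with ⁅A, B⁆ ∈ S is impossible
    obtain ⟨a, ha, ha1⟩ := RankOne.exists_ne_one_left h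
    have hnorm : ∀ x ∈ A ⊔ B, conjBy ⁅A, B⁆ x = ⁅A, B⁆ :=
      fun x hx => conjBy_commutator_of_mem_sup A B hx
    have hle : ⁅A, B⁆ ≤ A ⊔ B := by
      rw [Subgroup.commutator_le]
      intro a' ha' b' hb'
      rw [commutatorElement_def]
      exact Subgroup.mul_mem _ (Subgroup.mul_mem _ (Subgroup.mul_mem _ (Subgroup.mem_sup_left ha')
        (Subgroup.mem_sup_right hb')) (Subgroup.inv_mem _ (Subgroup.mem_sup_left ha')))
        (Subgroup.inv_mem _ (Subgroup.mem_sup_right hb'))
    -- in each case, the commutators a b a⁻¹ b⁻¹ normalize B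
    have hfin : (∀ b ∈ B, a * b * a⁻¹ * b⁻¹ ∈
        Subgroup.centralizer ((A ⊔ B : Subgroup G) : Set G)) → False := by
      intro hcen
      apply ha1
      apply RankOne.eq_one_of_forall_commutator_mem_normalizer h ha
      intro b hb
      apply Subgroup.centralizer_le_normalizer _
      have := hcen b hb
      rw [Subgroup.mem_centralizer_iff] at this ⊢
      intro y hy
      exact this y (Subgroup.mem_sup_right hy)
    rcases RankOne.sup_le_or_le_centralizer h hle hnorm with h1 | h1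
    · -- A ⊔ B ≤ ⁅A,B⁆ ⊔ A
      rcases hS.pair _ hC A hA with h2 | h2 | h2
      · -- ⁅A,B⁆ commutes with A: then A ⊔ B is abelian
        apply hfin
        intro b hb
        have hcomm : ∀ x ∈ ⁅A, B⁆ ⊔ A, ∀ y ∈ ⁅A, B⁆ ⊔ A, x * y = y * x := by
          have hDA : ∀ d ∈ ⁅A, B⁆, ∀ a' ∈ A, d * a' = a' * d :=
            fun d hd a' ha' => commute_of_commutator_eq_bot h2 hd ha'
          intro x hx y hy
          obtain ⟨d, hd, a₁, ha₁, rfl⟩ := (mem_sup_of_commute hDA).mp hx
          obtain ⟨d', hd', a₂, ha₂, rfl⟩ := (mem_sup_of_commute hDA).mp hy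
          have e1 := mul_comm_of_mem hS hC hd hd'
          have e2 := mul_comm_of_mem hS hA ha₁ ha₂
          have e3 := hDA d' hd' a₁ ha₁
          have e4 := hDA d hd a₂ ha₂
          calc d * a₁ * (d' * a₂) = d * (a₁ * d') * a₂ := by group
            _ = d * (d' * a₁) * a₂ := by rw [e3]
            _ = (d * d') * (a₁ * a₂) := by group
            _ = (d' * d) * (a₂ * a₁) := by rw [e1, e2]
            _ = d' * (d * a₂) * a₁ := by group
            _ = d' * (a₂ * d) * a₁ := by rw [e4]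
            _ = d' * a₂ * (d * a₁) := by group
        have hbm : b ∈ ⁅A, B⁆ ⊔ A := h1 (Subgroup.mem_sup_right hb)
        have ham : a ∈ ⁅A, B⁆ ⊔ A := Subgroup.mem_sup_right ha
        have e : a * b * a⁻¹ * b⁻¹ = 1 := by
          rw [hcomm a ham b hbm]; group
        rw [e]; exact Subgroup.one_mem _
      · -- rank one pair (⁅A,B⁆, A): impossible since A normalizes ⁅A,B⁆
        apply ha1
        apply RankOne.eq_one_of_mem_of_mem_normalizer' h2 ha
        rw [← conjBy_eq_self_iff]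
        exact hnorm a (Subgroup.mem_sup_left ha)
      · -- commutator case (⁅A,B⁆, A)
        apply hfin
        -- T = {y | a y a⁻¹ y⁻¹ central in ⁅A,B⁆ ⊔ A}
        have hcen : ∀ d ∈ ⁅A, B⁆, ∀ y ∈ ⁅A, B⁆ ⊔ A,
            (a * d * a⁻¹ * d⁻¹) * y = y * (a * d * a⁻¹ * d⁻¹) := by
          intro d hd y hy
          have h3 := commutator_central (commCase_symm h2) ha hd
          rw [sup_comm] at h3
          exact h3 y hy
        let T : Subgroup G :=
          { carrier := {y | y ∈ ⁅A, B⁆ ⊔ A ∧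
              ∀ z ∈ ⁅A, B⁆ ⊔ A, (a * y * a⁻¹ * y⁻¹) * z = z * (a * y * a⁻¹ * y⁻¹)}
            one_mem' := ⟨Subgroup.one_mem _, by intro z _; simp⟩
            mul_mem' := by
              rintro y y' ⟨hyY, hy⟩ ⟨hy'Y, hy'⟩
              refine ⟨Subgroup.mul_mem _ hyY hy'Y, ?_⟩
              intro z hz
              have e1 : a * (y * y') * a⁻¹ * (y * y')⁻¹ =
                  (a * y * a⁻¹ * y⁻¹) * (y * (a * y' * a⁻¹ * y'⁻¹) * y⁻¹) := by group
              have e2 : y * (a * y' * a⁻¹ * y'⁻¹) * y⁻¹ = a * y' * a⁻¹ * y'⁻¹ := by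
                rw [← hy' y hyY]; group
              rw [e1, e2, mul_assoc, hy' z hz, ← mul_assoc, hy z hz, mul_assoc]
            inv_mem' := by
              rintro y ⟨hyY, hy⟩
              refine ⟨Subgroup.inv_mem _ hyY, ?_⟩
              intro z hz
              have e1 : a * y⁻¹ * a⁻¹ * y⁻¹⁻¹ = y⁻¹ * (a * y * a⁻¹ * y⁻¹)⁻¹ * y := by group
              have e2 : y⁻¹ * (a * y * a⁻¹ * y⁻¹)⁻¹ * y = (a * y * a⁻¹ * y⁻¹)⁻¹ := by
                have h5 : Commute (a * y * a⁻¹ * y⁻¹) y := hy y hyY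
                have h6 : (a * y * a⁻¹ * y⁻¹)⁻¹ * y = y * (a * y * a⁻¹ * y⁻¹)⁻¹ := h5.inv_left.eq
                rw [mul_assoc, h6, ← mul_assoc, inv_mul_cancel, one_mul]
              rw [e1, e2]
              have h5 : Commute (a * y * a⁻¹ * y⁻¹) z := hy z hz
              exact h5.inv_left.eq }
        have hT : ⁅A, B⁆ ⊔ A ≤ T := by
          refine sup_le ?_ ?_
          · intro d hd
            exact ⟨Subgroup.mem_sup_left hd, hcen d hd⟩
          · intro a' ha'
            refine ⟨Subgroup.mem_sup_right ha', ?_⟩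
            have e : a * a' * a⁻¹ * a'⁻¹ = 1 := by
              rw [mul_comm_of_mem hS hA ha ha']; group
            intro z _
            rw [e, one_mul, mul_one]
        intro b hb
        have hbT : b ∈ T := hT (h1 (Subgroup.mem_sup_right hb))
        rw [Subgroup.mem_centralizer_iff]
        intro z hz
        exact (hbT.2 z (h1 hz)).symm
    · -- ⁅A,B⁆ central in A ⊔ B
      apply hfin
      intro b hb
      apply h1
      have := Subgroup.commutator_mem_commutator ha hb
      rwa [commutatorElement_def] at this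
  · exact h

/-- In the commutator case, `b ↦ a b a⁻¹ b⁻¹` is a homomorphism. -/
def commHom {A B : Subgroup G} (h : RootCommutatorCase S A B) {a : G} (ha : a ∈ A) : B →* G where
  toFun b := a * b * a⁻¹ * (b : G)⁻¹
  map_one' := by simp
  map_mul' := by
    intro b b'
    have hc := commutator_central h ha b'.2 (b : G) (Subgroup.mem_sup_right b.2)
    have e : a * ((b : G) * (b' : G)) * a⁻¹ * ((b : G) * (b' : G))⁻¹ =
        (a * b * a⁻¹ * (b : G)⁻¹) * ((b : G) * (a * b' * a⁻¹ * (b' : G)⁻¹) * (b : G)⁻¹) := by group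
    have e2 : (b : G) * (a * b' * a⁻¹ * (b' : G)⁻¹) * (b : G)⁻¹ = a * b' * a⁻¹ * (b' : G)⁻¹ := by
      rw [← hc]; group
    simp only [Subgroup.coe_mul]
    rw [e, e2]

lemma commHom_apply {A B : Subgroup G} (h : RootCommutatorCase S A B) {a : G} (ha : a ∈ A)
    (b : B) : commHom h ha b = a * b * a⁻¹ * (b : G)⁻¹ := rfl

lemma commHom_range {A B : Subgroup G} (h : RootCommutatorCase S A B) {a : G} (ha : a ∈ A)
    (ha1 : a ≠ 1) : (commHom h ha).range = ⁅A, B⁆ := by
  have h1 := h.2.2.1 a ha ha1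
  have h2 : (fun b : G => a * b * a⁻¹ * b⁻¹) '' (B : Set G) =
      ((commHom h ha).range : Set G) := by
    ext y
    constructor
    · rintro ⟨b, hb, rfl⟩
      exact ⟨⟨b, hb⟩, rfl⟩
    · rintro ⟨b, rfl⟩
      exact ⟨b, b.2, rfl⟩
  rw [h2, Subgroup.closure_eq] at h1
  exact h1

/-- Every element of `⁅A, B⁆` is a commutator `a b a⁻¹ b⁻¹` with the given `a ≠ 1`. -/
lemma exists_commutator_eq {A B : Subgroup G} (h : RootCommutatorCase S A B) {a : G} (ha : a ∈ A)
    (ha1 : a ≠ 1) {c : G} (hc : c ∈ ⁅A, B⁆) : ∃ b ∈ B, a * b * a⁻¹ * b⁻¹ = c := by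
  rw [← commHom_range h ha ha1] at hc
  obtain ⟨b, rfl⟩ := hc
  exact ⟨b, b.2, rfl⟩

/-- In the commutator case `A ≠ ⁅A, B⁆`. -/
lemma left_ne_commutator (hS : IsRootSubgroupSet S) {A B : Subgroup G}
    (h : RootCommutatorCase S A B) : A ≠ ⁅A, B⁆ := by
  intro heq
  apply hS.ne_bot _ h.1
  rw [Subgroup.commutator_eq_bot_iff_le_centralizer]
  intro a ha
  rw [Subgroup.mem_centralizer_iff]
  intro b hb
  have ha' : a ∈ ⁅A, B⁆ := heq ▸ ha
  exact (h.2.1 a ha' b (Subgroup.mem_sup_right hb)).symm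

/-- If `A` has a rank one partner, then in the commutator case `A ⊓ ⁅A, B⁆ = ⊥`. -/
lemma left_inf_commutator (hS : IsRootSubgroupSet S) {A B E : Subgroup G}
    (h : RootCommutatorCase S A B) (hE : E ∈ S) (hAE : IsRankOnePair A E) :
    A ⊓ ⁅A, B⁆ = ⊥ := by
  by_contra hne
  obtain ⟨x, hx1⟩ := (Subgroup.ne_bot_iff_exists_ne_one).mp hne
  have hx := Subgroup.mem_inf.mp x.2
  exact left_ne_commutator hS h
    (eq_of_inf_ne_bot hS hE h.1 hAE hx.1 hx.2 (by simpa using hx1))

/-- If `A` has a rank one partner, then in the commutator case no non-identity element of `B`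
commutes with a non-identity element of `A`. -/
lemma eq_one_of_commute (hS : IsRootSubgroupSet S) {A B E : Subgroup G} (hA : A ∈ S)
    (h : RootCommutatorCase S A B) (hE : E ∈ S) (hAE : IsRankOnePair A E) {a b : G} (ha : a ∈ A)
    (ha1 : a ≠ 1) (hb : b ∈ B) (hab : a * b = b * a) : b = 1 := by
  by_contra hb1
  have ha' : a ∈ conjBy A b := by
    rw [mem_conjBy]
    have : b⁻¹ * a * b = a := by rw [mul_assoc, hab]; group
    rw [this]; exact ha
  have heq : A = conjBy A b :=
    eq_of_inf_ne_bot hS hE (hS.conj_mem A hA b) hAE ha ha' ha1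
  have hinf := left_inf_commutator hS h hE hAE
  apply hS.ne_bot _ h.1
  rw [← h.2.2.2 b hb hb1, Subgroup.closure_eq_bot_iff]
  rintro y ⟨a', ha', rfl⟩
  simp only [Set.mem_singleton_iff]
  have h1 : a' * b * a'⁻¹ * b⁻¹ ∈ A := by
    have h2 : b * a'⁻¹ * b⁻¹ ∈ conjBy A b := conj_mem_conjBy (A.inv_mem ha')
    rw [← heq] at h2
    have e : a' * b * a'⁻¹ * b⁻¹ = a' * (b * a'⁻¹ * b⁻¹) := by group
    rw [e]; exact A.mul_mem ha' h2
  have h2 : a' * b * a'⁻¹ * b⁻¹ ∈ ⁅A, B⁆ := Subgroup.commutator_mem_commutator ha' hb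
  have : a' * b * a'⁻¹ * b⁻¹ ∈ A ⊓ ⁅A, B⁆ := Subgroup.mem_inf.mpr ⟨h1, h2⟩
  rwa [hinf, Subgroup.mem_bot] at this

lemma commHom_injective (hS : IsRootSubgroupSet S) {A B E : Subgroup G} (hA : A ∈ S)
    (h : RootCommutatorCase S A B) (hE : E ∈ S) (hAE : IsRankOnePair A E) {a : G} (ha : a ∈ A)
    (ha1 : a ≠ 1) : Function.Injective (commHom h ha) := by
  rw [injective_iff_map_eq_one]
  intro b hb
  rw [commHom_apply] at hb
  have hab : a * (b : G) = b * a := by
    have : a * b = (a * b * a⁻¹ * (b : G)⁻¹) * (b * a) := by group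
    rw [this, hb, one_mul]
  exact Subtype.ext (eq_one_of_commute hS hA h hE hAE ha ha1 b.2 hab)

end RootSet

end Cfsg.Agent.Lib.Helper83
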