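import Mathlib
import Cfsg.Prelude.Def_RootSubgroups
import Cfsg.Agent.Lib.Helper83.RootComm
import Cfsg.Agent.S5029

set_option autoImplicit false

namespace Cfsg.Agent.Lib.Helper83

open Cfsg
open scoped commutatorElement

variable {G : Type*} [Group G]

namespace RootSet

variable {S : Set (Subgroup G)}

lemma not_isolated_of_pair {A E : Subgroup G} (hA : A ∈ S) (hE : E ∈ S)
    (hAE : IsRankOnePair A E) : ¬ IsIsolatedIn (FAdj S) S A := by
  rintro ⟨_, h⟩
  exact (h E).1 ⟨hA, hE, hAE⟩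

/-- Group identity used in the half lemma. -/
lemma conj_formula {a b e : G} (hab : a * b = b * a) :
    (a * e⁻¹) * b * (a * e⁻¹)⁻¹ =
      b * (a * (b⁻¹ * e⁻¹ * b * e) * a⁻¹ * (b⁻¹ * e⁻¹ * b * e)⁻¹) * (b⁻¹ * e⁻¹ * b * e) := by
  have h1 : b * a * b⁻¹ = a := by rw [← hab]; group
  calc (a * e⁻¹) * b * (a * e⁻¹)⁻¹ = a * e⁻¹ * b * e * a⁻¹ := by group
    _ = (b * a * b⁻¹) * e⁻¹ * b * e * a⁻¹ := by rw [h1]
    _ = _ := by group

/-- The half lemma: if `B` is a line partner of `A`, `E` a rank one partner of `A` that is not a rank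
one partner of `B`, and `B` is not isolated, then `⁅A, ⁅B, E⁆⁆ = B` with both pairs in the commutator
case. -/
lemma half (hS : IsRootSubgroupSet S) {A B E E' : Subgroup G} (hA : A ∈ S) (hB : B ∈ S)
    (hE : E ∈ S) (hE' : E' ∈ S) (hAE : IsRankOnePair A E) (hBE' : IsRankOnePair B E')
    (hAB : ⁅A, B⁆ = ⊥) (hne : A ≠ B)
    (hpart : ∀ x ∈ A ⊔ B, x ≠ 1 → ∃ D ∈ S, x ∈ D) (hnr : ¬ IsRankOnePair B E) :
    RootCommutatorCase S B E ∧ RootCommutatorCase S A ⁅B, E⁆ ∧ ⁅A, ⁅B, E⁆⁆ = B := by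
  have hcommAB : ∀ a ∈ A, ∀ b ∈ B, a * b = b * a :=
    fun a ha b hb => commute_of_commutator_eq_bot hAB ha hb
  have hinfAB : ∀ x, x ∈ A → x ∈ B → x = 1 := by
    intro x hxA hxB
    by_contra hx1
    exact hne (eq_of_inf_ne_bot hS hE hB hAE hxA hxB hx1)
  obtain ⟨a, ha, ha1⟩ := RankOne.exists_ne_one_left hAE
  obtain ⟨b₀, hb₀, hb₀1⟩ := RankOne.exists_ne_one_left hBE'
  have hba : ∀ b ∈ B, b ≠ 1 → b * a ∈ A ⊔ B ∧ b * a ≠ 1 := by
    intro b hb hb1
    refine ⟨Subgroup.mul_mem _ (Subgroup.mem_sup_right hb) (Subgroup.mem_sup_left ha), ?_⟩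
    intro h
    apply hb1
    have : b = a⁻¹ := eq_inv_of_mul_eq_one_left h
    exact hinfAB b (this ▸ A.inv_mem ha) hb
  -- Step 1: (B, E) is in the commutator case
  have hBE : RootCommutatorCase S B E := by
    rcases hS.pair B hB E hE with h | h | h
    · exfalso
      have hz : b₀ ∈ Subgroup.centralizer ((A ⊔ E : Subgroup G) : Set G) := by
        have hle : A ⊔ E ≤ Subgroup.centralizer ({b₀} : Set G) := by
          refine sup_le ?_ ?_
          · intro a' ha'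
            rw [Subgroup.mem_centralizer_iff]
            rintro m rfl
            exact (hcommAB a' ha' _ hb₀).symm
          · intro e he
            rw [Subgroup.mem_centralizer_iff]
            rintro m rfl
            exact commute_of_commutator_eq_bot h hb₀ he
        rw [Subgroup.mem_centralizer_iff]
        intro x hx
        exact (Subgroup.mem_centralizer_iff.mp (hle hx) b₀ rfl).symm
      obtain ⟨hmem, hne1⟩ := hba b₀ hb₀ hb₀1
      obtain ⟨D, hD, hxD⟩ := hpart _ hmem hne1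
      exact hb₀1 (central_eq_one hS hA hE hAE hz ha ha1 hD hxD hne1)
    · exact absurd h hnr
    · exact h
  have hF : ⁅B, E⁆ ∈ S := hBE.1
  have hFc : ∀ φ ∈ ⁅B, E⁆, ∀ x ∈ B ⊔ E, φ * x = x * φ := hBE.2.1
  -- the rank one partner element of a
  obtain ⟨e, he, he1, hae⟩ := hAE.cond_left a ha ha1
  have hg : conjBy A (a * e⁻¹) = E := by
    rw [← conjBy_conjBy, hae, conjBy_conjBy]; simp [conjBy_one]
  -- y = g b g⁻¹ commutes with E
  have hy : ∀ b ∈ B, ∀ e' ∈ E, ((a * e⁻¹) * b * (a * e⁻¹)⁻¹) * e' = e' * ((a * e⁻¹) * b * (a * e⁻¹)⁻¹) := by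
    intro b hb e' he'
    rw [← hg, mem_conjBy] at he'
    have h1 := hcommAB _ he' b hb
    have e1 : e' = (a * e⁻¹) * ((a * e⁻¹)⁻¹ * e' * (a * e⁻¹)) * (a * e⁻¹)⁻¹ := by group
    rw [e1]
    calc (a * e⁻¹) * b * (a * e⁻¹)⁻¹ * ((a * e⁻¹) * ((a * e⁻¹)⁻¹ * e' * (a * e⁻¹)) * (a * e⁻¹)⁻¹)
        = (a * e⁻¹) * (b * ((a * e⁻¹)⁻¹ * e' * (a * e⁻¹))) * (a * e⁻¹)⁻¹ := by group
      _ = (a * e⁻¹) * (((a * e⁻¹)⁻¹ * e' * (a * e⁻¹)) * b) * (a * e⁻¹)⁻¹ := by rw [h1]
      _ = _ := by group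
  have hφ : ∀ b ∈ B, b⁻¹ * e⁻¹ * b * e ∈ ⁅B, E⁆ := by
    intro b hb
    have := Subgroup.commutator_mem_commutator (B.inv_mem hb) (E.inv_mem he)
    rw [commutatorElement_def] at this
    simpa using this
  -- Step 2
  rcases hS.pair A hA _ hF with h | h | h
  · -- (i) A commutes with F
    exfalso
    have hφb := hφ b₀ hb₀
    have hκ : a * (b₀⁻¹ * e⁻¹ * b₀ * e) * a⁻¹ * (b₀⁻¹ * e⁻¹ * b₀ * e)⁻¹ = 1 := by
      rw [commute_of_commutator_eq_bot h ha hφb]; group
    have h1 := hy b₀ hb₀ e he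
    rw [conj_formula (hcommAB a ha b₀ hb₀), hκ, mul_one] at h1
    -- h1 : b₀ φ e = e (b₀ φ)
    have h2 := hFc _ hφb e (Subgroup.mem_sup_right he)
    have h3 : b₀ * e = e * b₀ := by
      obtain ⟨φ, hφdef⟩ : ∃ φ, φ = b₀⁻¹ * e⁻¹ * b₀ * e := ⟨_, rfl⟩
      rw [← hφdef] at h1 h2
      have : (b₀ * e) * φ = (e * b₀) * φ := by
        calc (b₀ * e) * φ = b₀ * (e * φ) := mul_assoc _ _ _
          _ = b₀ * (φ * e) := by rw [h2]
          _ = b₀ * φ * e := (mul_assoc _ _ _).symm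
          _ = e * (b₀ * φ) := h1
          _ = e * b₀ * φ := (mul_assoc _ _ _).symm
      exact mul_right_cancel this
    exact he1 (eq_one_of_commute hS hB hBE hE' hBE' hb₀ hb₀1 he h3)
  · -- (ii) rank one pair (A, F)
    exfalso
    obtain ⟨f, hf, hf1⟩ := RankOne.exists_ne_one_right h
    have hbf : b₀ * f ∈ B ⊔ ⁅B, E⁆ :=
      Subgroup.mul_mem _ (Subgroup.mem_sup_left hb₀) (Subgroup.mem_sup_right hf)
    have hbf1 : b₀ * f ≠ 1 := by
      intro h1
      apply hb₀1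
      have h2 : b₀ = f⁻¹ := eq_inv_of_mul_eq_one_left h1
      have h3 : b₀ ∈ B ⊓ ⁅B, E⁆ := Subgroup.mem_inf.mpr ⟨hb₀, h2 ▸ Subgroup.inv_mem _ hf⟩
      rwa [left_inf_commutator hS hBE hE' hBE', Subgroup.mem_bot] at h3
    have hD : ∃ D ∈ S, b₀ * f ∈ D := by
      rcases Cfsg.Agent.S5029.cover hBE hbf with h1 | ⟨e', _, h1⟩
      · exact ⟨_, hF, h1⟩
      · exact ⟨_, hS.conj_mem B hB e', h1⟩
    obtain ⟨D, hD, hmem⟩ := hD
    have hz : b₀ ∈ Subgroup.centralizer ((⁅B, E⁆ ⊔ A : Subgroup G) : Set G) := by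
      have hle : ⁅B, E⁆ ⊔ A ≤ Subgroup.centralizer ({b₀} : Set G) := by
        refine sup_le ?_ ?_
        · intro φ hφ'
          rw [Subgroup.mem_centralizer_iff]
          rintro m rfl
          exact (hFc φ hφ' _ (Subgroup.mem_sup_left hb₀)).symm
        · intro a' ha'
          rw [Subgroup.mem_centralizer_iff]
          rintro m rfl
          exact (hcommAB a' ha' _ hb₀).symm
      rw [Subgroup.mem_centralizer_iff]
      intro x hx
      exact (Subgroup.mem_centralizer_iff.mp (hle hx) b₀ rfl).symm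
    exact hb₀1 (central_eq_one hS hF hA (RankOnePair_symm h) hz hf hf1 hD hmem hbf1)
  · -- (iii) commutator case (A, F)
    refine ⟨hBE, h, ?_⟩
    have hKc : ∀ κ ∈ ⁅A, ⁅B, E⁆⁆, ∀ x ∈ A ⊔ ⁅B, E⁆, κ * x = x * κ := h.2.1
    -- key: b * κ(b) = 1 for b ∈ B, b ≠ 1
    have key : ∀ b ∈ B, b ≠ 1 →
        b * (a * (b⁻¹ * e⁻¹ * b * e) * a⁻¹ * (b⁻¹ * e⁻¹ * b * e)⁻¹) = 1 := by
      intro b hb hb1
      have hφb := hφ b hb
      have hκ : a * (b⁻¹ * e⁻¹ * b * e) * a⁻¹ * (b⁻¹ * e⁻¹ * b * e)⁻¹ ∈ ⁅A, ⁅B, E⁆⁆ := by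
        have := Subgroup.commutator_mem_commutator ha hφb
        rwa [commutatorElement_def] at this
      -- abbreviations via generalization
      obtain ⟨φ, hφdef⟩ : ∃ φ, φ = b⁻¹ * e⁻¹ * b * e := ⟨_, rfl⟩
      obtain ⟨κ, hκdef⟩ : ∃ κ, κ = a * φ * a⁻¹ * φ⁻¹ := ⟨_, rfl⟩
      rw [← hφdef] at hφb hκ ⊢
      rw [← hκdef] at hκ ⊢
      have hyb : ∀ e' ∈ E, (b * κ * φ) * e' = e' * (b * κ * φ) := by
        intro e' he'
        have := hy b hb e' he'
        rwa [conj_formula (hcommAB a ha b hb), ← hφdef, ← hκdef] at this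
      have hz : b * κ ∈ Subgroup.centralizer ((A ⊔ E : Subgroup G) : Set G) := by
        have hle : A ⊔ E ≤ Subgroup.centralizer ({b * κ} : Set G) := by
          refine sup_le ?_ ?_
          · intro a' ha'
            rw [Subgroup.mem_centralizer_iff]
            rintro m rfl
            have h1 := hcommAB a' ha' b hb
            have h2 := hKc κ hκ a' (Subgroup.mem_sup_left ha')
            rw [mul_assoc, h2, ← mul_assoc, ← h1, mul_assoc]
          · intro e' he'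
            rw [Subgroup.mem_centralizer_iff]
            rintro m rfl
            have h1 := hyb e' he'
            have h2 := hFc φ hφb e' (Subgroup.mem_sup_right he')
            -- (bκ) e' = (bκφ) φ⁻¹ e' = ...
            have h3 : (b * κ) * e' * φ = e' * (b * κ) * φ := by
              calc (b * κ) * e' * φ = (b * κ) * (e' * φ) := by group
                _ = (b * κ) * (φ * e') := by rw [h2]
                _ = (b * κ * φ) * e' := by group
                _ = e' * (b * κ * φ) := h1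
                _ = e' * (b * κ) * φ := by group
            exact mul_right_cancel h3
        rw [Subgroup.mem_centralizer_iff]
        intro x hx
        exact (Subgroup.mem_centralizer_iff.mp (hle hx) _ rfl).symm
      obtain ⟨f, hf, hfa⟩ := Cfsg.Agent.S5029.exists_conj_eq h ha ha1 hκ
      obtain ⟨hmem, hne1⟩ := hba b hb hb1
      obtain ⟨D, hD, hxD⟩ := hpart _ hmem hne1
      have hbf : b * f = f * b := (hFc f hf b (Subgroup.mem_sup_left hb)).symm
      have hza : (b * κ) * a = f * (b * a) * f⁻¹ := by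
        calc (b * κ) * a = b * (κ * a) := by group
          _ = b * (f * a * f⁻¹) := by rw [hfa]
          _ = (b * f) * a * f⁻¹ := by group
          _ = (f * b) * a * f⁻¹ := by rw [hbf]
          _ = f * (b * a) * f⁻¹ := by group
      have hmem2 : (b * κ) * a ∈ conjBy D f := by rw [hza]; exact conj_mem_conjBy hxD
      have hne2 : (b * κ) * a ≠ 1 := by
        rw [hza]
        intro h1
        apply hne1
        have : b * a = f⁻¹ * (f * (b * a) * f⁻¹) * f := by group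
        rw [this, h1]; group
      exact central_eq_one hS hA hE hAE hz ha ha1 (hS.conj_mem D hD f) hmem2 hne2
    apply le_antisymm
    · -- K ≤ B
      intro k hk
      obtain ⟨φ', hφ', hk'⟩ := exists_commutator_eq h ha ha1 hk
      have hEB := commCase_symm hBE
      have he' : e⁻¹ ∈ E := E.inv_mem he
      have he1' : e⁻¹ ≠ 1 := by simpa using he1
      have hφ'' : φ'⁻¹ ∈ ⁅E, B⁆ := by
        rw [Subgroup.commutator_comm]; exact Subgroup.inv_mem _ hφ'
      obtain ⟨b'', hb'', hb''φ⟩ := exists_commutator_eq hEB he' he1' hφ''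
      -- φ' = b' ⁻¹ e⁻¹ b' e with b' = b''⁻¹
      have hφeq : φ' = (b''⁻¹)⁻¹ * e⁻¹ * b''⁻¹ * e := by
        have : φ' = (e⁻¹ * b'' * e⁻¹⁻¹ * b''⁻¹)⁻¹ := by rw [hb''φ, inv_inv]
        rw [this]; group
      by_cases hb1 : b''⁻¹ = 1
      · have : φ' = 1 := by rw [hφeq, hb1]; group
        rw [← hk', this]
        have : a * 1 * a⁻¹ * (1 : G)⁻¹ = 1 := by group
        rw [this]; exact B.one_mem
      · have h1 := key b''⁻¹ (B.inv_mem hb'') hb1
        rw [← hφeq, hk'] at h1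
        have : k = (b''⁻¹)⁻¹ := (eq_inv_of_mul_eq_one_right h1)
        rw [this, inv_inv]; exact hb''
    · -- B ≤ K
      intro b hb
      by_cases hb1 : b = 1
      · rw [hb1]; exact Subgroup.one_mem _
      · have h1 := key b hb hb1
        have hκ : a * (b⁻¹ * e⁻¹ * b * e) * a⁻¹ * (b⁻¹ * e⁻¹ * b * e)⁻¹ ∈ ⁅A, ⁅B, E⁆⁆ := by
          have := Subgroup.commutator_mem_commutator ha (hφ b hb)
          rwa [commutatorElement_def] at this
        have : b = (a * (b⁻¹ * e⁻¹ * b * e) * a⁻¹ * (b⁻¹ * e⁻¹ * b * e)⁻¹)⁻¹ :=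
          eq_inv_of_mul_eq_one_left h1
        rw [this]
        exact Subgroup.inv_mem _ hκ

/-- The connecting lemma: from the conclusions of the two half lemmas we find a common rank one
partner of `A` and `B`. -/
lemma connect (hS : IsRootSubgroupSet S) {A B E E' : Subgroup G} (hA : A ∈ S) (hB : B ∈ S)
    (hE : E ∈ S) (hE' : E' ∈ S) (hAE : IsRankOnePair A E) (hBE' : IsRankOnePair B E')
    (hBE : RootCommutatorCase S B E) (hAF : RootCommutatorCase S A ⁅B, E⁆)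
    (hK : ⁅A, ⁅B, E⁆⁆ = B)
    (hAE'c : RootCommutatorCase S A E') (hBF' : RootCommutatorCase S B ⁅A, E'⁆)
    (hK' : ⁅B, ⁅A, E'⁆⁆ = A) :
    ∃ D ∈ S, IsRankOnePair A D ∧ IsRankOnePair B D := by
  have hF : ⁅B, E⁆ ∈ S := hBE.1
  have hF' : ⁅A, E'⁆ ∈ S := hAE'c.1
  obtain ⟨f', hf'1⟩ := (Subgroup.ne_bot_iff_exists_ne_one).mp (hS.ne_bot _ hF')
  have hf' : (f' : G) ∈ ⁅A, E'⁆ := f'.2
  have hf'1' : (f' : G) ≠ 1 := by simpa using hf'1
  -- D₀ = conjBy B f' lies in A ⊔ B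
  have hD₀le : conjBy B (f' : G) ≤ A ⊔ ⁅A, ⁅B, E⁆⁆ := by
    have := Cfsg.Agent.S5029.conj_le (A := B) (B := ⁅A, E'⁆) (f' : G) hf'
    rw [hK'] at this
    rw [hK, sup_comm]
    exact this
  have hD₀S : conjBy B (f' : G) ∈ S := hS.conj_mem B hB _
  have hres := Cfsg.Agent.S5029.result hS (not_isolated_of_pair hA hE hAE) hA hF hAF.1
  have hmem : conjBy B (f' : G) ∈ membersIn S (A ⊔ ⁅A, ⁅B, E⁆⁆) := ⟨hD₀S, hD₀le⟩
  rw [hres.1] at hmem
  -- f' commutes with A, elements of F commute with E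
  have hf'A : conjBy A (f' : G)⁻¹ = A := by
    rw [conjBy_eq_self_iff]
    apply Subgroup.inv_mem
    apply Subgroup.centralizer_le_normalizer _
    rw [Subgroup.mem_centralizer_iff]
    intro a ha
    exact (hAE'c.2.1 _ hf' a (Subgroup.mem_sup_left ha)).symm
  rcases hmem with ⟨f, hf, hfeq⟩ | hmem
  · -- conjBy A f = conjBy B f'
    have hfE : conjBy E f = E := by
      rw [conjBy_eq_self_iff]
      apply Subgroup.centralizer_le_normalizer _
      rw [Subgroup.mem_centralizer_iff]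
      intro e he
      exact (hBE.2.1 f hf e (Subgroup.mem_sup_right he)).symm
    have h1 : IsRankOnePair (conjBy A f) E := by
      have := RankOne.conj hAE f
      rwa [hfE] at this
    simp only at hfeq
    rw [hfeq] at h1
    have h2 := RankOne.conj h1 (f' : G)⁻¹
    rw [conjBy_inv_conjBy] at h2
    have h3 := RankOne.conj hAE (f' : G)⁻¹
    rw [hf'A] at h3
    exact ⟨conjBy E (f' : G)⁻¹, hS.conj_mem E hE _, h3, h2⟩
  · -- conjBy B f' = B: impossible
    exfalso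
    rw [Set.mem_singleton_iff, hK] at hmem
    obtain ⟨b, hb, hb1⟩ := RankOne.exists_ne_one_left hBE'
    apply hf'1'
    apply eq_one_of_commute hS hB hBF' hE' hBE' hb hb1 hf'
    -- b f' b⁻¹ f'⁻¹ ∈ B ⊓ A = ⊥
    have h1 : b * (f' : G) * b⁻¹ * (f' : G)⁻¹ ∈ B := by
      have h2 : (f' : G) * b⁻¹ * (f' : G)⁻¹ ∈ conjBy B (f' : G) := conj_mem_conjBy (B.inv_mem hb)
      rw [hmem] at h2
      have e : b * (f' : G) * b⁻¹ * (f' : G)⁻¹ = b * ((f' : G) * b⁻¹ * (f' : G)⁻¹) := by group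
      rw [e]; exact B.mul_mem hb h2
    have h2 : b * (f' : G) * b⁻¹ * (f' : G)⁻¹ ∈ ⁅B, ⁅A, E'⁆⁆ := by
      have := Subgroup.commutator_mem_commutator hb hf'
      rwa [commutatorElement_def] at this
    have h3 : b * (f' : G) * b⁻¹ * (f' : G)⁻¹ ∈ B ⊓ ⁅B, ⁅A, E'⁆⁆ := Subgroup.mem_inf.mpr ⟨h1, h2⟩
    rw [left_inf_commutator hS hBF' hE' hBE', Subgroup.mem_bot] at h3
    have : b * (f' : G) = (b * (f' : G) * b⁻¹ * (f' : G)⁻¹) * ((f' : G) * b) := by group
    rw [this, h3, one_mul]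

/-- Main lemma for line partners: if `B` is a line partner of `A` and both have rank one partners,
then `A` and `B` are joined by a path of length at most two in `𝓕(S)`. -/
lemma exists_common_partner (hS : IsRootSubgroupSet S) {A B E E' : Subgroup G} (hA : A ∈ S)
    (hE : E ∈ S) (hE' : E' ∈ S) (hAE : IsRankOnePair A E) (hBE' : IsRankOnePair B E')
    (hBA : B ∈ linePartners S A) :
    ∃ D ∈ S, IsRankOnePair A D ∧ IsRankOnePair B D := by
  obtain ⟨⟨hB, hne, hAB⟩, hpartition⟩ := hBA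
  have hpart : ∀ x ∈ A ⊔ B, x ≠ 1 → ∃ D ∈ S, x ∈ D := by
    intro x hx hx1
    obtain ⟨D, hD, hxD⟩ := hpartition.2.1 x hx hx1
    exact ⟨D, hD.1, hxD⟩
  have hpart' : ∀ x ∈ B ⊔ A, x ≠ 1 → ∃ D ∈ S, x ∈ D := by
    intro x hx hx1
    rw [sup_comm] at hx
    exact hpart x hx hx1
  have hBA' : ⁅B, A⁆ = ⊥ := by rw [Subgroup.commutator_comm]; exact hAB
  by_cases h1 : IsRankOnePair B E
  · exact ⟨E, hE, hAE, h1⟩
  by_cases h2 : IsRankOnePair A E'
  · exact ⟨E', hE', h2, hBE'⟩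
  obtain ⟨hBE, hAF, hK⟩ := half hS hA hB hE hE' hAE hBE' hAB hne.symm hpart h1
  obtain ⟨hAE'c, hBF', hK'⟩ := half hS hB hA hE' hE hBE' hAE hBA' hne hpart' h2
  exact connect hS hA hB hE hE' hAE hBE' hBE hAF hK hAE'c hBF' hK'

end RootSet

end Cfsg.Agent.Lib.Helper83
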