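/-
helper83: pulling back rank one pairs, commuting pairs and `PSL₂`-pairs along an injective
homomorphism `f : H →* K`.
-/
import Mathlib
import Cfsg.Prelude.Def_RootSubgroups
import Cfsg.Agent.Lib.Helper83.ConjBy
import Cfsg.Agent.S5035

set_option autoImplicit false

namespace Cfsg.Agent.Lib.Helper83

open Cfsg

section Pullback

variable {H K : Type*} [Group H] [Group K] {f : H →* K}

lemma isNilpotent_of_map (hf : Function.Injective f) {A : Subgroup H}
    (h : Group.IsNilpotent (A.map f)) : Group.IsNilpotent A :=
  Group.nilpotent_of_mulEquiv (A.equivMapOfInjective f hf).symm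

lemma rankOneCondition_of_map (hf : Function.Injective f) {A B : Subgroup H}
    (h : RankOneCondition (A.map f) (B.map f)) : RankOneCondition A B := by
  intro a ha ha1
  have ha1' : f a ≠ 1 := fun h1 => ha1 (hf (h1.trans (map_one f).symm))
  obtain ⟨_, ⟨b, hb, rfl⟩, hb1, heq⟩ := h (f a) (Subgroup.mem_map_of_mem f ha) ha1'
  refine ⟨b, hb, ?_, ?_⟩
  · rintro rfl
    exact hb1 (map_one f)
  · rw [← map_inv, ← map_inv, ← Cfsg.Agent.S5035.map_conjBy, ← Cfsg.Agent.S5035.map_conjBy] at heq
    exact Subgroup.map_injective hf heq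

/-- A pair of subgroups whose images under an injective homomorphism form a rank one pair is a rank
one pair. -/
lemma rankOnePair_of_map (hf : Function.Injective f) {A B : Subgroup H}
    (h : IsRankOnePair (A.map f) (B.map f)) : IsRankOnePair A B :=
  ⟨fun hAB => h.ne (by rw [hAB]), isNilpotent_of_map hf h.nilpotent_left,
    isNilpotent_of_map hf h.nilpotent_right, rankOneCondition_of_map hf h.cond_left,
    rankOneCondition_of_map hf h.cond_right⟩

lemma commutator_eq_bot_of_map (hf : Function.Injective f) {A B : Subgroup H}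
    (h : ⁅A.map f, B.map f⁆ = ⊥) : ⁅A, B⁆ = ⊥ := by
  rw [← Subgroup.map_commutator] at h
  exact (Subgroup.map_eq_bot_iff_of_injective _ hf).mp h

/-- Lifting a homomorphism through an injective homomorphism containing its range. -/
lemma exists_lift (hf : Function.Injective f) {L : Type*} [Group L] (φ : L →* K)
    (h : φ.range ≤ f.range) : ∃ φ' : L →* H, ∀ x, f (φ' x) = φ x := by
  refine ⟨(MonoidHom.ofInjective hf).symm.toMonoidHom.comp
    (φ.codRestrict f.range (fun x => h ⟨x, rfl⟩)), fun x => ?_⟩
  simp only [MonoidHom.coe_comp, Function.comp_apply, MulEquiv.toMonoidHom_eq_coe,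
    MonoidHom.coe_coe]
  rw [MonoidHom.apply_ofInjective_symm]
  rfl

/-- A pair of subgroups whose images under an injective homomorphism form a `PSL₂`-pair is a
`PSL₂`-pair. -/
lemma psl2Pair_of_map (hf : Function.Injective f) (k : Type*) [Field k] {A B : Subgroup H}
    (h : IsPSL2PairOver k (A.map f) (B.map f)) : IsPSL2PairOver k A B := by
  obtain ⟨φ, hrange, hker, hU, hL⟩ := h
  have hle : φ.range ≤ f.range := by
    rw [hrange, ← Subgroup.map_sup]
    exact Subgroup.map_le_range f _
  obtain ⟨φ', hφ'⟩ := exists_lift hf φ hle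
  have hcomp : f.comp φ' = φ := MonoidHom.ext hφ'
  refine ⟨φ', ?_, ?_, ?_, ?_⟩
  · apply Subgroup.map_injective hf
    rw [← MonoidHom.range_comp, hcomp, hrange, Subgroup.map_sup]
  · intro x hx
    apply hker
    rw [MonoidHom.mem_ker] at hx ⊢
    rw [← hφ', hx, map_one]
  · apply Subgroup.map_injective hf
    rw [Subgroup.map_map, hcomp, hU]
  · apply Subgroup.map_injective hf
    rw [Subgroup.map_map, hcomp, hL]

end Pullback

end Cfsg.Agent.Lib.Helper83
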