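/-
helper83: pushing a `PSL₂`-pair forward along an injective homomorphism, and pulling the commutator
case back along an injective homomorphism.
-/
import Cfsg.Agent.Lib.Helper83.Pullback

set_option autoImplicit false

namespace Cfsg.Agent.Lib.Helper83

open Cfsg

section Pullback2

variable {H K : Type*} [Group H] [Group K] {f : H →* K}

/-- The image of a `PSL₂`-pair under an injective homomorphism is a `PSL₂`-pair. -/
lemma map_psl2Pair (hf : Function.Injective f) (k : Type*) [Field k] {A B : Subgroup H}
    (h : IsPSL2PairOver k A B) : IsPSL2PairOver k (A.map f) (B.map f) := by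
  obtain ⟨φ, hrange, hker, hU, hL⟩ := h
  refine ⟨f.comp φ, ?_, ?_, ?_, ?_⟩
  · rw [MonoidHom.range_comp, hrange, Subgroup.map_sup]
  · intro x hx
    apply hker
    rw [MonoidHom.mem_ker] at hx ⊢
    apply hf
    rw [map_one]
    exact hx
  · rw [← Subgroup.map_map, hU]
  · rw [← Subgroup.map_map, hL]

/-- Pulling the commutator case back along an injective homomorphism. -/
lemma commCase_of_map (hf : Function.Injective f) {S : Set (Subgroup H)} {S' : Set (Subgroup K)}
    (hS : ∀ C : Subgroup H, C.map f ∈ S' → C ∈ S) {A B : Subgroup H}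
    (h : RootCommutatorCase S' (A.map f) (B.map f)) : RootCommutatorCase S A B := by
  have hcomm : ⁅A.map f, B.map f⁆ = (⁅A, B⁆).map f := (Subgroup.map_commutator A B f).symm
  refine ⟨?_, ?_, ?_, ?_⟩
  · apply hS
    rw [← hcomm]
    exact h.1
  · intro c hc x hx
    apply hf
    rw [map_mul, map_mul]
    apply h.2.1
    · rw [hcomm]; exact Subgroup.mem_map_of_mem f hc
    · rw [← Subgroup.map_sup]; exact Subgroup.mem_map_of_mem f hx
  · intro a ha ha1
    have ha1' : f a ≠ 1 := fun h1 => ha1 (hf (h1.trans (map_one f).symm))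
    have := h.2.2.1 (f a) (Subgroup.mem_map_of_mem f ha) ha1'
    rw [Cfsg.Agent.S5035.map_closure_comm_left, hcomm] at this
    exact Subgroup.map_injective hf this
  · intro b hb hb1
    have hb1' : f b ≠ 1 := fun h1 => hb1 (hf (h1.trans (map_one f).symm))
    have := h.2.2.2 (f b) (Subgroup.mem_map_of_mem f hb) hb1'
    rw [Cfsg.Agent.S5035.map_closure_comm_right, hcomm] at this
    exact Subgroup.map_injective hf this

end Pullback2

end Cfsg.Agent.Lib.Helper83
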