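import Mathlib
import Cfsg.Prelude.Def_RootSubgroups
import Cfsg.Agent.Lib.Helper83.RankOneNormal

set_option autoImplicit false

namespace Cfsg.Agent.Lib.Helper83

open Cfsg

namespace Quad

variable {X : Type*} [Group X] {V : Type*} [AddCommGroup V] [DistribMulAction X V]

/-- The subgroup `H` acts quadratically on `V`. -/
def IsQuad (V : Type*) [AddCommGroup V] [DistribMulAction X V] (H : Subgroup X) : Prop :=
  ∀ a ∈ H, ∀ a' ∈ H, ∀ v : V, a' • (a • v - v) = a • v - v

/-- The fixed points of `H` on `V`. -/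
def fixedPts (V : Type*) [AddCommGroup V] [DistribMulAction X V] (H : Subgroup X) : AddSubgroup V where
  carrier := {v | ∀ h ∈ H, h • v = v}
  zero_mem' := fun h _ => smul_zero h
  add_mem' := by
    intro v w hv hw h hh
    rw [smul_add, hv h hh, hw h hh]
  neg_mem' := by
    intro v hv h hh
    rw [smul_neg, hv h hh]

lemma mem_fixedPts {H : Subgroup X} {v : V} : v ∈ fixedPts V H ↔ ∀ h ∈ H, h • v = v := Iff.rfl

lemma fixedPts_top_eq_inf {A B : Subgroup X} (htop : A ⊔ B = ⊤) {v : V}
    (hA : v ∈ fixedPts V A) (hB : v ∈ fixedPts V B) : ∀ x : X, x • v = v := by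
  have hle : A ⊔ B ≤ MulAction.stabilizer X v := by
    refine sup_le ?_ ?_
    · intro a ha; exact MulAction.mem_stabilizer_iff.mpr (hA a ha)
    · intro b hb; exact MulAction.mem_stabilizer_iff.mpr (hB b hb)
  intro x
  have : x ∈ A ⊔ B := by rw [htop]; trivial
  exact MulAction.mem_stabilizer_iff.mp (hle this)

lemma IsQuad.sub_mem_fixedPts {H : Subgroup X} (hq : IsQuad V H) {a : X} (ha : a ∈ H) (v : V) :
    a • v - v ∈ fixedPts V H := fun a' ha' => hq a ha a' ha' v

/-- The inverse of a quadratically acting element. -/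
lemma IsQuad.inv_smul {H : Subgroup X} (hq : IsQuad V H) {a : X} (ha : a ∈ H) (v : V) :
    a⁻¹ • v = v - (a • v - v) := by
  have h1 := hq a ha a⁻¹ (H.inv_mem ha) v
  rw [smul_sub, inv_smul_smul] at h1
  -- h1 : v - a⁻¹ • v = a • v - v
  have : a⁻¹ • v = v - (v - a⁻¹ • v) := by abel
  rw [this, h1]

/-- Product of two quadratically acting elements. -/
lemma IsQuad.mul_smul {H : Subgroup X} (hq : IsQuad V H) {a a' : X} (ha : a ∈ H) (ha' : a' ∈ H)
    (v : V) : (a * a') • v = a • v + a' • v - v := by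
  have h1 := hq a' ha' a ha v
  rw [SemigroupAction.mul_smul]
  have : a' • v = v + (a' • v - v) := by abel
  rw [this, smul_add, h1]
  abel

lemma IsQuad.pow_smul {H : Subgroup X} (hq : IsQuad V H) {a : X} (ha : a ∈ H) (n : ℕ) (v : V) :
    (a ^ n) • v = v + n • (a • v - v) := by
  induction n with
  | zero => simp
  | succ n ih =>
    rw [pow_succ, hq.mul_smul (H.pow_mem ha n) ha, ih, succ_nsmul]
    abel

/-- Quadratic action is inherited by conjugates. -/
lemma IsQuad.conjBy {H : Subgroup X} (hq : IsQuad V H) (x : X) : IsQuad V (Cfsg.conjBy H x) := by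
  intro b hb b' hb' v
  rw [mem_conjBy] at hb hb'
  have h1 := hq _ hb _ hb' (x⁻¹ • v)
  have e1 : b • v = x • ((x⁻¹ * b * x) • (x⁻¹ • v)) := by
    simp only [← SemigroupAction.mul_smul]; congr 1; group
  have e2 : b • v - v = x • ((x⁻¹ * b * x) • (x⁻¹ • v) - x⁻¹ • v) := by
    rw [smul_sub, ← e1, smul_inv_smul]
  have e3 : b' • (x • ((x⁻¹ * b * x) • (x⁻¹ • v) - x⁻¹ • v)) =
      x • ((x⁻¹ * b' * x) • ((x⁻¹ * b * x) • (x⁻¹ • v) - x⁻¹ • v)) := by
    simp only [← SemigroupAction.mul_smul]; congr 1; group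
  rw [e2, e3, h1]

/-- A quadratically and faithfully acting group is commutative. -/
lemma IsQuad.mul_comm {H : Subgroup X} (hq : IsQuad V H)
    (hf : ∀ x : X, (∀ v : V, x • v = v) → x = 1) {a a' : X} (ha : a ∈ H) (ha' : a' ∈ H) :
    a * a' = a' * a := by
  have h1 : ∀ v : V, ((a' * a)⁻¹ * (a * a')) • v = v := by
    intro v
    rw [SemigroupAction.mul_smul, hq.mul_smul ha ha', add_comm (a • v), ← hq.mul_smul ha' ha, inv_smul_smul]
  have h2 := hf _ h1
  rw [inv_mul_eq_one] at h2
  exact h2.symm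

/-- The relation `(1)`: if `conjBy A b⁻¹ = conjBy B a⁻¹` and `B` acts quadratically then for a fixed
point `w` of `A` the vector `w - (a • (b • w - w) - (b • w - w))` is fixed by `B`. -/
lemma rel_one {A B : Subgroup X} (hqB : IsQuad V B) {a b : X} (ha : a ∈ A) (hb : b ∈ B)
    (hab : Cfsg.conjBy A b⁻¹ = Cfsg.conjBy B a⁻¹) {w : V} (hw : w ∈ fixedPts V A) :
    w - (a • (b • w - w) - (b • w - w)) ∈ fixedPts V B := by
  -- x = a b⁻¹ conjugates A to B
  have hx : Cfsg.conjBy A (a * b⁻¹) = B := by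
    rw [← conjBy_conjBy, hab, conjBy_conjBy]; simp [conjBy_one]
  have h1 : (a * b⁻¹) • w ∈ fixedPts V B := by
    intro b' hb'
    rw [← hx, mem_conjBy] at hb'
    have h2 := hw _ hb'
    have e : b' • (a * b⁻¹) • w = (a * b⁻¹) • (((a * b⁻¹)⁻¹ * b' * (a * b⁻¹)) • w) := by
      simp only [← SemigroupAction.mul_smul]; congr 1; group
    rw [e, h2]
  have h3 : (a * b⁻¹) • w = w - a • (b • w - w) := by
    rw [SemigroupAction.mul_smul, hqB.inv_smul hb, smul_sub, hw a ha]
  have h4 : b • w - w ∈ fixedPts V B := hqB.sub_mem_fixedPts hb w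
  have h5 : w - (a • (b • w - w) - (b • w - w)) = (a * b⁻¹) • w + (b • w - w) := by
    rw [h3]; abel
  rw [h5]
  exact (fixedPts V B).add_mem h1 h4

/-- The group of elements acting trivially on `V / V₀` where `V₀` are the global fixed points. -/
def stab (X : Type*) [Group X] (V : Type*) [AddCommGroup V] [DistribMulAction X V] : Subgroup X where
  carrier := {x | ∀ v : V, ∀ y : X, y • (x • v - v) = x • v - v}
  one_mem' := by intro v y; simp
  mul_mem' := by
    intro x x' hx hx' v y
    have e : (x * x') • v - v = x • (x' • v - v) + (x • v - v) := by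
      rw [SemigroupAction.mul_smul, smul_sub]; abel
    rw [e, hx' v x, smul_add, hx' v y, hx v y]
  inv_mem' := by
    intro x hx v y
    have e : x⁻¹ • v - v = -(x⁻¹ • (x • v - v)) := by
      rw [smul_sub, inv_smul_smul]; abel
    rw [e, hx v x⁻¹, smul_neg, hx v y]

lemma mem_stab {x : X} : x ∈ stab X V ↔ ∀ v : V, ∀ y : X, y • (x • v - v) = x • v - v := Iff.rfl

lemma stab_normal : (stab X V).Normal := by
  constructor
  intro x hx g v y
  have e : (g * x * g⁻¹) • v - v = g • (x • (g⁻¹ • v) - g⁻¹ • v) := by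
    rw [smul_sub, smul_inv_smul]; simp only [← SemigroupAction.mul_smul, mul_assoc]
  rw [e, ← SemigroupAction.mul_smul, hx (g⁻¹ • v) (y * g), hx (g⁻¹ • v) g]

/-- If everything lies in `stab` and the action is faithful, the group is commutative. -/
lemma comm_of_stab_eq_top (hf : ∀ x : X, (∀ v : V, x • v = v) → x = 1)
    (htop : stab X V = ⊤) (x y : X) : x * y = y * x := by
  have hx : ∀ x : X, x ∈ stab X V := fun x => by rw [htop]; trivial
  have key : ∀ x y : X, ∀ v : V, (x * y) • v = x • v + y • v - v := by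
    intro x y v
    have h1 := hx y v x
    rw [SemigroupAction.mul_smul]
    have : y • v = v + (y • v - v) := by abel
    rw [this, smul_add, h1]
    abel
  have h1 : ∀ v : V, ((y * x)⁻¹ * (x * y)) • v = v := by
    intro v
    rw [SemigroupAction.mul_smul, key x y, add_comm (x • v), ← key y x, inv_smul_smul]
  have h2 := hf _ h1
  rw [inv_mul_eq_one] at h2
  exact h2.symm

end Quad

end Cfsg.Agent.Lib.Helper83
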