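import Mathlib
import Cfsg.Prelude.Def_RootSubgroups
import Cfsg.Agent.Lib.Helper83.RootLine
import Cfsg.Agent.Lib.Helper83.NilSeries

set_option autoImplicit false

/-!
Configuration `A, B, C ∈ S` with `⁅A, B⁆ ∈ S`, `⁅C, B⁆ ∈ S` and `⁅A, C⁆ = ⊥`
(Timmesfeld, Abstract root subgroups, II (2.8)-(2.10)).
-/

namespace Cfsg.Agent.Lib.Helper83

open Cfsg
open scoped commutatorElement

variable {G : Type*} [Group G]

/-- Commutator of products of commuting pairs. -/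
lemma commutator_mul_mul_of_commute {x₁ x₂ y₁ y₂ : G} (h11 : Commute y₁ x₁) (h12 : Commute y₁ x₂)
    (h21 : Commute y₂ x₁) (h22 : Commute y₂ x₂) :
    ⁅y₁ * x₁, x₂ * y₂⁆ = ⁅x₁, x₂⁆ * ⁅y₁, y₂⁆ := by
  have e1 : ⁅x₁, y₂⁆ = 1 := h21.symm.commutator_eq
  have e2 : ⁅y₁, x₂⁆ = 1 := h12.commutator_eq
  have c1 : Commute y₁ ⁅x₁, x₂⁆ := by
    rw [commutatorElement_def]
    exact ((h11.mul_right h12).mul_right h11.inv_right).mul_right h12.inv_right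
  have c2 : Commute x₂ ⁅y₁, y₂⁆ := by
    rw [commutatorElement_def]
    exact ((h12.symm.mul_right h22.symm).mul_right h12.symm.inv_right).mul_right
      h22.symm.inv_right
  rw [commutatorElement_mul_left_eq_conj_mul, commutatorElement_mul_right_eq_mul_conj,
    commutatorElement_mul_right_eq_mul_conj, e1, e2]
  simp only [mul_one, one_mul, mul_inv_cancel_right]
  rw [c1.eq, mul_inv_cancel_right, c2.eq, mul_inv_cancel_right]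

/-- If `a` commutes with `c` then `⁅a, ⁅β, c⁆⁆ = ⁅a, β c β⁻¹⁆`. -/
lemma commutator_commutator_eq_of_commute {a c β : G} (h : Commute a c) :
    ⁅a, ⁅β, c⁆⁆ = ⁅a, β * c * β⁻¹⁆ := by
  have e : ⁅β, c⁆ = (β * c * β⁻¹) * c⁻¹ := by rw [commutatorElement_def]
  have e1 : ⁅a, c⁻¹⁆ = 1 := h.inv_right.commutator_eq
  rw [e, commutatorElement_mul_right_eq_mul_conj, e1]
  simp only [mul_one, mul_inv_cancel_right]

lemma conjBy_commutator (H K : Subgroup G) (g : G) :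
    conjBy ⁅H, K⁆ g = ⁅conjBy H g, conjBy K g⁆ :=
  Subgroup.map_commutator H K _

/-- An element commuting with all of `H` and all of `K` commutes with all of `⁅H, K⁆`. -/
lemma commute_commutator_of_commute {H K : Subgroup G} {z : G} (hH : ∀ x ∈ H, z * x = x * z)
    (hK : ∀ y ∈ K, z * y = y * z) : ∀ p ∈ ⁅H, K⁆, z * p = p * z := by
  have hle : ⁅H, K⁆ ≤ Subgroup.centralizer ({z} : Set G) := by
    refine (Subgroup.commutator_le_sup H K).trans (sup_le ?_ ?_)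
    · intro x hx
      rw [Subgroup.mem_centralizer_iff]
      rintro m rfl
      exact hH x hx
    · intro y hy
      rw [Subgroup.mem_centralizer_iff]
      rintro m rfl
      exact hK y hy
  intro p hp
  exact Subgroup.mem_centralizer_iff.mp (hle hp) z rfl

namespace RootSet

variable {S : Set (Subgroup G)} {A B C : Subgroup G}

lemma commutator_self (hS : IsRootSubgroupSet S) (hA : A ∈ S) : ⁅A, A⁆ = ⊥ :=
  Subgroup.commutator_self_eq_bot_iff.mpr (hS.commutative A hA)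

lemma commCase_left_comm (h : RootCommutatorCase S A B) : ⁅A, ⁅A, B⁆⁆ = ⊥ :=
  commutator_eq_bot_of_forall_mul_comm fun x hx y hy =>
    (h.2.1 y hy x (Subgroup.mem_sup_left hx)).symm

lemma commCase_right_comm (h : RootCommutatorCase S A B) : ⁅B, ⁅A, B⁆⁆ = ⊥ :=
  commutator_eq_bot_of_forall_mul_comm fun x hx y hy =>
    (h.2.1 y hy x (Subgroup.mem_sup_right hx)).symm

/-- `A ⊔ ⁅A, B⁆` is abelian in the commutator case. -/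
lemma commCase_sup_comm (hS : IsRootSubgroupSet S) (hA : A ∈ S) (h : RootCommutatorCase S A B) :
    ⁅A ⊔ ⁅A, B⁆, A ⊔ ⁅A, B⁆⁆ = ⊥ := by
  have h1 := commCase_left_comm h
  have h2 : ⁅⁅A, B⁆, A⁆ = ⊥ := by rw [Subgroup.commutator_comm]; exact h1
  exact sup_commutator_sup_eq_bot (commutator_self hS hA) h1 h2 (commutator_self hS h.1)

/-- For `1 ≠ β ∈ B`: `A ⊔ A^β = A ⊔ ⁅A, B⁆`. -/
lemma sup_conjBy_eq (h : RootCommutatorCase S A B) {β : G} (hβ : β ∈ B) (hβ1 : β ≠ 1) :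
    A ⊔ conjBy A β = A ⊔ ⁅A, B⁆ := by
  apply le_antisymm
  · exact sup_le le_sup_left (Cfsg.Agent.S5029.conj_le β hβ)
  · refine sup_le le_sup_left ?_
    rw [← h.2.2.2 β hβ hβ1, Subgroup.closure_le]
    rintro _ ⟨c, hc, rfl⟩
    have e : c * β * c⁻¹ * β⁻¹ = c * (β * c⁻¹ * β⁻¹) := by group
    simp only [e]
    exact Subgroup.mul_mem _ (Subgroup.mem_sup_left hc)
      (Subgroup.mem_sup_right (conj_mem_conjBy (A.inv_mem hc)))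

/-- A member `D ≤ C ⊔ ⁅C, B⁆` is never a rank one partner of a member `A` commuting with `C`. -/
lemma not_rankOne_of_le (hS : IsRootSubgroupSet S) (hA : A ∈ S) (hC : C ∈ S)
    (hCB : RootCommutatorCase S C B) (hAC : ⁅A, C⁆ = ⊥) {D : Subgroup G} (hD : D ∈ S)
    (hDle : D ≤ C ⊔ ⁅C, B⁆) : ¬ IsRankOnePair D A := by
  intro hDA
  obtain ⟨c, hc1⟩ := (Subgroup.ne_bot_iff_exists_ne_one).mp (hS.ne_bot C hC)
  have hc : (c : G) ∈ C := c.2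
  have hc1' : (c : G) ≠ 1 := by simpa using hc1
  obtain ⟨d, hd, hd1⟩ := RankOne.exists_ne_one_left hDA
  have hcomm := commCase_sup_comm hS hC hCB
  have hcA : ∀ a ∈ A, a * (c : G) = (c : G) * a :=
    fun a ha => mul_comm_of_commutator_eq_bot hAC ha hc
  have hcD : ∀ x ∈ D, x * (c : G) = (c : G) * x :=
    fun x hx => mul_comm_of_commutator_eq_bot hcomm (hDle hx) (Subgroup.mem_sup_left hc)
  have hz : (c : G) ∈ Subgroup.centralizer ((D ⊔ A : Subgroup G) : Set G) := by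
    have hle : D ⊔ A ≤ Subgroup.centralizer ({(c : G)} : Set G) := by
      refine sup_le ?_ ?_
      · intro x hx
        rw [Subgroup.mem_centralizer_iff]
        rintro m rfl
        exact (hcD x hx).symm
      · intro x hx
        rw [Subgroup.mem_centralizer_iff]
        rintro m rfl
        exact (hcA x hx).symm
    rw [Subgroup.mem_centralizer_iff]
    intro x hx
    exact (Subgroup.mem_centralizer_iff.mp (hle hx) _ rfl).symm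
  have hne1 : (c : G) * d ≠ 1 := by
    intro h1
    apply hd1
    have hdC : d ∈ C := by
      have : d = (c : G)⁻¹ := eq_inv_of_mul_eq_one_right h1
      rw [this]; exact C.inv_mem hc
    apply RankOne.eq_one_of_mem_of_mem_normalizer hDA hd
    apply Subgroup.centralizer_le_normalizer _
    rw [Subgroup.mem_centralizer_iff]
    intro a ha
    exact mul_comm_of_commutator_eq_bot hAC ha hdC
  have hmem : (c : G) * d ∈ C ⊔ ⁅C, B⁆ :=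
    Subgroup.mul_mem _ (Subgroup.mem_sup_left hc) (hDle hd)
  obtain ⟨E, hE, hcdE⟩ : ∃ E ∈ S, (c : G) * d ∈ E := by
    rcases Cfsg.Agent.S5029.cover hCB hmem with h1 | ⟨b, _, h1⟩
    · exact ⟨_, hCB.1, h1⟩
    · exact ⟨_, hS.conj_mem C hC b, h1⟩
  exact hc1' (central_eq_one hS hD hA hDA hz hd hd1 hE hcdE hne1)

/-- The pair `(A, D)` for `D ≤ C ⊔ ⁅C, B⁆` either commutes or is in the commutator case. -/
lemma pair_of_le (hS : IsRootSubgroupSet S) (hA : A ∈ S) (hC : C ∈ S)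
    (hCB : RootCommutatorCase S C B) (hAC : ⁅A, C⁆ = ⊥) {D : Subgroup G} (hD : D ∈ S)
    (hDle : D ≤ C ⊔ ⁅C, B⁆) : ⁅A, D⁆ = ⊥ ∨ RootCommutatorCase S A D := by
  rcases hS.pair A hA D hD with h | h | h
  · exact Or.inl h
  · exact absurd (RankOnePair_symm h) (not_rankOne_of_le hS hA hC hCB hAC hD hDle)
  · exact Or.inr h

/-- `⁅A, C^β⁆ = ⊥ ↔ ⁅A, ⁅C, B⁆⁆ = ⊥` for `1 ≠ β ∈ B`. -/
lemma comm_conj_iff (hCB : RootCommutatorCase S C B) (hAC : ⁅A, C⁆ = ⊥) {β : G} (hβ : β ∈ B)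
    (hβ1 : β ≠ 1) : ⁅A, conjBy C β⁆ = ⊥ ↔ ⁅A, ⁅C, B⁆⁆ = ⊥ := by
  constructor
  · intro h
    rw [Subgroup.commutator_comm, Subgroup.commutator_eq_bot_iff_le_centralizer,
      ← hCB.2.2.2 β hβ hβ1, Subgroup.closure_le]
    rintro _ ⟨c, hc, rfl⟩
    have e : c * β * c⁻¹ * β⁻¹ = c * (β * c⁻¹ * β⁻¹) := by group
    simp only [e]
    refine Subgroup.mul_mem _ ?_ ?_
    · rw [Subgroup.mem_centralizer_iff]
      intro a ha
      exact mul_comm_of_commutator_eq_bot hAC ha hc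
    · rw [Subgroup.mem_centralizer_iff]
      intro a ha
      exact mul_comm_of_commutator_eq_bot h ha (conj_mem_conjBy (C.inv_mem hc))
  · intro h
    rw [eq_bot_iff]
    calc ⁅A, conjBy C β⁆ ≤ ⁅A, C ⊔ ⁅C, B⁆⁆ :=
          Subgroup.commutator_mono le_rfl (Cfsg.Agent.S5029.conj_le β hβ)
      _ = ⊥ := commutator_sup_eq_bot hAC h

/-- The configuration `A, B, C ∈ S` with `(A, B)` and `(C, B)` in the commutator case and
`⁅A, C⁆ = ⊥`. -/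
structure Triple (S : Set (Subgroup G)) (A B C : Subgroup G) : Prop where
  hS : IsRootSubgroupSet S
  hA : A ∈ S
  hB : B ∈ S
  hC : C ∈ S
  hAB : RootCommutatorCase S A B
  hCB : RootCommutatorCase S C B
  hAC : ⁅A, C⁆ = ⊥

namespace Triple

lemma symm (t : Triple S A B C) : Triple S C B A :=
  ⟨t.hS, t.hC, t.hB, t.hA, t.hCB, t.hAB, by rw [Subgroup.commutator_comm]; exact t.hAC⟩

lemma exists_beta (t : Triple S A B C) : ∃ β ∈ B, β ≠ 1 := by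
  obtain ⟨b, hb1⟩ := (Subgroup.ne_bot_iff_exists_ne_one).mp (t.hS.ne_bot B t.hB)
  exact ⟨b, b.2, by simpa using hb1⟩

/-- The pair `(A, ⁅C, B⁆)` commutes or is in the commutator case. -/
lemma pairAK (t : Triple S A B C) : ⁅A, ⁅C, B⁆⁆ = ⊥ ∨ RootCommutatorCase S A ⁅C, B⁆ :=
  pair_of_le t.hS t.hA t.hC t.hCB t.hAC t.hCB.1 le_sup_right

/-- The pair `(A, C^β)` commutes or is in the commutator case. -/
lemma pairAconj (t : Triple S A B C) {β : G} (hβ : β ∈ B) :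
    ⁅A, conjBy C β⁆ = ⊥ ∨ RootCommutatorCase S A (conjBy C β) :=
  pair_of_le t.hS t.hA t.hC t.hCB t.hAC (t.hS.conj_mem C t.hC β) (Cfsg.Agent.S5029.conj_le β hβ)

lemma P_comm_A (t : Triple S A B C) : ⁅⁅A, ⁅C, B⁆⁆, A⁆ = ⊥ := by
  rcases t.pairAK with h | h
  · rw [h]; exact Subgroup.commutator_bot_left _
  · rw [Subgroup.commutator_comm]; exact commCase_left_comm h

lemma P_comm_K (t : Triple S A B C) : ⁅⁅A, ⁅C, B⁆⁆, ⁅C, B⁆⁆ = ⊥ := by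
  rcases t.pairAK with h | h
  · rw [h]; exact Subgroup.commutator_bot_left _
  · rw [Subgroup.commutator_comm]; exact commCase_right_comm h

lemma P_comm_P (t : Triple S A B C) : ⁅⁅A, ⁅C, B⁆⁆, ⁅A, ⁅C, B⁆⁆⁆ = ⊥ := by
  rcases t.pairAK with h | h
  · rw [h]; exact Subgroup.commutator_bot_left _
  · exact commutator_self t.hS h.1

lemma K_comm_C (t : Triple S A B C) : ⁅⁅C, B⁆, C⁆ = ⊥ := by
  rw [Subgroup.commutator_comm]; exact commCase_left_comm t.hCB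

lemma K_comm_B (t : Triple S A B C) : ⁅⁅C, B⁆, B⁆ = ⊥ := by
  rw [Subgroup.commutator_comm]; exact commCase_right_comm t.hCB

lemma P_comm_C (t : Triple S A B C) : ⁅⁅A, ⁅C, B⁆⁆, C⁆ = ⊥ := by
  rw [Subgroup.commutator_comm]
  apply commutator_eq_bot_of_forall_mul_comm
  intro c hc p hp
  refine commute_commutator_of_commute ?_ ?_ p hp
  · intro a ha
    exact (mul_comm_of_commutator_eq_bot t.hAC ha hc).symm
  · intro k hk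
    exact (mul_comm_of_commutator_eq_bot t.K_comm_C hk hc).symm

end Triple

lemma commute_conj {x y : G} (h : Commute x y) (g : G) :
    Commute (g * x * g⁻¹) (g * y * g⁻¹) := by
  show g * x * g⁻¹ * (g * y * g⁻¹) = g * y * g⁻¹ * (g * x * g⁻¹)
  have h' : x * y = y * x := h
  calc g * x * g⁻¹ * (g * y * g⁻¹) = g * (x * y) * g⁻¹ := by group
    _ = g * (y * x) * g⁻¹ := by rw [h']
    _ = _ := by group

namespace Triple

lemma P_comm_F (t : Triple S A B C) : ⁅⁅A, ⁅C, B⁆⁆, ⁅A, B⁆⁆ = ⊥ := by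
  obtain ⟨β, hβ, hβ1⟩ := t.exists_beta
  have hF : ⁅A, B⁆ ≤ A ⊔ conjBy A β := by
    rw [sup_conjBy_eq t.hAB hβ hβ1]; exact le_sup_right
  rw [eq_bot_iff]
  refine (Subgroup.commutator_mono le_rfl hF).trans ?_
  rw [le_bot_iff]
  apply commutator_sup_eq_bot t.P_comm_A
  rw [Subgroup.commutator_eq_bot_iff_le_centralizer, Subgroup.commutator_le]
  intro a ha k hk
  have hk' : k ∈ ⁅B, C⁆ := by rwa [Subgroup.commutator_comm]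
  obtain ⟨c, hc, hck⟩ := exists_commutator_eq (commCase_symm t.hCB) hβ hβ1 hk'
  have hac : Commute a c := mul_comm_of_commutator_eq_bot t.hAC ha hc
  have e : ⁅a, k⁆ = ⁅a, β * c * β⁻¹⁆ := by
    rw [← hck, ← commutatorElement_def]
    exact commutator_commutator_eq_of_commute hac
  rw [e, Subgroup.mem_centralizer_iff]
  intro m hm
  have hm' : m ∈ conjBy A β := hm
  have h1 : Commute m a :=
    mul_comm_of_commutator_eq_bot (commCase_sup_comm t.hS t.hA t.hAB)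
      (Cfsg.Agent.S5029.conj_le β hβ hm') (Subgroup.mem_sup_left ha)
  have h2 : Commute m (β * c * β⁻¹) := by
    rw [mem_conjBy] at hm'
    have hmeq : m = β * (β⁻¹ * m * β) * β⁻¹ := by group
    rw [hmeq]
    exact commute_conj (mul_comm_of_commutator_eq_bot t.hAC hm' hc) β
  rw [commutatorElement_def]
  exact (((h1.mul_right h2).mul_right h1.inv_right).mul_right h2.inv_right).eq

/-- `⁅A, ⁅C, B⁆⁆ = ⊥` implies `⁅C, ⁅A, B⁆⁆ = ⊥`. -/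
lemma imp (t : Triple S A B C) (h : ⁅A, ⁅C, B⁆⁆ = ⊥) : ⁅C, ⁅A, B⁆⁆ = ⊥ := by
  obtain ⟨β, hβ, hβ1⟩ := t.exists_beta
  have hβ' : β⁻¹ ∈ B := B.inv_mem hβ
  have hβ1' : β⁻¹ ≠ 1 := by simpa using hβ1
  have h1 : ⁅A, conjBy C β⁻¹⁆ = ⊥ := (comm_conj_iff t.hCB t.hAC hβ' hβ1').mpr h
  have h2 : ⁅conjBy A β, C⁆ = ⊥ := by
    have := congrArg (fun H => conjBy H β) h1
    simp only [conjBy_commutator, conjBy_conjBy_inv, conjBy_bot] at this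
    exact this
  rw [Subgroup.commutator_comm] at h2
  exact (comm_conj_iff t.hAB t.symm.hAC hβ hβ1).mp h2

lemma iff (t : Triple S A B C) : ⁅A, ⁅C, B⁆⁆ = ⊥ ↔ ⁅C, ⁅A, B⁆⁆ = ⊥ :=
  ⟨t.imp, t.symm.imp⟩

/-- `⁅⁅A, B⁆, ⁅C, B⁆⁆ ≤ ⁅A, ⁅C, B⁆⁆ ⊔ ⁅C, ⁅A, B⁆⁆`. -/
lemma T_le (t : Triple S A B C) : ⁅⁅A, B⁆, ⁅C, B⁆⁆ ≤ ⁅A, ⁅C, B⁆⁆ ⊔ ⁅C, ⁅A, B⁆⁆ := by
  obtain ⟨β, hβ, hβ1⟩ := t.exists_beta
  rw [Subgroup.commutator_le]
  intro f hf k hk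
  have hf' : f ∈ ⁅B, A⁆ := by rwa [Subgroup.commutator_comm]
  have hk' : k ∈ ⁅B, C⁆ := by rwa [Subgroup.commutator_comm]
  obtain ⟨a, ha, haf⟩ := exists_commutator_eq (commCase_symm t.hAB) hβ hβ1 hf'
  obtain ⟨c, hc, hck⟩ := exists_commutator_eq (commCase_symm t.hCB) hβ hβ1 hk'
  have hac : Commute a c := mul_comm_of_commutator_eq_bot t.hAC ha hc
  have h11 : Commute (β * a * β⁻¹) a⁻¹ :=
    mul_comm_of_commutator_eq_bot (commCase_sup_comm t.hS t.hA t.hAB)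
      (Cfsg.Agent.S5029.conj_le β hβ (conj_mem_conjBy ha)) (Subgroup.mem_sup_left (A.inv_mem ha))
  have h12 : Commute (β * a * β⁻¹) (β * c * β⁻¹) := commute_conj hac β
  have h21 : Commute c⁻¹ a⁻¹ := (hac.inv_left.inv_right).symm
  have h22 : Commute c⁻¹ (β * c * β⁻¹) :=
    mul_comm_of_commutator_eq_bot (commCase_sup_comm t.hS t.hC t.hCB)
      (Subgroup.mem_sup_left (C.inv_mem hc)) (Cfsg.Agent.S5029.conj_le β hβ (conj_mem_conjBy hc))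
  have e := commutator_mul_mul_of_commute h11 h12 h21 h22
  rw [← haf, ← hck, e]
  refine Subgroup.mul_mem _ (Subgroup.mem_sup_left ?_) (Subgroup.mem_sup_right ?_)
  · rw [← commutator_commutator_eq_of_commute hac.inv_left]
    refine Subgroup.commutator_mem_commutator (A.inv_mem ha) ?_
    rw [Subgroup.commutator_comm]
    exact Subgroup.commutator_mem_commutator hβ hc
  · rw [← commutatorElement_inv, ← commutator_commutator_eq_of_commute hac.symm.inv_left]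
    apply Subgroup.inv_mem
    refine Subgroup.commutator_mem_commutator (C.inv_mem hc) ?_
    rw [Subgroup.commutator_comm]
    exact Subgroup.commutator_mem_commutator hβ ha

/-- `⁅A, ⁅C, B⁆⁆` centralizes `⁅⁅A, B⁆, ⁅C, B⁆⁆`. -/
lemma P_comm_T (t : Triple S A B C) : ⁅⁅A, ⁅C, B⁆⁆, ⁅⁅A, B⁆, ⁅C, B⁆⁆⁆ = ⊥ := by
  apply commutator_eq_bot_of_forall_mul_comm
  intro p hp x hx
  refine commute_commutator_of_commute ?_ ?_ x hx
  · intro f hf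
    exact mul_comm_of_commutator_eq_bot t.P_comm_F hp hf
  · intro k hk
    exact mul_comm_of_commutator_eq_bot t.P_comm_K hp hk

/-- `⁅⁅A, ⁅C, B⁆⁆, B⁆ ≤ ⁅⁅A, B⁆, ⁅C, B⁆⁆`. -/
lemma PB_le (t : Triple S A B C) : ⁅⁅A, ⁅C, B⁆⁆, B⁆ ≤ ⁅⁅A, B⁆, ⁅C, B⁆⁆ := by
  apply commutator_le_of_le_commWith
  rw [Subgroup.commutator_def, Subgroup.closure_le]
  rintro _ ⟨a, ha, k, hk, rfl⟩
  have hp : ⁅a, k⁆ ∈ ⁅A, ⁅C, B⁆⁆ := Subgroup.commutator_mem_commutator ha hk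
  have hpT : ∀ x ∈ ⁅⁅A, B⁆, ⁅C, B⁆⁆, ⁅a, k⁆ * x = x * ⁅a, k⁆ :=
    fun x hx => mul_comm_of_commutator_eq_bot t.P_comm_T hp hx
  refine ⟨?_, ?_⟩
  · apply Subgroup.centralizer_le_normalizer _
    rw [Subgroup.mem_centralizer_iff]
    intro x hx
    exact (hpT x hx).symm
  · intro b hb
    have hbk : b * k * b⁻¹ = k := by
      have := mul_comm_of_commutator_eq_bot t.K_comm_B hk hb
      rw [← this]; group
    have hφ : ⁅b, a⁆ ∈ ⁅A, B⁆ := by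
      rw [Subgroup.commutator_comm]; exact Subgroup.commutator_mem_commutator hb ha
    have h3 : b * a * b⁻¹ = ⁅b, a⁆ * a := by rw [commutatorElement_def]; group
    have h5 : ⁅b, a⁆ * ⁅a, k⁆ * ⁅b, a⁆⁻¹ = ⁅a, k⁆ := by
      have := mul_comm_of_commutator_eq_bot t.P_comm_F hp hφ
      rw [← this]; group
    have ht : ⁅⁅b, a⁆, k⁆ ∈ ⁅⁅A, B⁆, ⁅C, B⁆⁆ := Subgroup.commutator_mem_commutator hφ hk
    have h6 : b * ⁅a, k⁆ * b⁻¹ = ⁅a, k⁆ * ⁅⁅b, a⁆, k⁆ := by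
      rw [conjugate_commutatorElement, hbk, h3, commutatorElement_mul_left_eq_conj_mul, h5]
    have h7 : ⁅⁅a, k⁆, b⁆ = ⁅a, k⁆ * (b * ⁅a, k⁆ * b⁻¹)⁻¹ := by
      conv_lhs => rw [commutatorElement_def]
      group
    rw [h7, h6, mul_inv_rev, ← mul_assoc, hpT _ (Subgroup.inv_mem _ ht),
      mul_inv_cancel_right]
    exact Subgroup.inv_mem _ ht

/-- The group `⟨A, B, C⟩` is nilpotent. -/
theorem isNilpotent (t : Triple S A B C) : Group.IsNilpotent ↥(A ⊔ B ⊔ C) := by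
  have hFA : ⁅⁅A, B⁆, A⁆ = ⊥ := t.symm.K_comm_C
  have hFB : ⁅⁅A, B⁆, B⁆ = ⊥ := t.symm.K_comm_B
  have hKC : ⁅⁅C, B⁆, C⁆ = ⊥ := t.K_comm_C
  have hKB : ⁅⁅C, B⁆, B⁆ = ⊥ := t.K_comm_B
  have hPA := t.P_comm_A
  have hPC := t.P_comm_C
  have hPF := t.P_comm_F
  have hPK := t.P_comm_K
  have hQC : ⁅⁅C, ⁅A, B⁆⁆, C⁆ = ⊥ := t.symm.P_comm_A
  have hQA : ⁅⁅C, ⁅A, B⁆⁆, A⁆ = ⊥ := t.symm.P_comm_C
  have hQK : ⁅⁅C, ⁅A, B⁆⁆, ⁅C, B⁆⁆ = ⊥ := t.symm.P_comm_F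
  have hQF : ⁅⁅C, ⁅A, B⁆⁆, ⁅A, B⁆⁆ = ⊥ := t.symm.P_comm_K
  have hTle := t.T_le
  have hPB := t.PB_le
  have hQB : ⁅⁅C, ⁅A, B⁆⁆, B⁆ ≤ ⁅⁅A, B⁆, ⁅C, B⁆⁆ := by
    have := t.symm.PB_le
    rwa [Subgroup.commutator_comm ⁅C, B⁆ ⁅A, B⁆] at this
  have hPT := t.P_comm_T
  have hQT : ⁅⁅C, ⁅A, B⁆⁆, ⁅⁅A, B⁆, ⁅C, B⁆⁆⁆ = ⊥ := by
    have := t.symm.P_comm_T
    rwa [Subgroup.commutator_comm ⁅C, B⁆ ⁅A, B⁆] at this
  -- level 0: T is central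
  have hTA : ⁅⁅⁅A, B⁆, ⁅C, B⁆⁆, A⁆ = ⊥ := by
    rw [eq_bot_iff]
    refine (Subgroup.commutator_mono hTle le_rfl).trans ?_
    rw [le_bot_iff]
    exact sup_commutator_eq_bot hPA hQA
  have hTC : ⁅⁅⁅A, B⁆, ⁅C, B⁆⁆, C⁆ = ⊥ := by
    rw [eq_bot_iff]
    refine (Subgroup.commutator_mono hTle le_rfl).trans ?_
    rw [le_bot_iff]
    exact sup_commutator_eq_bot hPC hQC
  have hTB : ⁅⁅⁅A, B⁆, ⁅C, B⁆⁆, B⁆ = ⊥ := by
    rw [Subgroup.commutator_comm]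
    apply commutator_eq_bot_of_forall_mul_comm
    intro b hb x hx
    refine commute_commutator_of_commute ?_ ?_ x hx
    · intro f hf
      exact (mul_comm_of_commutator_eq_bot hFB hf hb).symm
    · intro k hk
      exact (mul_comm_of_commutator_eq_bot hKB hk hb).symm
  have h0 : ⁅⁅⁅A, B⁆, ⁅C, B⁆⁆, A ⊔ B ⊔ C⁆ = ⊥ :=
    commutator_sup_eq_bot (commutator_sup_eq_bot hTA hTB) hTC
  have hWT : A ⊔ B ⊔ C ≤ Subgroup.normalizer ((⁅⁅A, B⁆, ⁅C, B⁆⁆ : Subgroup G) : Set G) :=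
    le_normalizer_of_commutator_eq_bot h0
  have hAW : A ≤ A ⊔ B ⊔ C := le_sup_left.trans le_sup_left
  have hBW : B ≤ A ⊔ B ⊔ C := le_sup_right.trans le_sup_left
  have hCW : C ≤ A ⊔ B ⊔ C := le_sup_right
  -- level 1
  have hPNT : ⁅A, ⁅C, B⁆⁆ ≤ Subgroup.normalizer ((⁅⁅A, B⁆, ⁅C, B⁆⁆ : Subgroup G) : Set G) := by
    apply le_normalizer_of_commutator_eq_bot
    rw [Subgroup.commutator_comm]; exact hPT
  have hQNT : ⁅C, ⁅A, B⁆⁆ ≤ Subgroup.normalizer ((⁅⁅A, B⁆, ⁅C, B⁆⁆ : Subgroup G) : Set G) := by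
    apply le_normalizer_of_commutator_eq_bot
    rw [Subgroup.commutator_comm]; exact hQT
  have hPW : ⁅⁅A, ⁅C, B⁆⁆, A ⊔ B ⊔ C⁆ ≤ ⁅⁅A, B⁆, ⁅C, B⁆⁆ := by
    refine commutator_sup_le ((hAW.trans hWT |> sup_le) (hBW.trans hWT)) (hCW.trans hWT) ?_ ?_
    · refine commutator_sup_le (hAW.trans hWT) (hBW.trans hWT) ?_ hPB
      rw [hPA]; exact bot_le
    · rw [hPC]; exact bot_le
  have hQW : ⁅⁅C, ⁅A, B⁆⁆, A ⊔ B ⊔ C⁆ ≤ ⁅⁅A, B⁆, ⁅C, B⁆⁆ := by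
    refine commutator_sup_le ((hAW.trans hWT |> sup_le) (hBW.trans hWT)) (hCW.trans hWT) ?_ ?_
    · refine commutator_sup_le (hAW.trans hWT) (hBW.trans hWT) ?_ hQB
      rw [hQA]; exact bot_le
    · rw [hQC]; exact bot_le
  have h1 : ⁅⁅A, ⁅C, B⁆⁆ ⊔ ⁅C, ⁅A, B⁆⁆, A ⊔ B ⊔ C⁆ ≤ ⁅⁅A, B⁆, ⁅C, B⁆⁆ :=
    sup_commutator_le hPNT hQNT hPW hQW
  -- level 2
  have hWH2 : A ⊔ B ⊔ C ≤
      Subgroup.normalizer ((⁅A, ⁅C, B⁆⁆ ⊔ ⁅C, ⁅A, B⁆⁆ : Subgroup G) : Set G) :=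
    le_normalizer_of_commutator_le (h1.trans hTle)
  have hFH2 : ⁅A, B⁆ ≤
      Subgroup.normalizer ((⁅A, ⁅C, B⁆⁆ ⊔ ⁅C, ⁅A, B⁆⁆ : Subgroup G) : Set G) :=
    le_normalizer_of_commutator_eq_bot (sup_commutator_eq_bot hPF hQF)
  have hKH2 : ⁅C, B⁆ ≤
      Subgroup.normalizer ((⁅A, ⁅C, B⁆⁆ ⊔ ⁅C, ⁅A, B⁆⁆ : Subgroup G) : Set G) :=
    le_normalizer_of_commutator_eq_bot (sup_commutator_eq_bot hPK hQK)
  have hFW : ⁅⁅A, B⁆, A ⊔ B ⊔ C⁆ ≤ ⁅A, ⁅C, B⁆⁆ ⊔ ⁅C, ⁅A, B⁆⁆ := by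
    refine commutator_sup_le ((hAW.trans hWH2 |> sup_le) (hBW.trans hWH2)) (hCW.trans hWH2) ?_ ?_
    · rw [commutator_sup_eq_bot hFA hFB]; exact bot_le
    · rw [Subgroup.commutator_comm]; exact le_sup_right
  have hKW : ⁅⁅C, B⁆, A ⊔ B ⊔ C⁆ ≤ ⁅A, ⁅C, B⁆⁆ ⊔ ⁅C, ⁅A, B⁆⁆ := by
    refine commutator_sup_le ((hAW.trans hWH2 |> sup_le) (hBW.trans hWH2)) (hCW.trans hWH2) ?_ ?_
    · refine commutator_sup_le (hAW.trans hWH2) (hBW.trans hWH2) ?_ ?_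
      · rw [Subgroup.commutator_comm]; exact le_sup_left
      · rw [hKB]; exact bot_le
    · rw [hKC]; exact bot_le
  have h2 : ⁅(⁅A, B⁆ ⊔ ⁅C, B⁆) ⊔ (⁅A, ⁅C, B⁆⁆ ⊔ ⁅C, ⁅A, B⁆⁆), A ⊔ B ⊔ C⁆ ≤
      ⁅A, ⁅C, B⁆⁆ ⊔ ⁅C, ⁅A, B⁆⁆ := by
    refine sup_commutator_le (sup_le hFH2 hKH2) Subgroup.le_normalizer ?_ (h1.trans hTle)
    exact sup_commutator_le hFH2 hKH2 hFW hKW
  -- level 3
  have hWH3 : A ⊔ B ⊔ C ≤ Subgroup.normalizer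
      (((⁅A, B⁆ ⊔ ⁅C, B⁆) ⊔ (⁅A, ⁅C, B⁆⁆ ⊔ ⁅C, ⁅A, B⁆⁆) : Subgroup G) : Set G) :=
    le_normalizer_of_commutator_le (h2.trans le_sup_right)
  have hFH3 : ⁅A, B⁆ ≤ (⁅A, B⁆ ⊔ ⁅C, B⁆) ⊔ (⁅A, ⁅C, B⁆⁆ ⊔ ⁅C, ⁅A, B⁆⁆) :=
    le_sup_left.trans le_sup_left
  have hKH3 : ⁅C, B⁆ ≤ (⁅A, B⁆ ⊔ ⁅C, B⁆) ⊔ (⁅A, ⁅C, B⁆⁆ ⊔ ⁅C, ⁅A, B⁆⁆) :=
    le_sup_right.trans le_sup_left
  have hAA := commutator_self t.hS t.hA
  have hBB := commutator_self t.hS t.hB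
  have hCC := commutator_self t.hS t.hC
  have hCA : ⁅C, A⁆ = ⊥ := t.symm.hAC
  have h3A : ⁅A, A ⊔ B ⊔ C⁆ ≤ (⁅A, B⁆ ⊔ ⁅C, B⁆) ⊔ (⁅A, ⁅C, B⁆⁆ ⊔ ⁅C, ⁅A, B⁆⁆) := by
    refine commutator_sup_le ((hAW.trans hWH3 |> sup_le) (hBW.trans hWH3)) (hCW.trans hWH3) ?_ ?_
    · refine commutator_sup_le (hAW.trans hWH3) (hBW.trans hWH3) ?_ hFH3
      rw [hAA]; exact bot_le
    · rw [t.hAC]; exact bot_le
  have h3B : ⁅B, A ⊔ B ⊔ C⁆ ≤ (⁅A, B⁆ ⊔ ⁅C, B⁆) ⊔ (⁅A, ⁅C, B⁆⁆ ⊔ ⁅C, ⁅A, B⁆⁆) := by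
    refine commutator_sup_le ((hAW.trans hWH3 |> sup_le) (hBW.trans hWH3)) (hCW.trans hWH3) ?_ ?_
    · refine commutator_sup_le (hAW.trans hWH3) (hBW.trans hWH3) ?_ ?_
      · rw [Subgroup.commutator_comm]; exact hFH3
      · rw [hBB]; exact bot_le
    · rw [Subgroup.commutator_comm]; exact hKH3
  have h3C : ⁅C, A ⊔ B ⊔ C⁆ ≤ (⁅A, B⁆ ⊔ ⁅C, B⁆) ⊔ (⁅A, ⁅C, B⁆⁆ ⊔ ⁅C, ⁅A, B⁆⁆) := by
    refine commutator_sup_le ((hAW.trans hWH3 |> sup_le) (hBW.trans hWH3)) (hCW.trans hWH3) ?_ ?_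
    · refine commutator_sup_le (hAW.trans hWH3) (hBW.trans hWH3) ?_ hKH3
      rw [hCA]; exact bot_le
    · rw [hCC]; exact bot_le
  have h3 : ⁅A ⊔ B ⊔ C, A ⊔ B ⊔ C⁆ ≤
      (⁅A, B⁆ ⊔ ⁅C, B⁆) ⊔ (⁅A, ⁅C, B⁆⁆ ⊔ ⁅C, ⁅A, B⁆⁆) := by
    refine sup_commutator_le ((hAW.trans hWH3 |> sup_le) (hBW.trans hWH3)) (hCW.trans hWH3) ?_ h3C
    exact sup_commutator_le (hAW.trans hWH3) (hBW.trans hWH3) h3A h3B
  -- assemble the series
  refine isNilpotent_of_series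
    (fun i => match i with
      | 0 => ⊥
      | 1 => ⁅⁅A, B⁆, ⁅C, B⁆⁆
      | 2 => ⁅A, ⁅C, B⁆⁆ ⊔ ⁅C, ⁅A, B⁆⁆
      | 3 => (⁅A, B⁆ ⊔ ⁅C, B⁆) ⊔ (⁅A, ⁅C, B⁆⁆ ⊔ ⁅C, ⁅A, B⁆⁆)
      | _ => A ⊔ B ⊔ C) 4 rfl le_rfl ?_
  intro i hi
  interval_cases i
  · exact h0.le
  · exact h1
  · exact h2
  · exact h3

end Triple

/-- In the commutator case `⟨A, D⟩` has class at most two. -/
lemma commCase_class_two (hS : IsRootSubgroupSet S) {D : Subgroup G} (hA : A ∈ S) (hD : D ∈ S)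
    (h : RootCommutatorCase S A D) : ⁅⁅A ⊔ D, A ⊔ D⁆, A ⊔ D⁆ = ⊥ := by
  have hMA : ⁅⁅A, D⁆, A⁆ = ⊥ := by rw [Subgroup.commutator_comm]; exact commCase_left_comm h
  have hMD : ⁅⁅A, D⁆, D⁆ = ⊥ := by rw [Subgroup.commutator_comm]; exact commCase_right_comm h
  have hMX : ⁅⁅A, D⁆, A ⊔ D⁆ = ⊥ := commutator_sup_eq_bot hMA hMD
  have hAN := le_normalizer_of_commutator_eq_bot hMA
  have hDN := le_normalizer_of_commutator_eq_bot hMD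
  have h1 : ⁅A, A ⊔ D⁆ ≤ ⁅A, D⁆ := by
    refine commutator_sup_le hAN hDN ?_ le_rfl
    rw [commutator_self hS hA]; exact bot_le
  have h2 : ⁅D, A ⊔ D⁆ ≤ ⁅A, D⁆ := by
    refine commutator_sup_le hAN hDN ?_ ?_
    · rw [Subgroup.commutator_comm]
    · rw [commutator_self hS hD]; exact bot_le
  have h3 : ⁅A ⊔ D, A ⊔ D⁆ ≤ ⁅A, D⁆ := sup_commutator_le hAN hDN h1 h2
  rw [eq_bot_iff]
  exact (Subgroup.commutator_mono h3 le_rfl).trans hMX.le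

namespace Triple

/-- If `⁅A, ⁅C, B⁆⁆ = ⊥` then `X = ⟨A, C^β⟩` is abelian. -/
lemma X_comm (t : Triple S A B C) {β : G} (hβ : β ∈ B) (hβ1 : β ≠ 1) (h : ⁅A, ⁅C, B⁆⁆ = ⊥) :
    IsMulCommutative ↥(A ⊔ conjBy C β) :=
  isMulCommutative_sup (t.hS.commutative A t.hA) (t.hS.commutative _ (t.hS.conj_mem C t.hC β))
    ((comm_conj_iff t.hCB t.hAC hβ hβ1).mpr h)

/-- If `⁅A, ⁅C, B⁆⁆ ≠ ⊥` then `X = ⟨A, C^β⟩` is nilpotent of class exactly two. -/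
lemma X_noncomm (t : Triple S A B C) {β : G} (hβ : β ∈ B) (hβ1 : β ≠ 1) (h : ⁅A, ⁅C, B⁆⁆ ≠ ⊥) :
    ¬ IsMulCommutative ↥(A ⊔ conjBy C β) ∧
      ⁅⁅A ⊔ conjBy C β, A ⊔ conjBy C β⁆, A ⊔ conjBy C β⁆ = ⊥ := by
  have h' : ⁅A, conjBy C β⁆ ≠ ⊥ := fun h0 => h ((comm_conj_iff t.hCB t.hAC hβ hβ1).mp h0)
  rcases t.pairAconj hβ with hc | hc
  · exact absurd hc h'
  · refine ⟨?_, commCase_class_two t.hS t.hA (t.hS.conj_mem C t.hC β) hc⟩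
    intro hcomm
    apply h'
    rw [eq_bot_iff, ← Subgroup.commutator_self_eq_bot_iff.mpr hcomm]
    exact Subgroup.commutator_mono le_sup_left le_sup_right

/-- `X = ⟨A, C^β⟩` and `Y = ⟨A^β, C⟩` commute. -/
lemma XY_comm (t : Triple S A B C) {β : G} (hβ : β ∈ B) :
    ⁅A ⊔ conjBy C β, conjBy A β ⊔ C⁆ = ⊥ := by
  have h11 : ⁅A, conjBy A β⁆ = ⊥ := by
    rw [eq_bot_iff, ← commCase_sup_comm t.hS t.hA t.hAB]
    exact Subgroup.commutator_mono le_sup_left (Cfsg.Agent.S5029.conj_le β hβ)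
  have h21 : ⁅conjBy C β, conjBy A β⁆ = ⊥ := by
    rw [← conjBy_commutator, t.symm.hAC, conjBy_bot]
  have h22 : ⁅conjBy C β, C⁆ = ⊥ := by
    rw [eq_bot_iff, ← commCase_sup_comm t.hS t.hC t.hCB]
    exact Subgroup.commutator_mono (Cfsg.Agent.S5029.conj_le β hβ) le_sup_left
  exact sup_commutator_sup_eq_bot h11 t.hAC h21 h22

/-- `XY = ⟨A, ⁅A, B⁆, C, ⁅C, B⁆⟩`. -/
lemma XY_eq (t : Triple S A B C) {β : G} (hβ : β ∈ B) (hβ1 : β ≠ 1) :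
    (A ⊔ conjBy C β) ⊔ (conjBy A β ⊔ C) = (A ⊔ ⁅A, B⁆) ⊔ (C ⊔ ⁅C, B⁆) := by
  rw [sup_sup_sup_comm, sup_conjBy_eq t.hAB hβ hβ1, sup_comm (conjBy C β) C,
    sup_conjBy_eq t.hCB hβ hβ1]

/-- `XY` is normal in `⟨A, B, C⟩`. -/
lemma XY_normal (t : Triple S A B C) :
    A ⊔ B ⊔ C ≤ Subgroup.normalizer (((A ⊔ ⁅A, B⁆) ⊔ (C ⊔ ⁅C, B⁆) : Subgroup G) : Set G) := by
  have hA : A ≤ (A ⊔ ⁅A, B⁆) ⊔ (C ⊔ ⁅C, B⁆) := le_sup_left.trans le_sup_left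
  have hF : ⁅A, B⁆ ≤ (A ⊔ ⁅A, B⁆) ⊔ (C ⊔ ⁅C, B⁆) := le_sup_right.trans le_sup_left
  have hC : C ≤ (A ⊔ ⁅A, B⁆) ⊔ (C ⊔ ⁅C, B⁆) := le_sup_left.trans le_sup_right
  have hK : ⁅C, B⁆ ≤ (A ⊔ ⁅A, B⁆) ⊔ (C ⊔ ⁅C, B⁆) := le_sup_right.trans le_sup_right
  have hN : (A ⊔ ⁅A, B⁆) ⊔ (C ⊔ ⁅C, B⁆) ≤
      Subgroup.normalizer (((A ⊔ ⁅A, B⁆) ⊔ (C ⊔ ⁅C, B⁆) : Subgroup G) : Set G) :=
    Subgroup.le_normalizer
  refine sup_le (sup_le (hA.trans hN) ?_) (hC.trans hN)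
  apply le_normalizer_of_commutator_le
  refine sup_commutator_le ((sup_le hA hF).trans hN) ((sup_le hC hK).trans hN) ?_ ?_
  · refine sup_commutator_le (hA.trans hN) (hF.trans hN) hF ?_
    rw [t.symm.K_comm_B]; exact bot_le
  · refine sup_commutator_le (hC.trans hN) (hK.trans hN) hK ?_
    rw [t.K_comm_B]; exact bot_le

/-- `⟨A, B, C⟩ = (XY) B`. -/
lemma XYB_eq (_t : Triple S A B C) :
    ((A ⊔ ⁅A, B⁆) ⊔ (C ⊔ ⁅C, B⁆)) ⊔ B = A ⊔ B ⊔ C := by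
  have hAW : A ≤ A ⊔ B ⊔ C := le_sup_left.trans le_sup_left
  have hBW : B ≤ A ⊔ B ⊔ C := le_sup_right.trans le_sup_left
  have hCW : C ≤ A ⊔ B ⊔ C := le_sup_right
  apply le_antisymm
  · refine sup_le (sup_le (sup_le hAW ?_) (sup_le hCW ?_)) hBW
    · exact (Subgroup.commutator_le_sup A B).trans (sup_le hAW hBW)
    · exact (Subgroup.commutator_le_sup C B).trans (sup_le hCW hBW)
  · refine sup_le (sup_le ?_ le_sup_right) ?_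
    · exact (le_sup_left.trans le_sup_left).trans le_sup_left
    · exact (le_sup_left.trans le_sup_right).trans le_sup_left

end Triple

end RootSet

end Cfsg.Agent.Lib.Helper83
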