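import Mathlib
import Cfsg.Prelude.Def_RootSubgroups
import Cfsg.Agent.Lib.Helper83.RootTriple
import Cfsg.Agent.S5038

set_option autoImplicit false

/-!
Line partners: symmetry, conjugation invariance; classes of abstract root subgroups:
existence of rank one partners, line partners, and of line partners in the commutator case with a
given rank one partner (Timmesfeld II (2.12)).
-/

namespace Cfsg.Agent.Lib.Helper83

open Cfsg
open scoped commutatorElement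

variable {G : Type*} [Group G]

namespace RootSet

variable {S : Set (Subgroup G)} {A B D : Subgroup G}

lemma linePartners_symm (hA : A ∈ S) (h : B ∈ linePartners S A) : A ∈ linePartners S B := by
  obtain ⟨⟨_, hne, hcomm⟩, hpart⟩ := h
  refine ⟨⟨hA, hne.symm, by rw [Subgroup.commutator_comm]; exact hcomm⟩, ?_⟩
  rw [sup_comm]
  exact hpart

lemma membersIn_conj (hS : IsRootSubgroupSet S) {N M : Subgroup G} (g : G)
    (h : M ∈ membersIn S N) : conjBy M g ∈ membersIn S (conjBy N g) :=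
  ⟨hS.conj_mem M h.1 g, conjBy_mono h.2 g⟩

lemma partition_conj (hS : IsRootSubgroupSet S) {N : Subgroup G} (g : G)
    (h : IsSubgroupPartition N (membersIn S N)) :
    IsSubgroupPartition (conjBy N g) (membersIn S (conjBy N g)) := by
  obtain ⟨_, hcov, hdisj⟩ := h
  refine ⟨fun C hC => hC.2, ?_, ?_⟩
  · intro x hx hx1
    have hx' : g⁻¹ * x * g ∈ N := mem_conjBy.mp hx
    have hx1' : g⁻¹ * x * g ≠ 1 := by
      intro h1
      apply hx1
      have : x = g * (g⁻¹ * x * g) * g⁻¹ := by group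
      rw [this, h1]; group
    obtain ⟨M, hM, hxM⟩ := hcov _ hx' hx1'
    refine ⟨conjBy M g, membersIn_conj hS g hM, ?_⟩
    rw [mem_conjBy]; exact hxM
  · intro P hP Q hQ hPQ
    have hP' : conjBy P g⁻¹ ∈ membersIn S N := by
      have := membersIn_conj hS g⁻¹ hP
      rwa [conjBy_inv_conjBy] at this
    have hQ' : conjBy Q g⁻¹ ∈ membersIn S N := by
      have := membersIn_conj hS g⁻¹ hQ
      rwa [conjBy_inv_conjBy] at this
    have hne : conjBy P g⁻¹ ≠ conjBy Q g⁻¹ := fun h => hPQ (conjBy_inj.mp h)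
    have h1 := hdisj _ hP' _ hQ' hne
    rw [← conjBy_inf, conjBy_eq_bot_iff] at h1
    exact h1

lemma linePartners_conj (hS : IsRootSubgroupSet S) (h : B ∈ linePartners S A) (g : G) :
    conjBy B g ∈ linePartners S (conjBy A g) := by
  obtain ⟨⟨hB, hne, hcomm⟩, hpart⟩ := h
  refine ⟨⟨hS.conj_mem B hB g, fun h => hne (conjBy_inj.mp h), ?_⟩, ?_⟩
  · rw [← conjBy_commutator, hcomm, conjBy_bot]
  · rw [← conjBy_sup]
    exact partition_conj hS g hpart

/-- In the commutator case `⁅A, B⁆` is a line partner of `A` (for `A` not isolated). -/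
lemma commutator_mem_linePartners (hS : IsRootSubgroupSet S)
    (hni : ¬ IsIsolatedIn (FAdj S) S A) (hA : A ∈ S) (hB : B ∈ S)
    (h : RootCommutatorCase S A B) : ⁅A, B⁆ ∈ linePartners S A :=
  ⟨⟨h.1, (left_ne_commutator hS h).symm, commCase_left_comm h⟩,
    (Cfsg.Agent.S5029.result hS hni hA hB h.1).2.1⟩

/-- In the commutator case a conjugate `A^d ≠ A`, `d ∈ D`, is a line partner of `A`. -/
lemma conjBy_mem_linePartners (hS : IsRootSubgroupSet S)
    (hni : ¬ IsIsolatedIn (FAdj S) S A) (hA : A ∈ S) (hD : D ∈ S)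
    (h : RootCommutatorCase S A D) {d : G} (hd : d ∈ D) (hne : conjBy A d ≠ A) :
    conjBy A d ∈ linePartners S A := by
  have hd1 : d ≠ 1 := by
    rintro rfl
    exact hne (conjBy_one A)
  have hle : conjBy A d ≤ A ⊔ ⁅A, D⁆ := Cfsg.Agent.S5029.conj_le d hd
  have hsup : A ⊔ conjBy A d = A ⊔ ⁅A, D⁆ := sup_conjBy_eq h hd hd1
  have hcomm : ⁅A, conjBy A d⁆ = ⊥ := by
    rw [eq_bot_iff, ← commCase_sup_comm hS hA h]
    exact Subgroup.commutator_mono le_sup_left hle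
  refine ⟨⟨hS.conj_mem A hA d, hne, hcomm⟩, ?_⟩
  rw [hsup]
  exact (Cfsg.Agent.S5029.result hS hni hA hD h.1).2.1

end RootSet

namespace RootClass

variable {S : Set (Subgroup G)} {A B : Subgroup G}

lemma exists_partner (hS : IsRootSubgroupClass S) (hnd : IsNondegenerateRootSet S) (hA : A ∈ S) :
    ∃ E ∈ S, IsRankOnePair A E := by
  obtain ⟨A₀, hA₀, B₀, hB₀, h⟩ := hnd.2.1
  obtain ⟨g, rfl⟩ := hS.2.2 A₀ hA₀ A hA
  exact ⟨conjBy B₀ g, hS.1.conj_mem B₀ hB₀ g, RankOne.conj h g⟩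

lemma not_isolated (hS : IsRootSubgroupClass S) (hnd : IsNondegenerateRootSet S) :
    ∀ A ∈ S, ¬ IsIsolatedIn (FAdj S) S A := by
  intro A hA
  obtain ⟨E, hE, hAE⟩ := exists_partner hS hnd hA
  exact RootSet.not_isolated_of_pair hA hE hAE

lemma exists_linePartner (hS : IsRootSubgroupClass S) (hnd : IsNondegenerateRootSet S)
    (hA : A ∈ S) : ∃ C, C ∈ linePartners S A := by
  obtain ⟨A₀, hA₀, B₀, hB₀, h⟩ := hnd.2.2
  obtain ⟨g, rfl⟩ := hS.2.2 A₀ hA₀ A hA
  have h1 := RootSet.commutator_mem_linePartners hS.1 (not_isolated hS hnd A₀ hA₀) hA₀ hB₀ h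
  exact ⟨_, RootSet.linePartners_conj hS.1 h1 g⟩

/-- Timmesfeld II (2.12): for a rank one partner `B` of `A` there is a line partner `C` of `A` with
`(C, B)` in the commutator case and `⁅A, ⁅C, B⁆⁆ = C`. -/
lemma exists_linePartner_commCase (hS : IsRootSubgroupClass S) (hnd : IsNondegenerateRootSet S)
    (hA : A ∈ S) (hB : B ∈ S) (hAB : IsRankOnePair A B) :
    ∃ C ∈ linePartners S A, RootCommutatorCase S C B ∧ RootCommutatorCase S A ⁅C, B⁆ ∧
      ⁅A, ⁅C, B⁆⁆ = C := by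
  have hF := not_isolated hS hnd
  obtain ⟨C₀, hC₀⟩ := exists_linePartner hS hnd hA
  obtain ⟨⟨hC₀S, hC₀A, hAC₀⟩, hle, hcov, hdisj⟩ := id hC₀
  have hcover : ∀ x ∈ A ⊔ C₀, x ≠ 1 → ∃ D ∈ S, x ∈ D := by
    intro x hx hx1
    obtain ⟨D, hD, hxD⟩ := hcov x hx hx1
    exact ⟨D, hD.1, hxD⟩
  by_cases hC₀B : IsRankOnePair C₀ B
  · have hAmem : A ∈ membersIn S (A ⊔ C₀) := ⟨hA, le_sup_left⟩
    have hCmem : C₀ ∈ membersIn S (A ⊔ C₀) := ⟨hC₀S, le_sup_right⟩
    obtain ⟨D, hD, hDA, _, hDB, _⟩ :=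
      Cfsg.Agent.S5038.exists_nonpartner hAC₀ (hdisj A hAmem C₀ hCmem (Ne.symm hC₀A)) hcov hAB hC₀B
    have hNN : ⁅A ⊔ C₀, A ⊔ C₀⁆ = ⊥ := by
      have hCA' : ⁅C₀, A⁆ = ⊥ := by rw [Subgroup.commutator_comm]; exact hAC₀
      exact sup_commutator_sup_eq_bot (RootSet.commutator_self hS.1 hA) hAC₀ hCA'
        (RootSet.commutator_self hS.1 hC₀S)
    have hAD : ⁅A, D⁆ = ⊥ := by
      rw [eq_bot_iff, ← hNN]
      exact Subgroup.commutator_mono le_sup_left hD.2
    have hcoverD : ∀ x ∈ A ⊔ D, x ≠ 1 → ∃ D' ∈ S, x ∈ D' := by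
      intro x hx hx1
      exact hcover x ((sup_le le_sup_left hD.2) hx) hx1
    obtain ⟨E', hE', hDE'⟩ := RootSet.rankOnePair_of_not_isolated (hF D hD.1) hD.1
    obtain ⟨h1, h2, h3⟩ :=
      RootSet.half hS.1 hA hD.1 hB hE' hAB hDE' hAD (Ne.symm hDA) hcoverD hDB
    obtain ⟨_, _, _, _, _, hpartD⟩ := Cfsg.Agent.S5038.pointed hS.1 hF hA hD.1 hB hAD
      (Ne.symm hDA) hcoverD hAB hDB
    exact ⟨D, ⟨⟨hD.1, hDA, hAD⟩, hpartD⟩, h1, h2, h3⟩
  · obtain ⟨E', hE', hCE'⟩ := RootSet.rankOnePair_of_not_isolated (hF C₀ hC₀S) hC₀S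
    obtain ⟨h1, h2, h3⟩ :=
      RootSet.half hS.1 hA hC₀S hB hE' hAB hCE' hAC₀ (Ne.symm hC₀A) hcover hC₀B
    exact ⟨C₀, hC₀, h1, h2, h3⟩

end RootClass

end Cfsg.Agent.Lib.Helper83
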