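/-
helper83: basic lemmas on sets of root involutions (Timmesfeld): involution calculus, dihedral
2-groups, and the lemma on three points of a line `{a, e, ae} ⊆ D` seen from a member `x` with
`a x` of odd order.
-/
import Mathlib
import Cfsg.Prelude.Def_RootSubgroups

set_option autoImplicit false

namespace Cfsg.Agent.Lib.Helper83

open Cfsg

namespace RootInv

section General

variable {G : Type*} [Group G]

lemma orderOf_conj' (g x : G) : orderOf (g * x * g⁻¹) = orderOf x :=
  orderOf_injective (MulAut.conj g).toMonoidHom (MulAut.conj g).injective x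

lemma orderOf_mul_comm' (a b : G) : orderOf (a * b) = orderOf (b * a) := by
  have h : b * a = a⁻¹ * (a * b) * a⁻¹⁻¹ := by group
  rw [h, orderOf_conj']

/-- Two involutions whose product has order dividing `4` generate a `2`-group. -/
lemma isPGroup_closure_pair {a b : G} (ha : a * a = 1) (hb : b * b = 1) (hab : (a * b) ^ 4 = 1) :
    IsPGroup 2 (Subgroup.closure ({a, b} : Set G)) := by
  have hainv : a⁻¹ = a := inv_eq_of_mul_eq_one_left ha
  have hbinv : b⁻¹ = b := inv_eq_of_mul_eq_one_left hb
  have hH : IsPGroup 2 (Subgroup.zpowers a) := by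
    have hdvd : orderOf a ∣ 2 ^ 1 := by
      rw [pow_one]
      apply orderOf_dvd_of_pow_eq_one
      rw [pow_two, ha]
    obtain ⟨k, _, hk⟩ := (Nat.dvd_prime_pow Nat.prime_two).mp hdvd
    exact IsPGroup.of_card (n := k) (by rw [Nat.card_zpowers, hk])
  have hK : IsPGroup 2 (Subgroup.zpowers (a * b)) := by
    have hdvd : orderOf (a * b) ∣ 2 ^ 2 := orderOf_dvd_of_pow_eq_one (by norm_num; exact hab)
    obtain ⟨k, _, hk⟩ := (Nat.dvd_prime_pow Nat.prime_two).mp hdvd
    exact IsPGroup.of_card (n := k) (by rw [Nat.card_zpowers, hk])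
  have hnorm : Subgroup.zpowers a ≤ Subgroup.normalizer (Subgroup.zpowers (a * b) : Set G) := by
    rw [Subgroup.zpowers_le]
    rw [Subgroup.mem_normalizer_iff]
    intro h
    have key : ∀ y : G, y ∈ Subgroup.zpowers (a * b) → a * y * a⁻¹ ∈ Subgroup.zpowers (a * b) := by
      intro y hy
      obtain ⟨n, rfl⟩ := hy
      have h1 : a * (a * b) ^ n * a⁻¹ = (a * (a * b) * a⁻¹) ^ n := by
        have := map_zpow (MulAut.conj a).toMonoidHom (a * b) n
        simpa using this
      rw [h1]
      apply Subgroup.zpow_mem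
      have h2 : a * (a * b) * a⁻¹ = (a * b)⁻¹ := by
        rw [mul_inv_rev, hainv, hbinv, ← mul_assoc, ha, one_mul]
      rw [h2]
      exact Subgroup.inv_mem _ (Subgroup.mem_zpowers _)
    constructor
    · exact key h
    · intro hy
      have := key _ hy
      have h3 : a * (a * h * a⁻¹) * a⁻¹ = h := by
        rw [hainv]
        calc a * (a * h * a) * a = (a * a) * h * (a * a) := by group
          _ = h := by rw [ha, one_mul, mul_one]
      rwa [h3] at this
  have hsup := IsPGroup.to_sup_of_normal_right' hH hK hnorm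
  apply hsup.to_le
  rw [Subgroup.closure_le]
  rintro y (rfl | rfl)
  · exact Subgroup.mem_sup_left (Subgroup.mem_zpowers _)
  · exact (Subgroup.mul_mem_cancel_left _ (Subgroup.mem_sup_left (Subgroup.mem_zpowers a))).mp
      (Subgroup.mem_sup_right (Subgroup.mem_zpowers (a * y)))

end General

section RootInvolutions

variable {G : Type*} [Group G] {D : Set G}

lemma sq (hD : IsRootInvolutionSet D) {d : G} (hd : d ∈ D) : d * d = 1 := by
  have h := pow_orderOf_eq_one d
  rwa [hD.orderOf_eq d hd, pow_two] at h

lemma inv_eq (hD : IsRootInvolutionSet D) {d : G} (hd : d ∈ D) : d⁻¹ = d :=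
  inv_eq_of_mul_eq_one_left (sq hD hd)

lemma ne_one (hD : IsRootInvolutionSet D) {d : G} (hd : d ∈ D) : d ≠ 1 := by
  rintro rfl
  have := hD.orderOf_eq 1 hd
  rw [orderOf_one] at this
  omega

lemma orderOf_eq_two_of_sq {z : G} (hz : z * z = 1) (hz1 : z ≠ 1) : orderOf z = 2 :=
  orderOf_eq_prime (by rw [pow_two, hz]) hz1

lemma oddAdj_symm {a b : G} (h : OddAdj D a b) : OddAdj D b a :=
  ⟨h.2.1, h.1, h.2.2.1.symm, by rw [orderOf_mul_comm']; exact h.2.2.2⟩

lemma rtg_symm {a b : G} (h : Relation.ReflTransGen (OddAdj D) a b) :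
    Relation.ReflTransGen (OddAdj D) b a := by
  induction h with
  | refl => exact Relation.ReflTransGen.refl
  | tail _ hbc ih => exact Relation.ReflTransGen.head (oddAdj_symm hbc) ih

lemma component_eq_of_rtg {a b : G} (h : Relation.ReflTransGen (OddAdj D) a b) :
    elemComponentOf (OddAdj D) D a = elemComponentOf (OddAdj D) D b := by
  have h' := rtg_symm h
  ext c
  constructor
  · rintro ⟨hc, hac⟩; exact ⟨hc, h'.trans hac⟩
  · rintro ⟨hc, hbc⟩; exact ⟨hc, h.trans hbc⟩

/-- In the dihedral group of order `8` generated by two involutions `u`, `x`, the central involution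
`c = (u x)²` commutes with both and `u x u = c x`. -/
lemma four_calc {u x : G} (hu : u * u = 1) (hx : x * x = 1) (h4 : (u * x) ^ 4 = 1) :
    (u * x) ^ 2 * (u * x) ^ 2 = 1 ∧ x * (u * x) ^ 2 = (u * x) ^ 2 * x ∧
      u * (u * x) ^ 2 = (u * x) ^ 2 * u ∧ u * x * u = (u * x) ^ 2 * x := by
  have hcc : (u * x) ^ 2 * (u * x) ^ 2 = 1 := by rw [← pow_add]; exact h4
  have hc : (u * x) ^ 2 = u * x * u * x := by rw [pow_two]; group
  have hxu : (x * u) ^ 2 = (u * x) ^ 2 := by
    have h1 : x * u = (u * x)⁻¹ := by
      rw [mul_inv_rev, inv_eq_of_mul_eq_one_left hu, inv_eq_of_mul_eq_one_left hx]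
    rw [h1, inv_pow]
    exact inv_eq_of_mul_eq_one_left hcc
  have hxu' : (x * u) ^ 2 = x * u * x * u := by rw [pow_two]; group
  refine ⟨hcc, ?_, ?_, ?_⟩
  · calc x * (u * x) ^ 2 = (x * u * x * u) * x := by rw [hc]; group
      _ = (u * x) ^ 2 * x := by rw [← hxu', hxu]
  · calc u * (u * x) ^ 2 = (u * u) * x * u * x := by rw [hc]; group
      _ = x * u * x * (u * u) := by rw [hu, one_mul, mul_one]
      _ = (x * u * x * u) * u := by group
      _ = (u * x) ^ 2 * u := by rw [← hxu', hxu]
  · calc u * x * u = u * x * u * (x * x) := by rw [hx, mul_one]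
      _ = (u * x * u * x) * x := by group
      _ = (u * x) ^ 2 * x := by rw [hc]

/-- No product of two root involutions is an involution times a commuting non-trivial element of
odd order. -/
lemma no_twice_odd (hD : IsRootInvolutionSet D) {v w f t : G} (hv : v ∈ D) (hw : w ∈ D)
    (hf : f * f = 1) (hf1 : f ≠ 1) (hft : Commute f t) (hodd : Odd (orderOf t)) (ht1 : t ≠ 1)
    (hvw : v * w = f * t) : False := by
  have hof : orderOf f = 2 := orderOf_eq_two_of_sq hf hf1
  have hcop : (orderOf f).Coprime (orderOf t) := by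
    rw [hof]
    exact (Nat.coprime_two_left).mpr hodd
  have hord : orderOf (v * w) = 2 * orderOf t := by
    rw [hvw, hft.orderOf_mul_eq_mul_orderOf_of_coprime hcop, hof]
  have hk1 : orderOf t ≠ 1 := by
    rw [Ne, orderOf_eq_one_iff]
    exact ht1
  rcases hD.pair v hv w hw with h | h | ⟨h, _⟩
  · have h2 : (v * w) ^ 2 = 1 := by
      rw [pow_two]
      calc v * w * (v * w) = v * (w * v) * w := by group
        _ = v * (v * w) * w := by rw [h]
        _ = (v * v) * (w * w) := by group
        _ = 1 := by rw [sq hD hv, sq hD hw, one_mul]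
    have h3 := orderOf_dvd_of_pow_eq_one h2
    rw [hord] at h3
    have : orderOf t ∣ 1 := by
      have := Nat.dvd_of_mul_dvd_mul_left (by norm_num : 0 < 2) (by simpa using h3 : 2 * orderOf t ∣ 2 * 1)
      exact this
    exact hk1 (Nat.dvd_one.mp this)
  · rw [hord] at h
    rcases h with ⟨m, hm⟩
    omega
  · rw [hord] at h
    have : orderOf t = 2 := by omega
    rw [this] at hodd
    exact absurd hodd (by decide)

/-- The lemma on three points of a line: if `a`, `e`, `a e` are commuting members of `D` and `x ∈ D`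
has `a x` of odd order `> 1`, then `e x` or `a e x` has odd order `> 1`. -/
lemma line_lemma (hD : IsRootInvolutionSet D) {a e x : G} (ha : a ∈ D) (he : e ∈ D)
    (hae : a * e = e * a) (haeD : a * e ∈ D) (hax : OddAdj D a x) :
    OddAdj D e x ∨ OddAdj D (a * e) x := by
  obtain ⟨_, hx, hne, hodd⟩ := hax
  have ha2 := sq hD ha
  have he2 := sq hD he
  have hx2 := sq hD hx
  have hu2 := sq hD haeD
  have ht1 : a * x ≠ 1 := by
    intro h
    apply hne
    have : a = x⁻¹ := eq_inv_of_mul_eq_one_left h
    rw [this, inv_eq hD hx]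
  -- Step 1: `x` does not commute with `e`.
  have hex : ¬ (e * x = x * e) := by
    intro hc
    refine no_twice_odd hD haeD hx he2 (ne_one hD he) ?_ hodd ht1 (by rw [hae, mul_assoc])
    change e * (a * x) = a * x * e
    rw [← mul_assoc, ← hae, mul_assoc, hc, mul_assoc]
  -- Step 2: `x` does not commute with `a e`.
  have hux : ¬ (a * e * x = x * (a * e)) := by
    intro hc
    refine no_twice_odd hD he hx hu2 (ne_one hD haeD) ?_ hodd ht1 ?_
    · change a * e * (a * x) = a * x * (a * e)
      calc a * e * (a * x) = a * (e * a) * x := by group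
        _ = a * (a * e) * x := by rw [hae]
        _ = a * (a * e * x) := by group
        _ = a * (x * (a * e)) := by rw [hc]
        _ = a * x * (a * e) := by group
    · calc e * x = (a * a) * e * x := by rw [ha2, one_mul]
        _ = a * (a * e) * x := by group
        _ = a * (e * a) * x := by rw [hae]
        _ = a * e * (a * x) := by group
  rcases hD.pair e he x hx with h | h | ⟨h4, hcD⟩
  · exact absurd h hex
  · left
    refine ⟨he, hx, ?_, h⟩
    rintro rfl
    exact hex rfl
  rcases hD.pair (a * e) haeD x hx with h' | h' | ⟨h4', hcD'⟩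
  · exact absurd h' hux
  · right
    refine ⟨haeD, hx, ?_, h'⟩
    rintro rfl
    exact hux rfl
  -- Both products have order `4`: contradiction.
  exfalso
  have h4p : (e * x) ^ 4 = 1 := by rw [← h4]; exact pow_orderOf_eq_one _
  have h4p' : (a * e * x) ^ 4 = 1 := by rw [← h4']; exact pow_orderOf_eq_one _
  obtain ⟨hcc, hxc, hec, hexe⟩ := four_calc he2 hx2 h4p
  obtain ⟨hcc', hxc', huc', huxu⟩ := four_calc hu2 hx2 h4p'
  set c := (e * x) ^ 2 with hc
  set c' := (a * e * x) ^ 2 with hc'
  set t := a * x with ht
  -- `a x a = (e c' e) (c x)`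
  have haxa : a * x * a = (e * c' * e) * (c * x) := by
    have h1 : a = e * (a * e) := by
      rw [hae, ← mul_assoc, he2, one_mul]
    have h2 : a = (a * e) * e := by
      rw [mul_assoc, he2, mul_one]
    calc a * x * a = (e * (a * e)) * x * ((a * e) * e) := by rw [← h1, ← h2]
      _ = e * ((a * e) * x * (a * e)) * e := by group
      _ = e * (c' * x) * e := by rw [huxu]
      _ = (e * c' * e) * (e * x * e) := by
          calc e * (c' * x) * e = e * c' * (1 * x) * e := by rw [one_mul]; group
            _ = e * c' * ((e * e) * x) * e := by rw [he2]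
            _ = (e * c' * e) * (e * x * e) := by group
      _ = (e * c' * e) * (c * x) := by rw [hexe]
  set d' := e * c' * e with hd'
  have hd'2 : d' * d' = 1 := by
    calc d' * d' = e * c' * (e * e) * c' * e := by rw [hd']; group
      _ = e * (c' * c') * e := by rw [he2, mul_one]; group
      _ = 1 := by rw [hcc', mul_one, he2]
  have htt : t * t = d' * c := by
    calc t * t = (a * x * a) * x := by rw [ht]; group
      _ = d' * (c * x) * x := by rw [haxa]
      _ = d' * c * (x * x) := by group
      _ = d' * c := by rw [hx2, mul_one]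
  have hcinv : c⁻¹ = c := inv_eq_of_mul_eq_one_left hcc
  have hd'inv : d'⁻¹ = d' := inv_eq_of_mul_eq_one_left hd'2
  -- `c` inverts `t²`, hence `t`
  have hct2 : c * (t * t) * c⁻¹ = (t * t)⁻¹ := by
    rw [htt, mul_inv_rev, hcinv, hd'inv]
    calc c * (d' * c) * c = c * d' * (c * c) := by group
      _ = c * d' := by rw [hcc, mul_one]
  have hct : c * t * c⁻¹ = t⁻¹ := by
    obtain ⟨m, hm⟩ := hodd
    have hpow : (t * t) ^ (m + 1) = t := by
      rw [← pow_two, ← pow_mul]
      have : 2 * (m + 1) = orderOf t + 1 := by omega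
      rw [this, pow_succ, pow_orderOf_eq_one, one_mul]
    have h1 : c * (t * t) ^ (m + 1) * c⁻¹ = (c * (t * t) * c⁻¹) ^ (m + 1) := by
      have := map_pow (MulAut.conj c).toMonoidHom (t * t) (m + 1)
      simpa using this
    rw [hct2, inv_pow, hpow] at h1
    exact h1
  -- `x` inverts `t`
  have hxt : x * t * x⁻¹ = t⁻¹ := by
    rw [ht, mul_inv_rev, inv_eq hD hx, inv_eq hD ha]
    calc x * (a * x) * x = x * a * (x * x) := by group
      _ = x * a := by rw [hx2, mul_one]
  obtain ⟨z, hz⟩ : ∃ z : G, z = x * c := ⟨_, rfl⟩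
  have hz2 : z * z = 1 := by
    calc z * z = x * (c * x) * c := by rw [hz]; group
      _ = x * (x * c) * c := by rw [hxc]
      _ = (x * x) * (c * c) := by group
      _ = 1 := by rw [hx2, hcc, one_mul]
  have hzt : Commute z t := by
    change z * t = t * z
    have h1 : z * t * z⁻¹ = t := by
      rw [hz, mul_inv_rev]
      calc x * c * t * (c⁻¹ * x⁻¹) = x * (c * t * c⁻¹) * x⁻¹ := by group
        _ = x * t⁻¹ * x⁻¹ := by rw [hct]
        _ = (x * t * x⁻¹)⁻¹ := by group
        _ = t := by rw [hxt, inv_inv]
    calc z * t = (z * t * z⁻¹) * z := by group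
      _ = t * z := by rw [h1]
  have hz1 : z ≠ 1 := by
    intro h1
    -- `x c = 1` forces `e x e = 1`
    have h2 : c = x := by
      have : c = x⁻¹ := by
        rw [hz] at h1
        exact (inv_eq_of_mul_eq_one_right h1).symm ▸ (inv_inv c).symm ▸ rfl
      rw [this, inv_eq hD hx]
    have h3 : e * x * e = 1 := by
      have : e * x * e = c * x := hexe
      rw [this, h2, hx2]
    apply ne_one hD hx
    calc x = e * (e * x * e) * e := by
          calc x = (e * e) * x * (e * e) := by rw [he2, one_mul, mul_one]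
            _ = e * (e * x * e) * e := by group
      _ = 1 := by rw [h3, mul_one, he2]
  have hac : a * c = z * t := by
    rw [hzt.eq, hz, ht]
    calc a * c = a * (x * x) * c := by rw [hx2, mul_one]
      _ = a * x * (x * c) := by group
  exact no_twice_odd hD ha hcD hz2 hz1 hzt hodd ht1 hac

end RootInvolutions

end RootInv

end Cfsg.Agent.Lib.Helper83
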