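/-
helper83: special rank one pairs with abelian unipotent subgroups: the partner relation
`a ↔ b(a)`, `b(a⁻¹) = b(a)⁻¹`, the elements `n(a) = a b(a)⁻¹ a = b(a)⁻¹ a b(a)⁻¹` interchanging
`A` and `B`, the product formula in `B`, and `b(a^k)^k = b(a)`.
-/
import Cfsg.Agent.Lib.Helper83.RankOne

set_option autoImplicit false

namespace Cfsg.Agent.Lib.Helper83

open Cfsg

namespace SRO

variable {G : Type*} [Group G] {A B : Subgroup G}

/-- `b` is the partner of `a`: both non-identity, `b⁻¹ A b = a⁻¹ B a`. -/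
def Partner (A B : Subgroup G) (a b : G) : Prop :=
  a ∈ A ∧ a ≠ 1 ∧ b ∈ B ∧ b ≠ 1 ∧ conjBy A b⁻¹ = conjBy B a⁻¹

lemma Partner.swap {a b : G} (h : Partner A B a b) : Partner B A b a :=
  ⟨h.2.2.1, h.2.2.2.1, h.1, h.2.1, h.2.2.2.2.symm⟩

lemma exists_partner_left (h : IsRankOnePair A B) {a : G} (ha : a ∈ A) (ha1 : a ≠ 1) :
    ∃ b, Partner A B a b := by
  obtain ⟨b, hb, hb1, heq⟩ := h.cond_left a ha ha1
  exact ⟨b, ha, ha1, hb, hb1, heq⟩

lemma exists_partner_right (h : IsRankOnePair A B) {b : G} (hb : b ∈ B) (hb1 : b ≠ 1) :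
    ∃ a, Partner A B a b := by
  obtain ⟨a, hp⟩ := exists_partner_left (RankOnePair_symm h) hb hb1
  exact ⟨a, hp.swap⟩

lemma Partner.unique_right (h : IsRankOnePair A B) {a b b' : G} (h1 : Partner A B a b)
    (h2 : Partner A B a b') : b = b' := by
  have := RankOne.conjBy_left_injOn h (B.inv_mem h1.2.2.1) (B.inv_mem h2.2.2.1)
    (h1.2.2.2.2.trans h2.2.2.2.2.symm)
  exact inv_injective this

lemma Partner.unique_left (h : IsRankOnePair A B) {a a' b : G} (h1 : Partner A B a b)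
    (h2 : Partner A B a' b) : a = a' :=
  Partner.unique_right (RankOnePair_symm h) h1.swap h2.swap

/-- A special rank one pair with abelian unipotent subgroups. -/
structure Setup (A B : Subgroup G) : Prop where
  rk : IsRankOnePair A B
  sp : ∀ a b, Partner A B a b → b⁻¹ * a * b = a⁻¹ * b⁻¹ * a
  commA : ∀ x ∈ A, ∀ y ∈ A, x * y = y * x
  commB : ∀ x ∈ B, ∀ y ∈ B, x * y = y * x

lemma Setup.swap (S : Setup A B) : Setup B A where
  rk := RankOnePair_symm S.rk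
  sp := by
    intro b a hp
    have := S.sp a b hp.swap
    have h2 := congrArg (fun x => x⁻¹) this
    simp only [mul_inv_rev, inv_inv] at h2
    rw [← mul_assoc, ← mul_assoc] at h2
    exact h2.symm
  commA := S.commB
  commB := S.commA

lemma Setup.of_special (h : IsSpecialRankOnePair A B) (hab : HasAbelianUnipotents A B) :
    Setup A B where
  rk := h.1
  sp := fun a b hp => h.2 a hp.1 hp.2.1 b hp.2.2.1 hp.2.2.2.1 hp.2.2.2.2
  commA := by
    intro x hx y hy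
    have := hab.1
    exact setLike_mul_comm hx hy
  commB := by
    intro x hx y hy
    have := hab.2
    exact setLike_mul_comm hx hy

/-- `b(a⁻¹) = b(a)⁻¹`. -/
lemma Partner.inv (S : Setup A B) {a b : G} (hp : Partner A B a b) : Partner A B a⁻¹ b⁻¹ := by
  obtain ⟨ha, ha1, hb, hb1, heq⟩ := hp
  refine ⟨A.inv_mem ha, by simpa using ha1, B.inv_mem hb, by simpa using hb1, ?_⟩
  rw [inv_inv, inv_inv]
  -- `F = a⁻¹ b A b⁻¹ a` is normalized by `b`
  have hsp := S.sp a b ⟨ha, ha1, hb, hb1, heq⟩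
  have hF : conjBy A (a⁻¹ * b) ∈ unipotentSubgroups A B :=
    RankOne.conjBy_mem_unipotentSubgroups RankOne.left_mem_unipotentSubgroups
      (Subgroup.mul_mem _ (Subgroup.mem_sup_left (A.inv_mem ha)) (Subgroup.mem_sup_right hb))
  have hnorm : b⁻¹ ∈ Subgroup.normalizer ((conjBy A (a⁻¹ * b) : Subgroup G) : Set G) := by
    rw [← conjBy_eq_self_iff, conjBy_conjBy]
    -- b⁻¹ a⁻¹ b = (b⁻¹ a b)⁻¹ = (a⁻¹ b⁻¹ a)⁻¹ = a⁻¹ b a
    have e : b⁻¹ * (a⁻¹ * b) = (a⁻¹ * b) * a := by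
      have h2 := congrArg (fun x => x⁻¹) hsp
      simp only [mul_inv_rev, inv_inv] at h2
      calc b⁻¹ * (a⁻¹ * b) = b⁻¹ * a⁻¹ * b := by group
        _ = a⁻¹ * b * a := by rw [← mul_assoc] at h2; rw [h2]; group
        _ = (a⁻¹ * b) * a := rfl
    rw [e, ← conjBy_conjBy, conjBy_of_mem ha]
  by_contra hne
  have hFB : conjBy A (a⁻¹ * b) ≠ B := by
    intro hFB
    apply hne
    rw [← conjBy_conjBy, conjBy_eq_iff, inv_inv] at hFB
    exact hFB
  have hinf := RankOne.inf_normalizer_of_mem_unipotentSubgroups S.rk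
    (RankOne.right_mem_unipotentSubgroups S.rk) hF (Ne.symm hFB)
  have : b⁻¹ ∈ B ⊓ Subgroup.normalizer ((conjBy A (a⁻¹ * b) : Subgroup G) : Set G) :=
    Subgroup.mem_inf.mpr ⟨B.inv_mem hb, hnorm⟩
  rw [hinf, Subgroup.mem_bot] at this
  exact hb1 (inv_eq_one.mp this)

/-- The braid relation `a b⁻¹ a = b⁻¹ a b⁻¹`. -/
lemma n_eq (S : Setup A B) {a b : G} (hp : Partner A B a b) : a * b⁻¹ * a = b⁻¹ * a * b⁻¹ := by
  have hsp := S.sp a b hp
  calc a * b⁻¹ * a = a * (b⁻¹ * a * b) * b⁻¹ := by group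
    _ = a * (a⁻¹ * b⁻¹ * a) * b⁻¹ := by rw [hsp]
    _ = b⁻¹ * a * b⁻¹ := by group

/-- `n = a b⁻¹ a` conjugates `B` to `A`. -/
lemma conjBy_n_inv_right (_S : Setup A B) {a b : G} (hp : Partner A B a b) :
    conjBy B (a * b⁻¹ * a)⁻¹ = A := by
  have e : (a * b⁻¹ * a)⁻¹ = a⁻¹ * (b * a⁻¹) := by group
  rw [e, ← conjBy_conjBy, ← conjBy_conjBy, ← hp.2.2.2.2, conjBy_conjBy_inv,
    conjBy_of_mem (A.inv_mem hp.1)]

/-- `n = a b⁻¹ a` conjugates `A` to `B`. -/
lemma conjBy_n_inv_left (S : Setup A B) {a b : G} (hp : Partner A B a b) :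
    conjBy A (a * b⁻¹ * a)⁻¹ = B := by
  have hp' := hp.inv S
  have h1 : conjBy A b = conjBy B a := by
    have := hp'.2.2.2.2
    rwa [inv_inv, inv_inv] at this
  have e : (a * b⁻¹ * a)⁻¹ = b * (a⁻¹ * b) := by
    rw [n_eq S hp]; group
  rw [e, ← conjBy_conjBy, ← conjBy_conjBy, h1, conjBy_inv_conjBy, conjBy_of_mem hp.2.2.1]

lemma conjBy_n_left (S : Setup A B) {a b : G} (hp : Partner A B a b) :
    conjBy A (a * b⁻¹ * a) = B := by
  rw [conjBy_eq_iff, conjBy_n_inv_right S hp]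

lemma conjBy_n_right (S : Setup A B) {a b : G} (hp : Partner A B a b) :
    conjBy B (a * b⁻¹ * a) = A := by
  rw [conjBy_eq_iff, conjBy_n_inv_left S hp]

/-- `n a n⁻¹ = b⁻¹` for `n = a b⁻¹ a`. -/
lemma n_conj (S : Setup A B) {a b : G} (hp : Partner A B a b) :
    (a * b⁻¹ * a) * a * (a * b⁻¹ * a)⁻¹ = b⁻¹ := by
  have hsp := S.sp a b hp
  calc (a * b⁻¹ * a) * a * (a * b⁻¹ * a)⁻¹ = a * (b⁻¹ * a * b) * a⁻¹ := by group
    _ = a * (a⁻¹ * b⁻¹ * a) * a⁻¹ := by rw [hsp]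
    _ = b⁻¹ := by group

/-- Conjugation by `n = n(e)` maps non-identity elements of `A` to non-identity elements of `B`. -/
lemma n_conj_mem (S : Setup A B) {e βe x : G} (he : Partner A B e βe) (hx : x ∈ A) :
    (e * βe⁻¹ * e) * x * (e * βe⁻¹ * e)⁻¹ ∈ B := by
  have := conj_mem_conjBy (g := e * βe⁻¹ * e) hx
  rwa [conjBy_n_left S he] at this

lemma conj_ne_one {n x : G} (hx : x ≠ 1) : n * x * n⁻¹ ≠ 1 := by
  intro h
  apply hx
  have : x = n⁻¹ * (n * x * n⁻¹) * n := by group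
  rw [this, h]; group

lemma conj_pow' (n x : G) (k : ℕ) : (n * x * n⁻¹) ^ k = n * x ^ k * n⁻¹ := by
  induction k with
  | zero => simp
  | succ k ih => rw [pow_succ, ih, pow_succ]; group

/-- The product formula in `B`: `b(c) b(e) = b(y e)` where `b(y) = n(e) (c e) n(e)⁻¹`. -/
lemma partner_mul (S : Setup A B) {c e βc βe y : G} (hc : Partner A B c βc)
    (he : Partner A B e βe) (hce : c * e ≠ 1)
    (hy : Partner A B y ((e * βe⁻¹ * e) * (c * e) * (e * βe⁻¹ * e)⁻¹)) :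
    Partner A B (y * e) (βc * βe) := by
  have heq : conjBy A (βc * βe)⁻¹ = conjBy B (y * e)⁻¹ := by
    have e1 : (βc * βe)⁻¹ = βe⁻¹ * βc⁻¹ := by group
    have e3 : (y * e)⁻¹ = e⁻¹ * y⁻¹ := by group
    have hL : conjBy A (βc * βe)⁻¹ = conjBy B (βe⁻¹ * c⁻¹) := by
      rw [e1, ← conjBy_conjBy, hc.2.2.2.2, conjBy_conjBy]
    have hR : conjBy B (y * e)⁻¹ =
        conjBy B (e⁻¹ * ((e * βe⁻¹ * e) * (c * e) * (e * βe⁻¹ * e)⁻¹)⁻¹ * (e * βe⁻¹ * e)) := by
      rw [e3, ← conjBy_conjBy, ← hy.2.2.2.2, conjBy_conjBy]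
      conv_lhs => rw [← conjBy_n_right S he]
      rw [conjBy_conjBy]
    rw [hL, hR]
    congr 1
    group
  refine ⟨A.mul_mem hy.1 he.1, ?_, B.mul_mem hc.2.2.1 he.2.2.1, ?_, heq⟩
  · intro h1
    rw [h1, inv_one, conjBy_one, conjBy_eq_iff, inv_inv,
      conjBy_of_mem (B.mul_mem hc.2.2.1 he.2.2.1)] at heq
    exact S.rk.ne heq
  · intro h1
    apply hce
    have h2 : βe = βc⁻¹ := by
      rw [eq_inv_iff_mul_eq_one, S.commB _ he.2.2.1 _ hc.2.2.1]; exact h1
    have h3 := hc.inv S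
    rw [← h2] at h3
    have h4 := Partner.unique_left S.rk he h3
    rw [h4]; group

/-- `b(a^k)^k = b(a)`. -/
def PA (A B : Subgroup G) (k : ℕ) : Prop :=
  ∀ a b b', Partner A B a b → Partner A B (a ^ k) b' → b' ^ k = b

/-- `a(b^k)^k = a(b)`. -/
def PB (A B : Subgroup G) (k : ℕ) : Prop :=
  ∀ a b a', Partner A B a b → Partner A B a' (b ^ k) → a' ^ k = a

lemma PA_swap {k : ℕ} (h : PB B A k) : PA A B k :=
  fun a b b' hab hb' => h b a b' hab.swap hb'.swap

lemma PB_swap {k : ℕ} (h : PA B A k) : PB A B k :=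
  fun a b a' hab ha' => h b a a' hab.swap ha'.swap

/-- The induction step. -/
lemma step (S : Setup A B) {k : ℕ} (hPA : PA A B k) (hPB : PB A B k) {d γ z : G}
    (hd : Partner A B d γ) (hdk : d ^ k ≠ 1) (hdk1 : d ^ (k + 1) ≠ 1)
    (hz : Partner A B z (γ ^ (k + 1))) : z ^ (k + 1) = d := by
  obtain ⟨δ, hδ⟩ := exists_partner_left S.rk (A.pow_mem hd.1 k) hdk
  have hδk : δ ^ k = γ := hPA d γ δ hd hδ
  -- the product formula for `d ^ k` and `d`
  have hnd : (d * γ⁻¹ * d) * d * (d * γ⁻¹ * d)⁻¹ = γ⁻¹ := n_conj S hd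
  have hprod : (d * γ⁻¹ * d) * (d ^ k * d) * (d * γ⁻¹ * d)⁻¹ = (γ ^ (k + 1))⁻¹ := by
    rw [← pow_succ, ← conj_pow', hnd, inv_pow]
  have hy : Partner A B z⁻¹ ((d * γ⁻¹ * d) * (d ^ k * d) * (d * γ⁻¹ * d)⁻¹) := by
    rw [hprod]; exact hz.inv S
  have hw := partner_mul S hδ hd (by rwa [← pow_succ]) hy
  -- `δ γ = δ ^ (k + 1)` and `γ ^ (k + 1) = (δ ^ (k + 1)) ^ k`
  have e1 : δ * γ = δ ^ (k + 1) := by rw [← hδk, ← pow_succ']
  have e2 : γ ^ (k + 1) = (δ ^ (k + 1)) ^ k := by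
    rw [← hδk, ← pow_mul, ← pow_mul, mul_comm]
  rw [e1] at hw
  rw [e2] at hz
  have h3 := hPB (z⁻¹ * d) (δ ^ (k + 1)) z hw hz
  rw [pow_succ, h3]
  have := S.commA z⁻¹ (A.inv_mem hz.1) d hd.1
  rw [this]; group

/-- `b(a^k)^k = b(a)` and `a(b^k)^k = a(b)` as long as no non-identity element has order at most
`k`. -/
theorem PA_PB (k : ℕ) : ∀ {A B : Subgroup G}, Setup A B →
    (∀ x ∈ A, x ≠ 1 → ∀ j, 1 ≤ j → j ≤ k → x ^ j ≠ 1) →
    (∀ x ∈ B, x ≠ 1 → ∀ j, 1 ≤ j → j ≤ k → x ^ j ≠ 1) → PA A B k ∧ PB A B k := by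
  induction k with
  | zero =>
    intro A B S _ _
    constructor
    · intro a b b' _ hb'
      exact absurd (pow_zero a) hb'.2.1
    · intro a b a' _ ha'
      exact absurd (pow_zero b) ha'.2.2.2.1
  | succ k ih =>
    intro A B S hA hB
    rcases Nat.eq_zero_or_pos k with rfl | hk
    · constructor
      · intro a b b' hab hb'
        rw [zero_add, pow_one] at hb' ⊢
        exact Partner.unique_right S.rk hb' hab
      · intro a b a' hab ha'
        rw [zero_add, pow_one] at ha' ⊢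
        exact Partner.unique_left S.rk ha' hab
    · have ih1 := ih S (fun x hx hx1 j hj hjk => hA x hx hx1 j hj (Nat.le_succ_of_le hjk))
        (fun x hx hx1 j hj hjk => hB x hx hx1 j hj (Nat.le_succ_of_le hjk))
      have ih2 := ih S.swap (fun x hx hx1 j hj hjk => hB x hx hx1 j hj (Nat.le_succ_of_le hjk))
        (fun x hx hx1 j hj hjk => hA x hx hx1 j hj (Nat.le_succ_of_le hjk))
      constructor
      · apply PA_swap
        intro b a b' hba hb'
        exact step S.swap ih2.1 ih2.2 hba (hB b hba.1 hba.2.1 k hk (Nat.le_succ k))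
          (hB b hba.1 hba.2.1 (k + 1) (Nat.succ_pos k) le_rfl) hb'
      · intro a b a' hab ha'
        exact step S ih1.1 ih1.2 hab (hA a hab.1 hab.2.1 k hk (Nat.le_succ k))
          (hA a hab.1 hab.2.1 (k + 1) (Nat.succ_pos k) le_rfl) ha'

/-- Torsion in `B` gives torsion in `A`. -/
lemma free_right (S : Setup A B) {k : ℕ}
    (hA : ∀ x ∈ A, x ≠ 1 → ∀ j, 1 ≤ j → j ≤ k → x ^ j ≠ 1) :
    ∀ x ∈ B, x ≠ 1 → ∀ j, 1 ≤ j → j ≤ k → x ^ j ≠ 1 := by
  obtain ⟨a₀, ha₀, ha₀1⟩ := RankOne.exists_ne_one_left S.rk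
  obtain ⟨b₀, hp⟩ := exists_partner_left S.rk ha₀ ha₀1
  intro x hx hx1 j hj hjk hxj
  have hmem : (a₀ * b₀⁻¹ * a₀)⁻¹ * x * (a₀ * b₀⁻¹ * a₀) ∈ A := by
    rw [← conjBy_n_left S hp] at hx
    exact mem_conjBy.mp hx
  have hne : (a₀ * b₀⁻¹ * a₀)⁻¹ * x * (a₀ * b₀⁻¹ * a₀) ≠ 1 := by
    have := conj_ne_one (n := (a₀ * b₀⁻¹ * a₀)⁻¹) hx1
    rwa [inv_inv] at this
  apply hA _ hmem hne j hj hjk
  have := conj_pow' (a₀ * b₀⁻¹ * a₀)⁻¹ x j
  rw [inv_inv] at this
  rw [this, hxj]; group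

/-- In a special rank one pair with abelian unipotent subgroups, `A` has prime exponent or is
torsion-free and divisible. -/
theorem elementary_or_divisible (S : Setup A B) :
    (∃ p : ℕ, p.Prime ∧ ∀ a ∈ A, a ^ p = 1) ∨
    ((∀ a ∈ A, a ≠ 1 → ¬ IsOfFinOrder a) ∧ ∀ a ∈ A, ∀ n : ℕ, 0 < n → ∃ c ∈ A, c ^ n = a) := by
  by_cases htors : ∃ j, 0 < j ∧ ∃ x ∈ A, x ≠ 1 ∧ x ^ j = 1
  · left
    classical
    obtain ⟨hp0, a, ha, ha1, hap⟩ := Nat.find_spec htors
    have hmin : ∀ j, j < Nat.find htors → ¬ (0 < j ∧ ∃ x ∈ A, x ≠ 1 ∧ x ^ j = 1) :=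
      fun j hj => Nat.find_min htors hj
    obtain ⟨p, hpdef⟩ : ∃ p, p = Nat.find htors := ⟨_, rfl⟩
    rw [← hpdef] at hp0 hap hmin
    have hp2 : 2 ≤ p := by
      by_contra hlt
      have : p = 1 := by omega
      rw [this, pow_one] at hap
      exact ha1 hap
    have hprime : p.Prime := by
      rw [Nat.prime_def_lt]
      refine ⟨hp2, ?_⟩
      intro r hr hrp
      by_contra hr1
      obtain ⟨s, hs⟩ := hrp
      have hr0 : 0 < r := by
        rcases Nat.eq_zero_or_pos r with h0 | h0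
        · rw [h0, zero_mul] at hs; omega
        · exact h0
      have hs0 : 0 < s := by
        rcases Nat.eq_zero_or_pos s with h0 | h0
        · rw [h0, mul_zero] at hs; omega
        · exact h0
      have hsp : s < p := by
        rw [hs]
        have : 2 ≤ r := by omega
        nlinarith
      have h1 : (a ^ r) ^ s = 1 := by rw [← pow_mul, ← hs]; exact hap
      have h2 : a ^ r ≠ 1 := fun h => hmin r hr ⟨hr0, a, ha, ha1, h⟩
      exact hmin s hsp ⟨hs0, a ^ r, A.pow_mem ha r, h2, h1⟩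
    have hA : ∀ x ∈ A, x ≠ 1 → ∀ j, 1 ≤ j → j ≤ p - 1 → x ^ j ≠ 1 := by
      intro x hx hx1 j hj hjp hxj
      exact hmin j (by omega) ⟨hj, x, hx, hx1, hxj⟩
    have hB := free_right S hA
    have hP := PA_PB (p - 1) S hA hB
    have hP' := PA_PB (p - 1) S.swap hB hA
    have hpp : p - 1 + 1 = p := by omega
    refine ⟨p, hprime, ?_⟩
    intro c hc
    by_contra hcp
    have hc1 : c ≠ 1 := by
      rintro rfl
      exact hcp (one_pow p)
    obtain ⟨βc, hβc⟩ := exists_partner_left S.rk hc hc1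
    obtain ⟨ζ, hζ⟩ := exists_partner_left S.rk (A.pow_mem hc p) hcp
    -- the step for `c`
    have key : ∀ x βx, Partner A B x βx → x ^ p = c ^ p → ζ ^ p = βx := by
      intro x βx hx hxp
      have hζ' : Partner B A ζ (x ^ (p - 1 + 1)) := by
        rw [hpp, hxp]; exact hζ.swap
      have := step S.swap hP'.1 hP'.2 hx.swap
        (hB βx hx.2.2.1 hx.2.2.2.1 (p - 1) (by omega) le_rfl) ?_ hζ'
      · rwa [hpp] at this
      · -- `βx ^ p ≠ 1`
        rw [hpp]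
        intro hβp
        have h1 : βx ^ (p - 1) = βx⁻¹ := by
          rw [eq_inv_iff_mul_eq_one, ← pow_succ, hpp, hβp]
        have h2 : Partner A B x⁻¹ (βx ^ (p - 1)) := by
          rw [h1]; exact hx.inv S
        have h3 := hP.2 x βx x⁻¹ hx h2
        apply hcp
        rw [← hxp]
        have h4 : x ^ p = x ^ (p - 1) * x := by rw [← pow_succ, hpp]
        rw [h4]
        rw [inv_pow] at h3
        have h5 : x ^ (p - 1) = x⁻¹ := inv_injective (by rw [inv_inv]; exact h3)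
        rw [h5, inv_mul_cancel]
    have hac1 : a * c ≠ 1 := by
      intro h
      apply hcp
      have : c = a⁻¹ := by rw [eq_inv_iff_mul_eq_one, S.commA c hc a ha]; exact h
      rw [this, inv_pow, hap, inv_one]
    obtain ⟨β', hβ'⟩ := exists_partner_left S.rk (A.mul_mem ha hc) hac1
    have hacp : (a * c) ^ p = c ^ p := by
      rw [(show Commute a c from S.commA a ha c hc).mul_pow, hap, one_mul]
    have h1 := key c βc hβc rfl
    have h2 := key (a * c) β' hβ' hacp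
    rw [h1] at h2
    rw [← h2] at hβ'
    have h3 := Partner.unique_left S.rk hβ' hβc
    apply ha1
    calc a = a * c * c⁻¹ := by group
      _ = c * c⁻¹ := by rw [h3]
      _ = 1 := by group
  · right
    push Not at htors
    have hA : ∀ k, ∀ x ∈ A, x ≠ 1 → ∀ j, 1 ≤ j → j ≤ k → x ^ j ≠ 1 :=
      fun k x hx hx1 j hj _ => htors j hj x hx hx1
    constructor
    · intro a ha ha1 hfin
      obtain ⟨j, hj, hj1⟩ := isOfFinOrder_iff_pow_eq_one.mp hfin
      exact htors j hj a ha ha1 hj1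
    · intro a ha n hn
      by_cases ha1 : a = 1
      · exact ⟨1, A.one_mem, by rw [one_pow, ha1]⟩
      · obtain ⟨b, hb⟩ := exists_partner_left S.rk ha ha1
        have hbn : b ^ n ≠ 1 := free_right S (hA n) b hb.2.2.1 hb.2.2.2.1 n hn le_rfl
        obtain ⟨a', ha'⟩ := exists_partner_right S.rk (B.pow_mem hb.2.2.1 n) hbn
        exact ⟨a', ha'.1, (PA_PB n S (hA n) (free_right S (hA n))).2 a b a' hb ha'⟩

end SRO

end Cfsg.Agent.Lib.Helper83
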