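/-
helper83: a special rank one pair with abelian unipotent subgroups and `|A| > 3` has
`A = [A, H]` (`H` the diagonal subgroup); in particular `⟨A, B⟩` is perfect.
-/
import Cfsg.Agent.Lib.Helper83.SpecialRankOne

set_option autoImplicit false

namespace Cfsg.Agent.Lib.Helper83

open Cfsg
open scoped commutatorElement

namespace SRO

variable {G : Type*} [Group G] {A B : Subgroup G}

/-- `n(e)⁻¹ n(x)` lies in the diagonal subgroup. -/
lemma hx_mem_diagonal (S : Setup A B) {e βe x βx : G} (he : Partner A B e βe)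
    (hx : Partner A B x βx) :
    (e * βe⁻¹ * e)⁻¹ * (x * βx⁻¹ * x) ∈ rankOneDiagonal A B := by
  have hA : A ≤ A ⊔ B := le_sup_left
  have hB : B ≤ A ⊔ B := le_sup_right
  refine ⟨⟨?_, ?_⟩, ?_⟩
  · exact Subgroup.mul_mem _ (Subgroup.inv_mem _ (Subgroup.mul_mem _ (Subgroup.mul_mem _ (hA he.1)
      (Subgroup.inv_mem _ (hB he.2.2.1))) (hA he.1)))
      (Subgroup.mul_mem _ (Subgroup.mul_mem _ (hA hx.1) (Subgroup.inv_mem _ (hB hx.2.2.1)))
        (hA hx.1))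
  · show _ ∈ Subgroup.normalizer (A : Set G)
    rw [← conjBy_eq_self_iff, ← conjBy_conjBy, conjBy_n_left S hx, conjBy_n_inv_right S he]
  · show _ ∈ Subgroup.normalizer (B : Set G)
    rw [← conjBy_eq_self_iff, ← conjBy_conjBy, conjBy_n_right S hx, conjBy_n_inv_left S he]

/-- `[A, H] ≤ A`. -/
lemma commutator_diagonal_le : ⁅A, rankOneDiagonal A B⁆ ≤ A := by
  rw [Subgroup.commutator_le]
  intro a ha h hh
  have hn : h ∈ Subgroup.normalizer (A : Set G) := hh.1.2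
  have h1 : h * a⁻¹ * h⁻¹ ∈ A := (Subgroup.mem_normalizer_iff.mp hn a⁻¹).mp (A.inv_mem ha)
  have : ⁅a, h⁆ = a * (h * a⁻¹ * h⁻¹) := by rw [commutatorElement_def]; group
  rw [this]
  exact A.mul_mem ha h1

/-- The "inverse" of `x` relative to `e` is congruent to `x` modulo `[A, H]`. -/
lemma iota_congr (S : Setup A B) {e βe x βx : G} (he : Partner A B e βe)
    (hx : Partner A B x βx) :
    (e * βe⁻¹ * e)⁻¹ * βx⁻¹ * (e * βe⁻¹ * e) * x⁻¹ ∈ ⁅A, rankOneDiagonal A B⁆ := by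
  have hh := hx_mem_diagonal S he hx
  have hc : ⁅(e * βe⁻¹ * e)⁻¹ * (x * βx⁻¹ * x), x⁆ ∈ ⁅rankOneDiagonal A B, A⁆ :=
    Subgroup.commutator_mem_commutator hh hx.1
  rw [Subgroup.commutator_comm] at hc
  have hn := n_conj S hx
  have : (e * βe⁻¹ * e)⁻¹ * βx⁻¹ * (e * βe⁻¹ * e) * x⁻¹ =
      ⁅(e * βe⁻¹ * e)⁻¹ * (x * βx⁻¹ * x), x⁆ := by
    calc (e * βe⁻¹ * e)⁻¹ * βx⁻¹ * (e * βe⁻¹ * e) * x⁻¹
        = (e * βe⁻¹ * e)⁻¹ * ((x * βx⁻¹ * x) * x * (x * βx⁻¹ * x)⁻¹) * (e * βe⁻¹ * e) * x⁻¹ := by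
          rw [hn]
      _ = ⁅(e * βe⁻¹ * e)⁻¹ * (x * βx⁻¹ * x), x⁆ := by
          rw [commutatorElement_def]; group
  rw [this]; exact hc

/-- The key congruence: `c² e ∈ [A, H]` for non-identity `c, e ∈ A` with `c e ≠ 1`. -/
lemma sq_mul_mem (S : Setup A B) {c e : G} (hc : c ∈ A) (hc1 : c ≠ 1) (he : e ∈ A) (he1 : e ≠ 1)
    (hce : c * e ≠ 1) : c * c * e ∈ ⁅A, rankOneDiagonal A B⁆ := by
  obtain ⟨βc, hpc⟩ := exists_partner_left S.rk hc hc1
  obtain ⟨βe, hpe⟩ := exists_partner_left S.rk he he1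
  set n := e * βe⁻¹ * e with hn
  have hmem : n * (c * e) * n⁻¹ ∈ B := n_conj_mem S hpe (A.mul_mem hc he)
  have hne : n * (c * e) * n⁻¹ ≠ 1 := conj_ne_one hce
  obtain ⟨y, hy⟩ := exists_partner_right S.rk hmem hne
  have hye := partner_mul S hpc hpe hce hy
  -- the three congruences
  have h1 := iota_congr S hpe hy
  have h2 := iota_congr S hpe hye
  have h3 := iota_congr S hpe hpc
  rw [← hn] at h1 h2 h3
  -- ι(y) = (c e)⁻¹
  have e1 : n⁻¹ * (n * (c * e) * n⁻¹)⁻¹ * n * y⁻¹ = (c * e)⁻¹ * y⁻¹ := by group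
  rw [e1] at h1
  -- ι(e) = e
  have hιe : n⁻¹ * βe⁻¹ * n = e := by
    have := n_conj S hpe
    rw [← hn] at this
    rw [← this]; group
  -- ι(y e) = ι(c) e
  set ιc := n⁻¹ * βc⁻¹ * n with hιc
  have hιcA : ιc ∈ A := by
    have h4 : βc⁻¹ ∈ conjBy A n := by
      rw [hn, conjBy_n_left S hpe]; exact B.inv_mem hpc.2.2.1
    exact mem_conjBy.mp h4
  have e2 : n⁻¹ * (βc * βe)⁻¹ * n * (y * e)⁻¹ = ιc * y⁻¹ := by
    have hcomm : (βc * βe)⁻¹ = βc⁻¹ * βe⁻¹ := by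
      rw [mul_inv_rev]
      exact S.commB _ (B.inv_mem hpe.2.2.1) _ (B.inv_mem hpc.2.2.1)
    calc n⁻¹ * (βc * βe)⁻¹ * n * (y * e)⁻¹
        = (n⁻¹ * βc⁻¹ * n) * (n⁻¹ * βe⁻¹ * n) * e⁻¹ * y⁻¹ := by rw [hcomm]; group
      _ = ιc * y⁻¹ := by rw [hιe, hιc]; group
  rw [e2] at h2
  -- combine: c²e = ((c e)⁻¹ y⁻¹)⁻¹ * (ιc y⁻¹) * (ιc c⁻¹)⁻¹ up to commutativity in A
  have hyA := hy.1
  have key : c * c * e = ((c * e)⁻¹ * y⁻¹)⁻¹ * (ιc * y⁻¹) * (ιc * c⁻¹)⁻¹ := by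
    have c1 : y * (c * e) * (ιc * y⁻¹) * (c * ιc⁻¹) = c * c * e := by
      have a1 : y * (c * e) = (c * e) * y := S.commA _ hyA _ (A.mul_mem hc he)
      have a2 : ιc * y⁻¹ = y⁻¹ * ιc := S.commA _ hιcA _ (A.inv_mem hyA)
      have a3 : c * ιc⁻¹ = ιc⁻¹ * c := S.commA _ hc _ (A.inv_mem hιcA)
      have a4 : c * e * c = c * c * e := by
        rw [mul_assoc, S.commA _ he _ hc, ← mul_assoc]
      calc y * (c * e) * (ιc * y⁻¹) * (c * ιc⁻¹)
          = (c * e) * y * (y⁻¹ * ιc) * (ιc⁻¹ * c) := by rw [a1, a2, a3]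
        _ = c * e * c := by group
        _ = c * c * e := a4
    rw [← c1]; group
  rw [key]
  exact mul_mem (mul_mem (inv_mem h1) h2) (inv_mem h3)

/-- If `A` has more than three elements, for every `c` there is an element of `A` different
from `1`, `c` and `c⁻¹`. -/
lemma exists_fourth (h3 : 3 < ENat.card A) (c : G) : ∃ e ∈ A, e ≠ 1 ∧ e ≠ c ∧ e ≠ c⁻¹ := by
  by_contra hcon
  push Not at hcon
  have hsub : (A : Set G) ⊆ {1, c, c⁻¹} := by
    intro x hx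
    by_cases h1 : x = 1
    · simp [h1]
    by_cases h2 : x = c
    · simp [h2]
    · have := hcon x hx h1 h2
      simp [this]
  have hle : ENat.card A ≤ 3 := by
    have h0 : ENat.card A = (A : Set G).encard := rfl
    rw [h0]
    refine (Set.encard_le_encard hsub).trans ?_
    calc ({1, c, c⁻¹} : Set G).encard ≤ ({c, c⁻¹} : Set G).encard + 1 := Set.encard_insert_le _ _
      _ ≤ (({c⁻¹} : Set G).encard + 1) + 1 := by gcongr; exact Set.encard_insert_le _ _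
      _ = 3 := by rw [Set.encard_singleton]; norm_num
  exact absurd h3 (not_lt.mpr hle)

/-- If `c, e` are non-identity elements of `A` with `e ≠ c, c⁻¹`, then `e ∈ [A, H]`. -/
lemma mem_of_fourth (S : Setup A B) {c e : G} (hc : c ∈ A) (hc1 : c ≠ 1) (he : e ∈ A)
    (he1 : e ≠ 1) (hec : e ≠ c) (hec' : e ≠ c⁻¹) : e ∈ ⁅A, rankOneDiagonal A B⁆ := by
  have hci1 : c⁻¹ ≠ 1 := by simpa using hc1
  have h1 : e * e * c ∈ ⁅A, rankOneDiagonal A B⁆ :=
    sq_mul_mem S he he1 hc hc1 (fun h => hec' (eq_inv_of_mul_eq_one_left h))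
  have h2 : e * e * c⁻¹ ∈ ⁅A, rankOneDiagonal A B⁆ :=
    sq_mul_mem S he he1 (A.inv_mem hc) hci1 (fun h => hec (by
      have := eq_inv_of_mul_eq_one_left h
      rwa [inv_inv] at this))
  have h3 : c * c * e ∈ ⁅A, rankOneDiagonal A B⁆ :=
    sq_mul_mem S hc hc1 he he1 (fun h => hec' (by
      have := eq_inv_of_mul_eq_one_right h
      exact this))
  have h4 : c * c ∈ ⁅A, rankOneDiagonal A B⁆ := by
    have : c * c = (e * e * c⁻¹)⁻¹ * (e * e * c) := by group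
    rw [this]
    exact mul_mem (inv_mem h2) h1
  have : e = (c * c)⁻¹ * (c * c * e) := by group
  rw [this]
  exact mul_mem (inv_mem h4) h3

/-- **`A = [A, H]`** for a special rank one pair with abelian unipotent subgroups and `|A| > 3`. -/
theorem le_commutator_diagonal (S : Setup A B) (h3 : 3 < ENat.card A) :
    A ≤ ⁅A, rankOneDiagonal A B⁆ := by
  intro c hc
  by_cases hc1 : c = 1
  · rw [hc1]; exact one_mem _
  obtain ⟨e, he, he1, hec, hec'⟩ := exists_fourth h3 c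
  refine mem_of_fourth S he he1 hc hc1 (fun h => hec h.symm) (fun h => hec' ?_)
  rw [h, inv_inv]

lemma diagonal_le_sup : rankOneDiagonal A B ≤ A ⊔ B := fun _ hx => hx.1.1

/-- `A ≤ ⟨A, B⟩'`. -/
theorem left_le_commutator (S : Setup A B) (h3 : 3 < ENat.card A) :
    A ≤ ⁅A ⊔ B, A ⊔ B⁆ :=
  (le_commutator_diagonal S h3).trans (Subgroup.commutator_mono le_sup_left diagonal_le_sup)

end SRO

end Cfsg.Agent.Lib.Helper83
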