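/-
helper83: calculus of transvection subgroups `T(v, φ) = {1 + c • v φᵀ}` of `SL(ι, k)`
(`φ ⬝ᵥ v = 0`): products, commutators, conjugation, and embeddings `SL(κ, k) → SL(ι, k)`
attached to a pair of matrices `X`, `Y` with `Y * X = 1`.
-/
import Mathlib
import Cfsg.Prelude.Def_RootSubgroups
import Cfsg.Agent.Lib.Helper83.ConjBy

set_option autoImplicit false

namespace Cfsg.Agent.Lib.Helper83

open Matrix

section Transv

variable {k : Type*} [Field k] {ι : Type*} [Fintype ι] [DecidableEq ι]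

lemma det_one_add_smul_vecMulVec (v φ : ι → k) (h : φ ⬝ᵥ v = 0) (c : k) :
    (1 + c • vecMulVec v φ).det = 1 := by
  rw [← smul_vecMulVec, vecMulVec_eq Unit, det_one_add_replicateCol_mul_replicateRow]
  simp [h]

/-- The element `1 + c • v φᵀ` of the special linear group. -/
def tvE (v φ : ι → k) (h : φ ⬝ᵥ v = 0) (c : k) : SpecialLinearGroup ι k :=
  ⟨1 + c • vecMulVec v φ, det_one_add_smul_vecMulVec v φ h c⟩

lemma coe_tvE (v φ : ι → k) (h : φ ⬝ᵥ v = 0) (c : k) :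
    ((tvE v φ h c : SpecialLinearGroup ι k) : Matrix ι ι k) = 1 + c • vecMulVec v φ := rfl

lemma coe_tvE_mul_tvE (v φ w ψ : ι → k) (h : φ ⬝ᵥ v = 0) (h' : ψ ⬝ᵥ w = 0) (a b : k) :
    ((tvE v φ h a * tvE w ψ h' b : SpecialLinearGroup ι k) : Matrix ι ι k) =
      1 + a • vecMulVec v φ + b • vecMulVec w ψ + (a * b * (φ ⬝ᵥ w)) • vecMulVec v ψ := by
  change (1 + a • vecMulVec v φ) * (1 + b • vecMulVec w ψ) = _
  simp only [add_mul, mul_add, one_mul, mul_one, Matrix.smul_mul, Matrix.mul_smul,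
    vecMulVec_mul_vecMulVec, vecMulVec_smul, smul_smul]
  rw [add_assoc, add_assoc, add_assoc]
  congr 2
  rw [show b * (a * φ ⬝ᵥ w) = a * b * φ ⬝ᵥ w by ring]

lemma tvE_zero (v φ : ι → k) (h : φ ⬝ᵥ v = 0) : tvE v φ h 0 = 1 := by
  apply Subtype.ext
  simp [coe_tvE]

lemma tvE_add (v φ : ι → k) (h : φ ⬝ᵥ v = 0) (a b : k) :
    tvE v φ h (a + b) = tvE v φ h a * tvE v φ h b := by
  apply Subtype.ext
  rw [coe_tvE_mul_tvE, h, coe_tvE]
  simp [add_smul, add_assoc]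

lemma tvE_neg (v φ : ι → k) (h : φ ⬝ᵥ v = 0) (a : k) :
    tvE v φ h (-a) = (tvE v φ h a)⁻¹ := by
  rw [eq_inv_iff_mul_eq_one, ← tvE_add, neg_add_cancel, tvE_zero]

/-- The transvection subgroup `T(v, φ) = {1 + c • v φᵀ}`. -/
def tvSub (v φ : ι → k) (h : φ ⬝ᵥ v = 0) : Subgroup (SpecialLinearGroup ι k) where
  carrier := {s | ∃ c : k, s = tvE v φ h c}
  one_mem' := ⟨0, (tvE_zero v φ h).symm⟩
  mul_mem' := by
    rintro _ _ ⟨a, rfl⟩ ⟨b, rfl⟩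
    exact ⟨a + b, (tvE_add v φ h a b).symm⟩
  inv_mem' := by
    rintro _ ⟨a, rfl⟩
    exact ⟨-a, (tvE_neg v φ h a).symm⟩

lemma mem_tvSub {v φ : ι → k} {h : φ ⬝ᵥ v = 0} {s : SpecialLinearGroup ι k} :
    s ∈ tvSub v φ h ↔ ∃ c : k, s = tvE v φ h c := Iff.rfl

lemma tvE_mem (v φ : ι → k) (h : φ ⬝ᵥ v = 0) (c : k) : tvE v φ h c ∈ tvSub v φ h := ⟨c, rfl⟩

lemma mem_tvSub_iff_coe {v φ : ι → k} {h : φ ⬝ᵥ v = 0} {s : SpecialLinearGroup ι k} :
    s ∈ tvSub v φ h ↔ ∃ c : k, (s : Matrix ι ι k) = 1 + c • vecMulVec v φ := by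
  constructor
  · rintro ⟨c, rfl⟩
    exact ⟨c, rfl⟩
  · rintro ⟨c, hc⟩
    exact ⟨c, Subtype.ext hc⟩

lemma tvSub_congr {v φ v' φ' : ι → k} (h : φ ⬝ᵥ v = 0) (h' : φ' ⬝ᵥ v' = 0)
    (hv : vecMulVec v φ = vecMulVec v' φ') : tvSub v φ h = tvSub v' φ' h' := by
  ext s
  rw [mem_tvSub_iff_coe, mem_tvSub_iff_coe, hv]

lemma tvE_eq_one_iff {v φ : ι → k} {h : φ ⬝ᵥ v = 0} (hv : v ≠ 0) (hφ : φ ≠ 0) {c : k} :
    tvE v φ h c = 1 ↔ c = 0 := by
  constructor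
  · intro hc
    have h1 : (1 : Matrix ι ι k) + c • vecMulVec v φ = 1 := congrArg Subtype.val hc
    have h2 : c • vecMulVec v φ = 0 := by simpa using h1
    rcases smul_eq_zero.mp h2 with h3 | h3
    · exact h3
    · rcases vecMulVec_eq_zero.mp h3 with h4 | h4
      · exact absurd h4 hv
      · exact absurd h4 hφ
  · rintro rfl
    exact tvE_zero v φ h

lemma tvE_injective {v φ : ι → k} {h : φ ⬝ᵥ v = 0} (hv : v ≠ 0) (hφ : φ ≠ 0) :
    Function.Injective (tvE v φ h) := by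
  intro a b hab
  have : tvE v φ h (a - b) = 1 := by
    rw [sub_eq_add_neg, tvE_add, tvE_neg, hab, mul_inv_cancel]
  exact sub_eq_zero.mp ((tvE_eq_one_iff hv hφ).mp this)

lemma tvSub_ne_bot {v φ : ι → k} (h : φ ⬝ᵥ v = 0) (hv : v ≠ 0) (hφ : φ ≠ 0) : tvSub v φ h ≠ ⊥ := by
  intro hbot
  have h1 : tvE v φ h 1 ∈ tvSub v φ h := tvE_mem v φ h 1
  rw [hbot, Subgroup.mem_bot, tvE_eq_one_iff hv hφ] at h1
  exact one_ne_zero h1

lemma tvSub_smul {v φ : ι → k} (h : φ ⬝ᵥ v = 0) {a b : k} (ha : a ≠ 0) (hb : b ≠ 0)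
    (h' : (b • φ) ⬝ᵥ (a • v) = 0) : tvSub (a • v) (b • φ) h' = tvSub v φ h := by
  ext s
  rw [mem_tvSub_iff_coe, mem_tvSub_iff_coe, smul_vecMulVec, vecMulVec_smul]
  constructor
  · rintro ⟨c, hc⟩
    exact ⟨c * a * b, by rw [hc, smul_smul, smul_smul]⟩
  · rintro ⟨c, hc⟩
    refine ⟨c * b⁻¹ * a⁻¹, ?_⟩
    rw [hc, smul_smul, smul_smul]
    congr 2
    field_simp

lemma tvSub_isMulCommutative (v φ : ι → k) (h : φ ⬝ᵥ v = 0) : IsMulCommutative (tvSub v φ h) := by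
  refine ⟨⟨?_⟩⟩
  rintro ⟨_, a, rfl⟩ ⟨_, b, rfl⟩
  apply Subtype.ext
  change tvE v φ h a * tvE v φ h b = tvE v φ h b * tvE v φ h a
  rw [← tvE_add, ← tvE_add, add_comm]

/-- Transvections with `φ ⬝ᵥ w = 0` and `ψ ⬝ᵥ v = 0` commute. -/
lemma tvE_commute {v φ w ψ : ι → k} (h : φ ⬝ᵥ v = 0) (h' : ψ ⬝ᵥ w = 0) (hφw : φ ⬝ᵥ w = 0)
    (hψv : ψ ⬝ᵥ v = 0) (a b : k) :
    tvE v φ h a * tvE w ψ h' b = tvE w ψ h' b * tvE v φ h a := by
  apply Subtype.ext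
  rw [coe_tvE_mul_tvE, coe_tvE_mul_tvE, hφw, hψv]
  simp only [mul_zero, zero_smul, add_zero]
  abel

/-- The commutator formula `[1 + a v φᵀ, 1 + b w ψᵀ] = 1 + a b (φ ⬝ᵥ w) v ψᵀ` when `ψ ⬝ᵥ v = 0`. -/
lemma tvE_commutator {v φ w ψ : ι → k} (h : φ ⬝ᵥ v = 0) (h' : ψ ⬝ᵥ w = 0)
    (hψv : ψ ⬝ᵥ v = 0) (a b : k) :
    tvE v φ h a * tvE w ψ h' b * (tvE v φ h a)⁻¹ * (tvE w ψ h' b)⁻¹ =
      tvE v ψ hψv (a * b * (φ ⬝ᵥ w)) := by
  have key : tvE v φ h a * tvE w ψ h' b =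
      tvE v ψ hψv (a * b * (φ ⬝ᵥ w)) * tvE w ψ h' b * tvE v φ h a := by
    apply Subtype.ext
    rw [coe_tvE_mul_tvE]
    change _ = ((tvE v ψ hψv (a * b * (φ ⬝ᵥ w)) * tvE w ψ h' b : SpecialLinearGroup ι k) :
      Matrix ι ι k) * (1 + a • vecMulVec v φ)
    rw [coe_tvE_mul_tvE, h']
    simp only [mul_zero, zero_smul, add_zero, add_mul, mul_add, one_mul, mul_one, Matrix.smul_mul,
      Matrix.mul_smul, vecMulVec_mul_vecMulVec, hψv, vecMulVec_zero, smul_zero]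
    abel
  rw [key]
  group

lemma coe_mul_coe_inv (g : SpecialLinearGroup ι k) :
    (g : Matrix ι ι k) * ((g⁻¹ : SpecialLinearGroup ι k) : Matrix ι ι k) = 1 := by
  have : ((g * g⁻¹ : SpecialLinearGroup ι k) : Matrix ι ι k) = 1 := by
    rw [mul_inv_cancel]; rfl
  exact this

lemma coe_inv_mul_coe (g : SpecialLinearGroup ι k) :
    ((g⁻¹ : SpecialLinearGroup ι k) : Matrix ι ι k) * (g : Matrix ι ι k) = 1 := by
  have : ((g⁻¹ * g : SpecialLinearGroup ι k) : Matrix ι ι k) = 1 := by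
    rw [inv_mul_cancel]; rfl
  exact this

lemma dot_conj (g : SpecialLinearGroup ι k) (w φ : ι → k) :
    (φ ᵥ* ((g⁻¹ : SpecialLinearGroup ι k) : Matrix ι ι k)) ⬝ᵥ ((g : Matrix ι ι k) *ᵥ w) = φ ⬝ᵥ w := by
  rw [dotProduct_mulVec, vecMul_vecMul, coe_inv_mul_coe, vecMul_one]

lemma conj_tvE (g : SpecialLinearGroup ι k) (v φ : ι → k) (h : φ ⬝ᵥ v = 0) (c : k) :
    g * tvE v φ h c * g⁻¹ =
      tvE ((g : Matrix ι ι k) *ᵥ v) (φ ᵥ* ((g⁻¹ : SpecialLinearGroup ι k) : Matrix ι ι k))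
        ((dot_conj g v φ).trans h) c := by
  apply Subtype.ext
  change (g : Matrix ι ι k) * (1 + c • vecMulVec v φ) * ((g⁻¹ : SpecialLinearGroup ι k) : Matrix ι ι k)
    = 1 + c • vecMulVec ((g : Matrix ι ι k) *ᵥ v) (φ ᵥ* ((g⁻¹ : SpecialLinearGroup ι k) : Matrix ι ι k))
  rw [← mul_vecMulVec, ← vecMulVec_mul, mul_add, add_mul, mul_one, coe_mul_coe_inv,
    Matrix.mul_smul, Matrix.smul_mul, Matrix.mul_assoc]

lemma conjBy_tvSub (g : SpecialLinearGroup ι k) (v φ : ι → k) (h : φ ⬝ᵥ v = 0) :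
    Cfsg.conjBy (tvSub v φ h) g =
      tvSub ((g : Matrix ι ι k) *ᵥ v) (φ ᵥ* ((g⁻¹ : SpecialLinearGroup ι k) : Matrix ι ι k))
        ((dot_conj g v φ).trans h) := by
  ext s
  rw [mem_conjBy]
  constructor
  · rintro ⟨c, hc⟩
    refine ⟨c, ?_⟩
    rw [← conj_tvE g v φ h c, ← hc]
    group
  · rintro ⟨c, rfl⟩
    refine ⟨c, ?_⟩
    rw [← conj_tvE g v φ h c]
    group

lemma mulVec_ne_zero (g : SpecialLinearGroup ι k) {v : ι → k} (hv : v ≠ 0) :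
    (g : Matrix ι ι k) *ᵥ v ≠ 0 := by
  intro h0
  apply hv
  have := congrArg (fun x => ((g⁻¹ : SpecialLinearGroup ι k) : Matrix ι ι k) *ᵥ x) h0
  simp only [mulVec_mulVec, mulVec_zero] at this
  rwa [coe_inv_mul_coe, one_mulVec] at this

lemma vecMul_ne_zero (g : SpecialLinearGroup ι k) {φ : ι → k} (hφ : φ ≠ 0) :
    φ ᵥ* (g : Matrix ι ι k) ≠ 0 := by
  intro h0
  apply hφ
  have := congrArg (fun x => x ᵥ* ((g⁻¹ : SpecialLinearGroup ι k) : Matrix ι ι k)) h0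
  simp only [vecMul_vecMul, zero_vecMul] at this
  rwa [coe_mul_coe_inv, vecMul_one] at this

end Transv

section Embed

variable {k : Type*} [Field k] {ι κ : Type*} [Fintype ι] [DecidableEq ι] [Fintype κ] [DecidableEq κ]

lemma det_embed (X : Matrix ι κ k) (Y : Matrix κ ι k) (hYX : Y * X = 1)
    (g : SpecialLinearGroup κ k) : (1 + X * ((g : Matrix κ κ k) - 1) * Y).det = 1 := by
  rw [Matrix.mul_assoc, det_one_add_mul_comm, Matrix.mul_assoc, hYX, Matrix.mul_one,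
    add_sub_cancel]
  exact g.2

/-- The embedding `g ↦ 1 + X (g - 1) Y` of `SL(κ, k)` into `SL(ι, k)` attached to `Y * X = 1`. -/
def embedSL (X : Matrix ι κ k) (Y : Matrix κ ι k) (hYX : Y * X = 1) :
    SpecialLinearGroup κ k →* SpecialLinearGroup ι k where
  toFun g := ⟨1 + X * ((g : Matrix κ κ k) - 1) * Y, det_embed X Y hYX g⟩
  map_one' := by
    apply Subtype.ext
    change 1 + X * ((1 : Matrix κ κ k) - 1) * Y = 1
    simp
  map_mul' g h := by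
    apply Subtype.ext
    change 1 + X * ((g : Matrix κ κ k) * (h : Matrix κ κ k) - 1) * Y =
      (1 + X * ((g : Matrix κ κ k) - 1) * Y) * (1 + X * ((h : Matrix κ κ k) - 1) * Y)
    have e : X * ((g : Matrix κ κ k) - 1) * Y * (X * ((h : Matrix κ κ k) - 1) * Y) =
        X * (((g : Matrix κ κ k) - 1) * ((h : Matrix κ κ k) - 1)) * Y := by
      simp only [Matrix.mul_assoc]
      rw [← Matrix.mul_assoc Y X, hYX, Matrix.one_mul]
    rw [mul_add, add_mul, one_mul, mul_one, add_mul, one_mul, e]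
    have e2 : (g : Matrix κ κ k) * (h : Matrix κ κ k) - 1 =
        ((g : Matrix κ κ k) - 1) + (((h : Matrix κ κ k) - 1) +
          ((g : Matrix κ κ k) - 1) * ((h : Matrix κ κ k) - 1)) := by
      noncomm_ring
    rw [e2, Matrix.mul_add, Matrix.mul_add, Matrix.add_mul, Matrix.add_mul]
    abel

lemma coe_embedSL (X : Matrix ι κ k) (Y : Matrix κ ι k) (hYX : Y * X = 1)
    (g : SpecialLinearGroup κ k) :
    ((embedSL X Y hYX g : SpecialLinearGroup ι k) : Matrix ι ι k) =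
      1 + X * ((g : Matrix κ κ k) - 1) * Y := rfl

lemma embedSL_injective (X : Matrix ι κ k) (Y : Matrix κ ι k) (hYX : Y * X = 1) :
    Function.Injective (embedSL X Y hYX) := by
  rw [injective_iff_map_eq_one]
  intro g hg
  have h1 : (1 : Matrix ι ι k) + X * ((g : Matrix κ κ k) - 1) * Y = 1 := congrArg Subtype.val hg
  have h2 : X * ((g : Matrix κ κ k) - 1) * Y = 0 := by simpa using h1
  have h3 : Y * (X * ((g : Matrix κ κ k) - 1) * Y) * X = 0 := by rw [h2]; simp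
  have h4 : Y * (X * ((g : Matrix κ κ k) - 1) * Y) * X = (g : Matrix κ κ k) - 1 := by
    simp only [Matrix.mul_assoc]
    rw [hYX, Matrix.mul_one, ← Matrix.mul_assoc, hYX, Matrix.one_mul]
  apply Subtype.ext
  rw [h4] at h3
  exact sub_eq_zero.mp h3

end Embed

end Cfsg.Agent.Lib.Helper83
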