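/-
helper83: two transvection subgroups `T(v, φ)`, `T(w, ψ)` of `SL(ι, k)` with `φ ⬝ᵥ w ≠ 0` and
`ψ ⬝ᵥ v ≠ 0` form a rank one pair, the image of the unitriangular subgroups of `SL₂(k)` under an
injective homomorphism.
-/
import Cfsg.Agent.Lib.Helper83.Transv
import Cfsg.Agent.S5016
import Cfsg.Agent.S5035

set_option autoImplicit false

namespace Cfsg.Agent.Lib.Helper83

open Matrix

section

variable {k : Type*} [Field k] {ι : Type*} [Fintype ι] [DecidableEq ι]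

/-- The matrix with columns `v`, `w`. -/
def colPair (v w : ι → k) : Matrix ι (Fin 2) k := Matrix.of fun i j => ![v i, w i] j

/-- The matrix with rows `ψ`, `φ`. -/
def rowPair (ψ φ : ι → k) : Matrix (Fin 2) ι k := Matrix.of fun j i => ![ψ i, φ i] j

omit [DecidableEq ι] in
lemma rowPair_mul_colPair' (v w ψ φ : ι → k) (h11 : ψ ⬝ᵥ v = 1) (h12 : ψ ⬝ᵥ w = 0)
    (h21 : φ ⬝ᵥ v = 0) (h22 : φ ⬝ᵥ w = 1) : rowPair ψ φ * colPair v w = 1 := by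
  ext a b
  fin_cases a <;> fin_cases b <;>
    simp [rowPair, colPair, Matrix.mul_apply, dotProduct] at * <;> assumption

lemma rowPair_mul_colPair (v w ψ φ : ι → k) (h11 : ψ ⬝ᵥ v = 1) (h12 : ψ ⬝ᵥ w = 0)
    (h21 : φ ⬝ᵥ v = 0) (h22 : φ ⬝ᵥ w = 1) : rowPair ψ φ * colPair v w = 1 :=
  rowPair_mul_colPair' v w ψ φ h11 h12 h21 h22

/-- The homomorphism `SL₂(k) → SL(ι, k)` attached to dual pairs `(v, w)`, `(ψ, φ)`. -/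
noncomputable def sl2Hom (v w ψ φ : ι → k) (h11 : ψ ⬝ᵥ v = 1) (h12 : ψ ⬝ᵥ w = 0)
    (h21 : φ ⬝ᵥ v = 0) (h22 : φ ⬝ᵥ w = 1) :
    SpecialLinearGroup (Fin 2) k →* SpecialLinearGroup ι k :=
  embedSL (colPair v w) (rowPair ψ φ) (rowPair_mul_colPair v w ψ φ h11 h12 h21 h22)

lemma sl2Hom_U (v w ψ φ : ι → k) (h11 : ψ ⬝ᵥ v = 1) (h12 : ψ ⬝ᵥ w = 0)
    (h21 : φ ⬝ᵥ v = 0) (h22 : φ ⬝ᵥ w = 1) (t : k) :
    sl2Hom v w ψ φ h11 h12 h21 h22 (Cfsg.Agent.S5016.U t) = tvE v φ h21 t := by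
  apply Subtype.ext
  change (1 : Matrix ι ι k) + colPair v w * ((Cfsg.Agent.S5016.U t : Matrix (Fin 2) (Fin 2) k) - 1) *
    rowPair ψ φ = (1 : Matrix ι ι k) + t • vecMulVec v φ
  ext i j
  simp [Cfsg.Agent.S5016.coe_U, Matrix.mul_apply, Fin.sum_univ_two, colPair, rowPair,
    vecMulVec_apply, Matrix.one_apply]
  ring

lemma sl2Hom_L (v w ψ φ : ι → k) (h11 : ψ ⬝ᵥ v = 1) (h12 : ψ ⬝ᵥ w = 0)
    (h21 : φ ⬝ᵥ v = 0) (h22 : φ ⬝ᵥ w = 1) (t : k) :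
    sl2Hom v w ψ φ h11 h12 h21 h22 (Cfsg.Agent.S5016.L t) = tvE w ψ h12 t := by
  apply Subtype.ext
  change (1 : Matrix ι ι k) + colPair v w * ((Cfsg.Agent.S5016.L t : Matrix (Fin 2) (Fin 2) k) - 1) *
    rowPair ψ φ = (1 : Matrix ι ι k) + t • vecMulVec w ψ
  ext i j
  simp [Cfsg.Agent.S5016.coe_L, Matrix.mul_apply, Fin.sum_univ_two, colPair, rowPair,
    vecMulVec_apply, Matrix.one_apply]
  ring

lemma sl2Hom_injective (v w ψ φ : ι → k) (h11 : ψ ⬝ᵥ v = 1) (h12 : ψ ⬝ᵥ w = 0)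
    (h21 : φ ⬝ᵥ v = 0) (h22 : φ ⬝ᵥ w = 1) :
    Function.Injective (sl2Hom v w ψ φ h11 h12 h21 h22) :=
  embedSL_injective _ _ _

lemma map_upper (v w ψ φ : ι → k) (h11 : ψ ⬝ᵥ v = 1) (h12 : ψ ⬝ᵥ w = 0)
    (h21 : φ ⬝ᵥ v = 0) (h22 : φ ⬝ᵥ w = 1) :
    (Cfsg.upperUnipotentSL2 k).map (sl2Hom v w ψ φ h11 h12 h21 h22) = tvSub v φ h21 := by
  ext s
  rw [Subgroup.mem_map, mem_tvSub]
  constructor
  · rintro ⟨g, hg, rfl⟩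
    obtain ⟨t, rfl⟩ := Cfsg.Agent.S5016.mem_upper_iff.mp hg
    exact ⟨t, sl2Hom_U v w ψ φ h11 h12 h21 h22 t⟩
  · rintro ⟨t, rfl⟩
    exact ⟨_, Cfsg.Agent.S5016.U_mem t, sl2Hom_U v w ψ φ h11 h12 h21 h22 t⟩

lemma map_lower (v w ψ φ : ι → k) (h11 : ψ ⬝ᵥ v = 1) (h12 : ψ ⬝ᵥ w = 0)
    (h21 : φ ⬝ᵥ v = 0) (h22 : φ ⬝ᵥ w = 1) :
    (Cfsg.lowerUnipotentSL2 k).map (sl2Hom v w ψ φ h11 h12 h21 h22) = tvSub w ψ h12 := by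
  ext s
  rw [Subgroup.mem_map, mem_tvSub]
  constructor
  · rintro ⟨g, hg, rfl⟩
    obtain ⟨t, rfl⟩ := Cfsg.Agent.S5016.mem_lower_iff.mp hg
    exact ⟨t, sl2Hom_L v w ψ φ h11 h12 h21 h22 t⟩
  · rintro ⟨t, rfl⟩
    exact ⟨_, Cfsg.Agent.S5016.L_mem t, sl2Hom_L v w ψ φ h11 h12 h21 h22 t⟩

/-- Normalised version: dual pairs give a rank one pair which is a `PSL₂`-pair over `k`. -/
lemma tvSub_rankOne_normalised (v w ψ φ : ι → k) (h11 : ψ ⬝ᵥ v = 1) (h12 : ψ ⬝ᵥ w = 0)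
    (h21 : φ ⬝ᵥ v = 0) (h22 : φ ⬝ᵥ w = 1) :
    Cfsg.IsRankOnePair (tvSub v φ h21) (tvSub w ψ h12) ∧
      Cfsg.IsPSL2PairOver k (tvSub v φ h21) (tvSub w ψ h12) := by
  have hinj := sl2Hom_injective v w ψ φ h11 h12 h21 h22
  have hU := map_upper v w ψ φ h11 h12 h21 h22
  have hL := map_lower v w ψ φ h11 h12 h21 h22
  constructor
  · have hne : (Cfsg.lowerUnipotentSL2 k).map (sl2Hom v w ψ φ h11 h12 h21 h22) ≠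
        (Cfsg.upperUnipotentSL2 k).map (sl2Hom v w ψ φ h11 h12 h21 h22) := by
      intro heq
      exact Cfsg.Agent.S5016.lower_ne_upper (Subgroup.map_injective hinj heq)
    have := Cfsg.Agent.S5035.map_rankOnePair (sl2Hom v w ψ φ h11 h12 h21 h22)
      (Cfsg.Agent.S5016.rankOnePair (k := k)) hne
    rw [hU, hL] at this
    exact Cfsg.RankOnePair_symm this
  · refine ⟨sl2Hom v w ψ φ h11 h12 h21 h22, ?_, ?_, hU, hL⟩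
    · rw [MonoidHom.range_eq_map, ← Cfsg.Agent.S5016.sup_eq_top, Subgroup.map_sup, hU, hL, sup_comm]
    · rw [(MonoidHom.ker_eq_bot_iff _).mpr hinj]
      exact bot_le

/-- Two transvection subgroups `T(v, φ)`, `T(w, ψ)` with `φ ⬝ᵥ w ≠ 0` and `ψ ⬝ᵥ v ≠ 0` form a rank
one pair, and a `PSL₂`-pair over `k`. -/
lemma tvSub_rankOne (v φ w ψ : ι → k) (h : φ ⬝ᵥ v = 0) (h' : ψ ⬝ᵥ w = 0)
    (hφw : φ ⬝ᵥ w ≠ 0) (hψv : ψ ⬝ᵥ v ≠ 0) :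
    Cfsg.IsRankOnePair (tvSub v φ h) (tvSub w ψ h') ∧
      Cfsg.IsPSL2PairOver k (tvSub v φ h) (tvSub w ψ h') := by
  have h11 : ((ψ ⬝ᵥ v)⁻¹ • ψ) ⬝ᵥ v = 1 := by
    rw [smul_dotProduct, smul_eq_mul, inv_mul_cancel₀ hψv]
  have h12 : ((ψ ⬝ᵥ v)⁻¹ • ψ) ⬝ᵥ ((φ ⬝ᵥ w)⁻¹ • w) = 0 := by
    rw [smul_dotProduct, dotProduct_smul, h']
    simp
  have h22 : φ ⬝ᵥ ((φ ⬝ᵥ w)⁻¹ • w) = 1 := by
    rw [dotProduct_smul, smul_eq_mul, inv_mul_cancel₀ hφw]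
  have key := tvSub_rankOne_normalised v ((φ ⬝ᵥ w)⁻¹ • w) ((ψ ⬝ᵥ v)⁻¹ • ψ) φ h11 h12 h h22
  rwa [tvSub_smul h' (inv_ne_zero hφw) (inv_ne_zero hψv) h12] at key

end

end Cfsg.Agent.Lib.Helper83
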