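/-
helper83: Siegel transvections for the hyperbolic form on `k^(n ⊕ n)`:
`E(p, r; c) = 1 + c (p ⊗ B(·, r) - r ⊗ B(·, p))` for a totally singular pair `p, r`, as elements of
`SL(n ⊕ n, k)`; products, base change, commuting pairs, the commutator case and rank one pairs.
-/
import Cfsg.Agent.Lib.Helper83.TransvSL2
import Cfsg.Agent.Lib.Helper83.NilSeries

set_option autoImplicit false

namespace Cfsg.Agent.Lib.Helper83

open Matrix

namespace Siegel

section Form

variable {k : Type*} [Field k] {n : Type*} [Fintype n] [DecidableEq n]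

/-- Swap the two halves of a vector. -/
def sw (v : n ⊕ n → k) : n ⊕ n → k := fun i => v i.swap

omit [Fintype n] [DecidableEq n] in
@[simp] lemma sw_apply (v : n ⊕ n → k) (i : n ⊕ n) : sw v i = v i.swap := rfl

omit [Fintype n] [DecidableEq n] in
@[simp] lemma sw_sw (v : n ⊕ n → k) : sw (sw v) = v := by
  ext i; simp [sw]

omit [Fintype n] [DecidableEq n] in
lemma sw_add (u v : n ⊕ n → k) : sw (u + v) = sw u + sw v := rfl

omit [Fintype n] [DecidableEq n] in
lemma sw_smul (c : k) (v : n ⊕ n → k) : sw (c • v) = c • sw v := rfl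

omit [Fintype n] [DecidableEq n] in
lemma sw_neg (v : n ⊕ n → k) : sw (-v) = -sw v := rfl

/-- The polar form of the hyperbolic quadratic form. -/
def Bf (u v : n ⊕ n → k) : k := u ⬝ᵥ sw v

omit [DecidableEq n] in
lemma Bf_comm (u v : n ⊕ n → k) : Bf u v = Bf v u := by
  unfold Bf dotProduct
  rw [← Equiv.sum_comp (Equiv.sumComm n n)]
  apply Finset.sum_congr rfl
  intro i _
  simp [sw, mul_comm]

omit [DecidableEq n] in
lemma sw_dot (u v : n ⊕ n → k) : sw u ⬝ᵥ v = Bf v u := by
  rw [dotProduct_comm]; rfl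

omit [DecidableEq n] in
lemma Bf_add_left (u u' v : n ⊕ n → k) : Bf (u + u') v = Bf u v + Bf u' v := by
  unfold Bf; rw [add_dotProduct]

omit [DecidableEq n] in
lemma Bf_add_right (u v v' : n ⊕ n → k) : Bf u (v + v') = Bf u v + Bf u v' := by
  unfold Bf; rw [sw_add, dotProduct_add]

omit [DecidableEq n] in
lemma Bf_smul_left (c : k) (u v : n ⊕ n → k) : Bf (c • u) v = c * Bf u v := by
  unfold Bf; rw [smul_dotProduct, smul_eq_mul]

omit [DecidableEq n] in
lemma Bf_smul_right (c : k) (u v : n ⊕ n → k) : Bf u (c • v) = c * Bf u v := by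
  unfold Bf; rw [sw_smul, dotProduct_smul, smul_eq_mul]

omit [DecidableEq n] in
lemma Bf_sub_left (u u' v : n ⊕ n → k) : Bf (u - u') v = Bf u v - Bf u' v := by
  unfold Bf; rw [sub_dotProduct]

omit [DecidableEq n] in
lemma Bf_sub_right (u v v' : n ⊕ n → k) : Bf u (v - v') = Bf u v - Bf u v' := by
  rw [Bf_comm, Bf_sub_left, Bf_comm v, Bf_comm v']

omit [DecidableEq n] in
lemma Bf_neg_right (u v : n ⊕ n → k) : Bf u (-v) = -Bf u v := by
  unfold Bf; rw [sw_neg, dotProduct_neg]

omit [DecidableEq n] in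
lemma Bf_neg_left (u v : n ⊕ n → k) : Bf (-u) v = -Bf u v := by
  unfold Bf; rw [neg_dotProduct]

omit [DecidableEq n] in
@[simp] lemma Bf_zero_left (v : n ⊕ n → k) : Bf 0 v = 0 := by
  unfold Bf; rw [zero_dotProduct]

omit [DecidableEq n] in
@[simp] lemma Bf_zero_right (v : n ⊕ n → k) : Bf v 0 = 0 := by
  rw [Bf_comm, Bf_zero_left]

lemma Bf_single_right (u : n ⊕ n → k) (i : n ⊕ n) (c : k) : Bf u (Pi.single i c) = u i.swap * c := by
  rw [Bf_comm]
  unfold Bf
  rw [single_dotProduct, mul_comm]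
  rfl

lemma Bf_single_left (u : n ⊕ n → k) (i : n ⊕ n) (c : k) : Bf (Pi.single i c) u = c * u i.swap := by
  rw [Bf_comm, Bf_single_right, mul_comm]

/-- Non-degeneracy. -/
lemma eq_zero_of_Bf_eq_zero {u : n ⊕ n → k} (h : ∀ v, Bf u v = 0) : u = 0 := by
  ext i
  have := h (Pi.single i.swap 1)
  rw [Bf_single_right, Sum.swap_swap, mul_one] at this
  exact this

/-- The hyperbolic quadratic form. -/
def Qf (v : n ⊕ n → k) : k := ∑ i : n, v (Sum.inl i) * v (Sum.inr i)

omit [DecidableEq n] in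
lemma Bf_eq_sum (u v : n ⊕ n → k) :
    Bf u v = ∑ i : n, (u (Sum.inl i) * v (Sum.inr i) + u (Sum.inr i) * v (Sum.inl i)) := by
  unfold Bf dotProduct
  rw [Fintype.sum_sum_type, Finset.sum_add_distrib]
  rfl

omit [DecidableEq n] in
lemma Qf_add (u v : n ⊕ n → k) : Qf (u + v) = Qf u + Qf v + Bf u v := by
  rw [Bf_eq_sum]
  unfold Qf
  rw [← Finset.sum_add_distrib, ← Finset.sum_add_distrib]
  apply Finset.sum_congr rfl
  intro i _
  simp only [Pi.add_apply]
  ring

omit [DecidableEq n] in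
lemma Qf_smul (c : k) (v : n ⊕ n → k) : Qf (c • v) = c * c * Qf v := by
  unfold Qf
  rw [Finset.mul_sum]
  apply Finset.sum_congr rfl
  intro i _
  simp only [Pi.smul_apply, smul_eq_mul]
  ring

omit [DecidableEq n] in
lemma Bf_self (v : n ⊕ n → k) : Bf v v = 2 * Qf v := by
  rw [Bf_eq_sum]
  unfold Qf
  rw [Finset.mul_sum]
  apply Finset.sum_congr rfl
  intro i _
  ring

omit [DecidableEq n] in
lemma Qf_neg (v : n ⊕ n → k) : Qf (-v) = Qf v := by
  have := Qf_smul (-1 : k) v
  rw [neg_one_smul] at this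
  rw [this]; ring

omit [DecidableEq n] in
lemma Qf_sub (u v : n ⊕ n → k) : Qf (u - v) = Qf u + Qf v - Bf u v := by
  rw [sub_eq_add_neg, Qf_add, Qf_neg, Bf_neg_right]
  ring

end Form

end Siegel

end Cfsg.Agent.Lib.Helper83
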