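/-
helper83: Siegel transvections `E(p, r; c) = 1 + c N(p, r)`, `N(p, r) v = B(v, r) p - B(v, p) r`,
for a totally singular pair `p, r` of the hyperbolic quadratic form on `k^(n ⊕ n)`, as elements
of `SL(n ⊕ n, k)`; the Siegel transvection subgroup `sgSub p r` and its independence of the basis.
-/
import Cfsg.Agent.Lib.Helper83.Siegel

set_option autoImplicit false

namespace Cfsg.Agent.Lib.Helper83

open Matrix

namespace Siegel

section Mat

variable {k : Type*} [Field k] {n : Type*} [Fintype n] [DecidableEq n]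

/-- The nilpotent matrix `N(p, r) : v ↦ B(v, r) p - B(v, p) r`. -/
def sgN (p r : n ⊕ n → k) : Matrix (n ⊕ n) (n ⊕ n) k :=
  vecMulVec p (sw r) - vecMulVec r (sw p)

omit [DecidableEq n] in
lemma sgN_mulVec (p r v : n ⊕ n → k) : sgN p r *ᵥ v = Bf v r • p - Bf v p • r := by
  unfold sgN
  rw [sub_mulVec, vecMulVec_mulVec, vecMulVec_mulVec, sw_dot, sw_dot, op_smul_eq_smul,
    op_smul_eq_smul]

omit [DecidableEq n] in
lemma mat_ext {M M' : Matrix (n ⊕ n) (n ⊕ n) k} (h : ∀ v, M *ᵥ v = M' *ᵥ v) : M = M' :=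
  ext_iff_mulVec.mpr h

omit [DecidableEq n] in
lemma sgN_comb (p r : n ⊕ n → k) (a b c d : k) :
    sgN (a • p + b • r) (c • p + d • r) = (a * d - b * c) • sgN p r := by
  apply mat_ext
  intro v
  simp only [smul_mulVec, sgN_mulVec, Bf_add_right, Bf_smul_right]
  module

omit [Fintype n] [DecidableEq n] in
lemma sgN_swap (p r : n ⊕ n → k) : sgN r p = -sgN p r := by
  unfold sgN; abel

/-- A totally singular pair for the hyperbolic quadratic form. -/
structure SingPair (p r : n ⊕ n → k) : Prop where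
  qp : Qf p = 0
  qr : Qf r = 0
  bpr : Bf p r = 0

namespace SingPair

variable {p r : n ⊕ n → k}

omit [DecidableEq n] in
lemma bpp (h : SingPair p r) : Bf p p = 0 := by rw [Bf_self, h.qp, mul_zero]

omit [DecidableEq n] in
lemma brr (h : SingPair p r) : Bf r r = 0 := by rw [Bf_self, h.qr, mul_zero]

omit [DecidableEq n] in
lemma brp (h : SingPair p r) : Bf r p = 0 := by rw [Bf_comm, h.bpr]

omit [DecidableEq n] in
lemma swap (h : SingPair p r) : SingPair r p := ⟨h.qr, h.qp, h.brp⟩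

omit [DecidableEq n] in
lemma qf_comb (h : SingPair p r) (a b : k) : Qf (a • p + b • r) = 0 := by
  rw [Qf_add, Qf_smul, Qf_smul, h.qp, h.qr, Bf_smul_left, Bf_smul_right, h.bpr]
  ring

omit [DecidableEq n] in
lemma comb (h : SingPair p r) (a b c d : k) : SingPair (a • p + b • r) (c • p + d • r) := by
  refine ⟨h.qf_comb a b, h.qf_comb c d, ?_⟩
  simp only [Bf_add_left, Bf_add_right, Bf_smul_left, Bf_smul_right, h.bpp, h.brr, h.bpr, h.brp]
  ring

omit [DecidableEq n] in
/-- The condition as it appears in the statement. -/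
lemma of_add (hp : Qf p = 0) (hr : Qf r = 0) (hpr : Qf (p + r) = 0) : SingPair p r := by
  refine ⟨hp, hr, ?_⟩
  rw [Qf_add, hp, hr] at hpr
  simpa using hpr

omit [DecidableEq n] in
lemma qf_add (h : SingPair p r) : Qf (p + r) = 0 := by
  rw [Qf_add, h.qp, h.qr, h.bpr]; ring

end SingPair

omit [DecidableEq n] in
lemma sgN_sq {p r : n ⊕ n → k} (h : SingPair p r) : sgN p r * sgN p r = 0 := by
  apply mat_ext
  intro v
  simp only [← mulVec_mulVec, sgN_mulVec, Bf_sub_left, Bf_smul_left, h.bpp, h.brr, h.bpr, h.brp,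
    zero_mulVec]
  module

/-- The Siegel transvection `1 + c N(p, r)` as an element of the special linear group. -/
def sgE (p r : n ⊕ n → k) (h : SingPair p r) (c : k) : SpecialLinearGroup (n ⊕ n) k :=
  tvE p (sw r) (by rw [sw_dot]; exact h.bpr) c * tvE r (sw p) (by rw [sw_dot]; exact h.brp) (-c)

lemma coe_sgE (p r : n ⊕ n → k) (h : SingPair p r) (c : k) :
    ((sgE p r h c : SpecialLinearGroup (n ⊕ n) k) : Matrix (n ⊕ n) (n ⊕ n) k) =
      1 + c • sgN p r := by
  unfold sgE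
  rw [coe_tvE_mul_tvE, sw_dot, h.brr]
  unfold sgN
  simp only [mul_zero, zero_smul, add_zero, smul_sub, neg_smul]
  abel

lemma sgE_mulVec (p r : n ⊕ n → k) (h : SingPair p r) (c : k) (v : n ⊕ n → k) :
    ((sgE p r h c : SpecialLinearGroup (n ⊕ n) k) : Matrix (n ⊕ n) (n ⊕ n) k) *ᵥ v =
      v + c • (Bf v r • p - Bf v p • r) := by
  rw [coe_sgE, add_mulVec, one_mulVec, smul_mulVec, sgN_mulVec]

lemma sgE_ext {g : SpecialLinearGroup (n ⊕ n) k} {p r : n ⊕ n → k} {h : SingPair p r} {c : k}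
    (hg : (g : Matrix (n ⊕ n) (n ⊕ n) k) = 1 + c • sgN p r) : g = sgE p r h c :=
  Subtype.ext (hg.trans (coe_sgE p r h c).symm)

lemma sgE_zero (p r : n ⊕ n → k) (h : SingPair p r) : sgE p r h 0 = 1 := by
  apply Subtype.ext
  rw [coe_sgE, zero_smul, add_zero]
  rfl

lemma sgE_add (p r : n ⊕ n → k) (h : SingPair p r) (a b : k) :
    sgE p r h (a + b) = sgE p r h a * sgE p r h b := by
  apply Subtype.ext
  change _ = ((sgE p r h a : SpecialLinearGroup (n ⊕ n) k) : Matrix (n ⊕ n) (n ⊕ n) k) *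
    ((sgE p r h b : SpecialLinearGroup (n ⊕ n) k) : Matrix (n ⊕ n) (n ⊕ n) k)
  rw [coe_sgE, coe_sgE, coe_sgE]
  simp only [add_mul, mul_add, one_mul, mul_one, Matrix.smul_mul, Matrix.mul_smul, sgN_sq h,
    smul_zero, add_zero, add_smul]
  abel

lemma sgE_neg (p r : n ⊕ n → k) (h : SingPair p r) (a : k) :
    sgE p r h (-a) = (sgE p r h a)⁻¹ := by
  rw [eq_inv_iff_mul_eq_one, ← sgE_add, neg_add_cancel, sgE_zero]

/-- The Siegel transvection subgroup of the pair `p, r`: generated by the `1 + c N(p, r)`. -/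
def sgSub (p r : n ⊕ n → k) : Subgroup (SpecialLinearGroup (n ⊕ n) k) :=
  Subgroup.closure {g | ∃ c : k, (g : Matrix (n ⊕ n) (n ⊕ n) k) = 1 + c • sgN p r}

lemma sgE_mem (p r : n ⊕ n → k) (h : SingPair p r) (c : k) : sgE p r h c ∈ sgSub p r :=
  Subgroup.subset_closure ⟨c, coe_sgE p r h c⟩

lemma mem_sgSub {p r : n ⊕ n → k} (h : SingPair p r) {g : SpecialLinearGroup (n ⊕ n) k} :
    g ∈ sgSub p r ↔ ∃ c : k, g = sgE p r h c := by
  constructor
  · intro hg
    unfold sgSub at hg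
    induction hg using Subgroup.closure_induction with
    | mem x hx =>
      obtain ⟨c, hc⟩ := hx
      exact ⟨c, sgE_ext hc⟩
    | one => exact ⟨0, (sgE_zero p r h).symm⟩
    | mul x y _ _ hx hy =>
      obtain ⟨a, rfl⟩ := hx
      obtain ⟨b, rfl⟩ := hy
      exact ⟨a + b, (sgE_add p r h a b).symm⟩
    | inv x _ hx =>
      obtain ⟨a, rfl⟩ := hx
      exact ⟨-a, (sgE_neg p r h a).symm⟩
  · rintro ⟨c, rfl⟩
    exact sgE_mem p r h c

lemma sgSub_comb (p r : n ⊕ n → k) {a b c d : k} (hdet : a * d - b * c ≠ 0) :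
    sgSub (a • p + b • r) (c • p + d • r) = sgSub p r := by
  unfold sgSub
  congr 1
  ext g
  constructor
  · rintro ⟨t, ht⟩
    refine ⟨t * (a * d - b * c), ?_⟩
    rw [ht, sgN_comb, smul_smul]
  · rintro ⟨t, ht⟩
    refine ⟨t / (a * d - b * c), ?_⟩
    rw [ht, sgN_comb, smul_smul, div_mul_cancel₀ _ hdet]

lemma sgSub_swap (p r : n ⊕ n → k) : sgSub r p = sgSub p r := by
  unfold sgSub
  congr 1
  ext g
  constructor
  · rintro ⟨t, ht⟩
    exact ⟨-t, by rw [ht, sgN_swap p r, neg_smul, smul_neg]⟩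
  · rintro ⟨t, ht⟩
    exact ⟨-t, by rw [ht, sgN_swap p r, neg_smul, smul_neg, neg_neg]⟩

lemma sgSub_smul_right (p r : n ⊕ n → k) {d : k} (hd : d ≠ 0) : sgSub p (d • r) = sgSub p r := by
  have := sgSub_comb p r (a := 1) (b := 0) (c := 0) (d := d) (by simpa using hd)
  simpa using this

lemma sgSub_smul_left (p r : n ⊕ n → k) {a : k} (ha : a ≠ 0) : sgSub (a • p) r = sgSub p r := by
  have := sgSub_comb p r (a := a) (b := 0) (c := 0) (d := 1) (by simpa using ha)
  simpa using this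

end Mat

section Dual

variable {k : Type*} [Field k] {n : Type*} [Fintype n] [DecidableEq n]

omit [Fintype n] [DecidableEq n] in
lemma exists_minor {p r : n ⊕ n → k} (hli : LinearIndependent k ![p, r]) :
    ∃ i j, p i * r j - p j * r i ≠ 0 := by
  by_contra hcon
  push Not at hcon
  rw [LinearIndependent.pair_iff] at hli
  have hp0 : p ≠ 0 := by
    rintro rfl
    have := hli 1 0 (by simp)
    exact one_ne_zero this.1
  obtain ⟨i, hi⟩ : ∃ i, p i ≠ 0 := by
    by_contra h
    push Not at h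
    exact hp0 (funext h)
  have := hli (r i) (-(p i)) (by
    ext j
    have := hcon i j
    simp only [Pi.add_apply, Pi.smul_apply, smul_eq_mul, Pi.zero_apply]
    linear_combination -this)
  exact hi (neg_eq_zero.mp this.2)

/-- Vectors dual to a linearly independent pair. -/
lemma exists_dual {p r : n ⊕ n → k} (hli : LinearIndependent k ![p, r]) :
    ∃ u₁ u₂ : n ⊕ n → k, Bf u₁ p = 1 ∧ Bf u₁ r = 0 ∧ Bf u₂ p = 0 ∧ Bf u₂ r = 1 := by
  obtain ⟨i, j, hij⟩ := exists_minor hli
  refine ⟨(p i * r j - p j * r i)⁻¹ • (r j • Pi.single i.swap 1 - r i • Pi.single j.swap 1),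
    (p i * r j - p j * r i)⁻¹ • (p i • Pi.single j.swap 1 - p j • Pi.single i.swap 1), ?_, ?_, ?_, ?_⟩
  all_goals
    simp only [Bf_smul_left, Bf_sub_left, Bf_single_left, Sum.swap_swap, one_mul]
    field_simp
  all_goals ring

lemma sgN_ne_zero {p r : n ⊕ n → k} (hli : LinearIndependent k ![p, r]) : sgN p r ≠ 0 := by
  obtain ⟨u₁, u₂, h1, h2, h3, h4⟩ := exists_dual hli
  intro h0
  have := sgN_mulVec p r u₂
  rw [h0, zero_mulVec, h3, h4, one_smul, zero_smul, sub_zero] at this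
  exact hli.ne_zero 0 this.symm

lemma sgE_eq_one_iff {p r : n ⊕ n → k} (h : SingPair p r) (hli : LinearIndependent k ![p, r])
    {c : k} : sgE p r h c = 1 ↔ c = 0 := by
  constructor
  · intro hc
    have h1 : (1 : Matrix (n ⊕ n) (n ⊕ n) k) + c • sgN p r = 1 := by
      rw [← coe_sgE p r h c, hc]; rfl
    have h2 : c • sgN p r = 0 := by simpa using h1
    rcases smul_eq_zero.mp h2 with h3 | h3
    · exact h3
    · exact absurd h3 (sgN_ne_zero hli)
  · rintro rfl
    exact sgE_zero p r h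

lemma sgSub_ne_bot {p r : n ⊕ n → k} (h : SingPair p r) (hli : LinearIndependent k ![p, r]) :
    sgSub p r ≠ ⊥ := by
  intro hbot
  have h1 := sgE_mem p r h 1
  rw [hbot, Subgroup.mem_bot, sgE_eq_one_iff h hli] at h1
  exact one_ne_zero h1

end Dual

end Siegel

end Cfsg.Agent.Lib.Helper83
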