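/-
helper83: the graph on the singular lines of the hyperbolic quadratic space `k^(n ⊕ n)`
(at least three hyperbolic pairs), two lines being adjacent when they are opposite (their Gram
matrix is non-degenerate), is connected.
-/
import Cfsg.Agent.Lib.Helper83.SiegelMat

set_option autoImplicit false
set_option linter.unusedSimpArgs false

namespace Cfsg.Agent.Lib.Helper83

open Matrix

namespace Siegel

section Conn

variable {k : Type*} [Field k] {n : Type*} [Fintype n] [DecidableEq n]

/-- A pair of vectors spanning a singular line. -/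
def IsLine (x : (n ⊕ n → k) × (n ⊕ n → k)) : Prop :=
  LinearIndependent k ![x.1, x.2] ∧ SingPair x.1 x.2

/-- Two pairs span opposite lines. -/
def Opp (x y : (n ⊕ n → k) × (n ⊕ n → k)) : Prop :=
  Bf x.1 y.1 * Bf x.2 y.2 - Bf x.1 y.2 * Bf x.2 y.1 ≠ 0

/-- Adjacency of singular lines. -/
def LAdj (x y : (n ⊕ n → k) × (n ⊕ n → k)) : Prop := IsLine x ∧ IsLine y ∧ Opp x y

omit [DecidableEq n] in
lemma Opp.symm {x y : (n ⊕ n → k) × (n ⊕ n → k)} (h : Opp x y) : Opp y x := by
  unfold Opp at h ⊢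
  rw [Bf_comm y.1 x.1, Bf_comm y.2 x.2, Bf_comm y.1 x.2, Bf_comm y.2 x.1]
  intro h0
  apply h
  linear_combination h0

omit [DecidableEq n] in
lemma LAdj.symm {x y : (n ⊕ n → k) × (n ⊕ n → k)} (h : LAdj x y) : LAdj y x :=
  ⟨h.2.1, h.1, h.2.2.symm⟩

/-- The index of the hyperbolic pair of a coordinate. -/
def pr (i : n ⊕ n) : n := Sum.elim id id i

omit [Fintype n] [DecidableEq n] in
@[simp] lemma pr_swap (i : n ⊕ n) : pr i.swap = pr i := by
  cases i <;> rfl

omit [Fintype n] [DecidableEq n] in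
lemma ne_of_pr_ne {i j : n ⊕ n} (h : pr i ≠ pr j) : i ≠ j := by
  rintro rfl; exact h rfl

omit [Fintype n] [DecidableEq n] in
lemma swap_ne_of_pr_ne {i j : n ⊕ n} (h : pr i ≠ pr j) : i.swap ≠ j := by
  rintro rfl; exact h (pr_swap i).symm

omit [Fintype n] [DecidableEq n] in
lemma ne_swap_of_pr_ne {i j : n ⊕ n} (h : pr i ≠ pr j) : i ≠ j.swap := by
  rintro rfl; exact h (pr_swap j)

omit [Fintype n] [DecidableEq n] in
lemma swap_ne_self (i : n ⊕ n) : i.swap ≠ i := by
  cases i <;> simp

omit [Fintype n] [DecidableEq n] in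
lemma eq_or_eq_swap_of_pr_eq {i j : n ⊕ n} (h : pr i = pr j) : j = i ∨ j = i.swap := by
  cases i <;> cases j <;> simp_all [pr]

/-- The standard basis vectors. -/
def ev (i : n ⊕ n) : n ⊕ n → k := Pi.single i 1

omit [Fintype n] in
lemma ev_apply (i j : n ⊕ n) : (ev i : n ⊕ n → k) j = if j = i then 1 else 0 := by
  unfold ev
  rw [Pi.single_apply]

lemma Bf_ev_left (i : n ⊕ n) (u : n ⊕ n → k) : Bf (ev i) u = u i.swap := by
  unfold ev
  rw [Bf_single_left, one_mul]

lemma Bf_ev_right (i : n ⊕ n) (u : n ⊕ n → k) : Bf u (ev i) = u i.swap := by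
  rw [Bf_comm, Bf_ev_left]

lemma Bf_ev_ev (i j : n ⊕ n) : Bf (ev i : n ⊕ n → k) (ev j) = if i.swap = j then 1 else 0 := by
  rw [Bf_ev_left, ev_apply]

lemma Qf_ev (i : n ⊕ n) : Qf (ev i : n ⊕ n → k) = 0 := by
  unfold Qf
  apply Finset.sum_eq_zero
  intro a _
  cases i <;> simp [ev_apply]

/-- The standard pairs. -/
def std (i j : n ⊕ n) : (n ⊕ n → k) × (n ⊕ n → k) := (ev i, ev j)

omit [Fintype n] in
lemma linearIndependent_ev_ev {i j : n ⊕ n} (hij : i ≠ j) :
    LinearIndependent k ![(ev i : n ⊕ n → k), ev j] := by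
  rw [LinearIndependent.pair_iff]
  intro s t hst
  have h1 := congrFun hst i
  have h2 := congrFun hst j
  simp only [Pi.add_apply, Pi.smul_apply, ev_apply, smul_eq_mul, Pi.zero_apply, if_true,
    if_neg hij, if_neg hij.symm] at h1 h2
  constructor
  · simpa using h1
  · simpa using h2

omit [Fintype n] in
lemma linearIndependent_ev_add {i j l : n ⊕ n} (hij : i ≠ j) (hil : i ≠ l) (hjl : j ≠ l) (c : k) :
    LinearIndependent k ![(ev i : n ⊕ n → k), ev j + c • ev l] := by
  rw [LinearIndependent.pair_iff]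
  intro s t hst
  have h1 := congrFun hst i
  have h2 := congrFun hst j
  simp only [Pi.add_apply, Pi.smul_apply, ev_apply, smul_eq_mul, Pi.zero_apply, if_true,
    if_neg hij, if_neg hil, if_neg hij.symm, if_neg hjl] at h1 h2
  constructor
  · simpa using h1
  · simpa using h2

lemma isLine_std {i j : n ⊕ n} (h : pr i ≠ pr j) : IsLine (std i j : (n ⊕ n → k) × (n ⊕ n → k)) := by
  constructor
  · exact linearIndependent_ev_ev (ne_of_pr_ne h)
  · refine ⟨Qf_ev i, Qf_ev j, ?_⟩
    change Bf (ev i) (ev j) = 0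
    rw [Bf_ev_ev, if_neg (swap_ne_of_pr_ne h)]


omit [Fintype n] [DecidableEq n] in
lemma swap_eq_swap_iff {i j : n ⊕ n} : i.swap = j.swap ↔ i = j := by
  constructor
  · intro h
    have := congrArg Sum.swap h
    simpa using this
  · rintro rfl; rfl

omit [Fintype n] [DecidableEq n] in
lemma swap_eq_iff {i j : n ⊕ n} : i.swap = j ↔ i = j.swap := by
  constructor
  · rintro rfl; simp
  · rintro rfl; simp

/-- Reachability in the graph of singular lines. -/
def Conn (x y : (n ⊕ n → k) × (n ⊕ n → k)) : Prop := Relation.ReflTransGen LAdj x y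

lemma conn_std_swap {i j : n ⊕ n} (h : pr i ≠ pr j) :
    Conn (std i j : (n ⊕ n → k) × (n ⊕ n → k)) (std j i) := by
  have h' : pr i.swap ≠ pr j.swap := by simpa using h
  have hij := ne_of_pr_ne h
  have hji := hij.symm
  have e1 : LAdj (std i j : (n ⊕ n → k) × (n ⊕ n → k)) (std i.swap j.swap) := by
    refine ⟨isLine_std h, isLine_std h', ?_⟩
    change Bf (ev i) (ev i.swap) * Bf (ev j) (ev j.swap) -
      Bf (ev i) (ev j.swap) * Bf (ev j) (ev i.swap) ≠ 0
    simp [Bf_ev_ev, swap_eq_swap_iff, hij, hji]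
  have e2 : LAdj (std i.swap j.swap : (n ⊕ n → k) × (n ⊕ n → k)) (std j i) := by
    refine ⟨isLine_std h', isLine_std h.symm, ?_⟩
    change Bf (ev i.swap) (ev j) * Bf (ev j.swap) (ev i) -
      Bf (ev i.swap) (ev i) * Bf (ev j.swap) (ev j) ≠ 0
    simp [Bf_ev_ev, hij, hji]
  exact Relation.ReflTransGen.tail (Relation.ReflTransGen.single e1) e2

lemma conn_std_third {i j l : n ⊕ n} (hij : pr i ≠ pr j) (hil : pr i ≠ pr l) (hjl : pr j ≠ pr l) :
    Conn (std i j : (n ⊕ n → k) × (n ⊕ n → k)) (std i l) := by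
  have nij := ne_of_pr_ne hij
  have nil := ne_of_pr_ne hil
  have njl := ne_of_pr_ne hjl
  have nji := nij.symm
  have nli := nil.symm
  have nlj := njl.symm
  have sij := ne_swap_of_pr_ne hij
  have sil := ne_swap_of_pr_ne hil
  have sjl := ne_swap_of_pr_ne hjl
  have sji := ne_swap_of_pr_ne hij.symm
  have sli := ne_swap_of_pr_ne hil.symm
  have slj := ne_swap_of_pr_ne hjl.symm
  have hw : IsLine ((ev i.swap, ev j.swap + ev l.swap) : (n ⊕ n → k) × (n ⊕ n → k)) := by
    constructor
    · have := linearIndependent_ev_add (k := k) (i := i.swap) (j := j.swap) (l := l.swap)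
        (by simpa [swap_eq_swap_iff] using nij) (by simpa [swap_eq_swap_iff] using nil)
        (by simpa [swap_eq_swap_iff] using njl) 1
      simpa using this
    · refine ⟨Qf_ev _, ?_, ?_⟩
      · rw [Qf_add, Qf_ev, Qf_ev, Bf_ev_ev]
        simp [swap_eq_iff, sjl]
      · change Bf (ev i.swap) (ev j.swap + ev l.swap) = 0
        rw [Bf_add_right, Bf_ev_ev, Bf_ev_ev]
        simp [swap_eq_iff, sij, sil]
  have e1 : LAdj (std i j : (n ⊕ n → k) × (n ⊕ n → k)) (ev i.swap, ev j.swap + ev l.swap) := by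
    refine ⟨isLine_std hij, hw, ?_⟩
    change Bf (ev i) (ev i.swap) * Bf (ev j) (ev j.swap + ev l.swap) -
      Bf (ev i) (ev j.swap + ev l.swap) * Bf (ev j) (ev i.swap) ≠ 0
    simp [Bf_add_right, Bf_ev_ev, swap_eq_swap_iff, nij, nil, njl, nji, nli, nlj]
  have e2 : LAdj (std i l : (n ⊕ n → k) × (n ⊕ n → k)) (ev i.swap, ev j.swap + ev l.swap) := by
    refine ⟨isLine_std hil, hw, ?_⟩
    change Bf (ev i) (ev i.swap) * Bf (ev l) (ev j.swap + ev l.swap) -
      Bf (ev i) (ev j.swap + ev l.swap) * Bf (ev l) (ev i.swap) ≠ 0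
    simp [Bf_add_right, Bf_ev_ev, swap_eq_swap_iff, nij, nil, njl, nji, nli, nlj]
  exact Relation.ReflTransGen.tail (Relation.ReflTransGen.single e1) e2.symm


omit [DecidableEq n] in
lemma Conn.trans {x y z : (n ⊕ n → k) × (n ⊕ n → k)} (h : Conn x y) (h' : Conn y z) : Conn x z :=
  Relation.ReflTransGen.trans h h'

lemma conn_std_first {i j l : n ⊕ n} (h3 : ∀ a b : n, ∃ c, c ≠ a ∧ c ≠ b) (hij : pr i ≠ pr j)
    (hil : pr i ≠ pr l) : Conn (std i j : (n ⊕ n → k) × (n ⊕ n → k)) (std i l) := by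
  by_cases hjl : pr j = pr l
  · obtain ⟨c, hci, hcj⟩ := h3 (pr i) (pr j)
    have hm : pr (Sum.inl c : n ⊕ n) = c := rfl
    have h1 : Conn (std i j : (n ⊕ n → k) × (n ⊕ n → k)) (std i (Sum.inl c)) :=
      conn_std_third hij (by rw [hm]; exact hci.symm) (by rw [hm]; exact hcj.symm)
    have h2 : Conn (std i (Sum.inl c) : (n ⊕ n → k) × (n ⊕ n → k)) (std i l) :=
      conn_std_third (by rw [hm]; exact hci.symm) hil (by rw [hm, ← hjl]; exact hcj)
    exact h1.trans h2
  · exact conn_std_third hij hil hjl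

lemma conn_std_std {i j i' j' : n ⊕ n} (h3 : ∀ a b : n, ∃ c, c ≠ a ∧ c ≠ b) (hij : pr i ≠ pr j)
    (hij' : pr i' ≠ pr j') : Conn (std i j : (n ⊕ n → k) × (n ⊕ n → k)) (std i' j') := by
  by_cases h : pr i' = pr j
  · have hii' : pr i ≠ pr i' := by rw [h]; exact hij
    exact ((conn_std_first h3 hij hii').trans (conn_std_swap hii')).trans
      (conn_std_first h3 hii'.symm hij')
  · have h' : pr j ≠ pr i' := fun e => h e.symm
    exact (((conn_std_swap hij).trans (conn_std_first h3 hij.symm h')).trans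
      (conn_std_swap h')).trans (conn_std_first h3 h hij')

omit [DecidableEq n] in
lemma Qf_eq_of_support {p : n ⊕ n → k} {i : n ⊕ n} (hp : ∀ y, pr y ≠ pr i → p y = 0) :
    Qf p = p i * p i.swap := by
  unfold Qf
  rw [Finset.sum_eq_single (pr i)]
  · cases i with
    | inl a => rfl
    | inr a => exact mul_comm _ _
  · intro b _ hb
    rw [hp (Sum.inl b) hb, zero_mul]
  · intro h
    exact absurd (Finset.mem_univ _) h

omit [DecidableEq n] in
lemma Bf_eq_of_support {p r : n ⊕ n → k} {i : n ⊕ n} (hp : ∀ y, pr y ≠ pr i → p y = 0) :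
    Bf p r = p i * r i.swap + p i.swap * r i := by
  rw [Bf_eq_sum, Finset.sum_eq_single (pr i)]
  · cases i with
    | inl a => rfl
    | inr a => exact add_comm _ _
  · intro b _ hb
    rw [hp (Sum.inl b) hb, hp (Sum.inr b) hb, zero_mul, zero_mul, add_zero]
  · intro h
    exact absurd (Finset.mem_univ _) h

/-- Every singular line has a non-zero minor at two coordinates of different hyperbolic pairs. -/
lemma exists_good_minor {p r : n ⊕ n → k} (hl : IsLine (p, r)) :
    ∃ i j, pr i ≠ pr j ∧ p i * r j - p j * r i ≠ 0 := by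
  by_contra hcon
  push Not at hcon
  have hli : LinearIndependent k ![p, r] := hl.1
  obtain ⟨i, j, hij⟩ := exists_minor hli
  have hpr : pr i = pr j := by
    by_contra hne
    exact hij (hcon i j hne)
  have hj : j = i.swap := by
    rcases eq_or_eq_swap_of_pr_eq hpr with h | h
    · exfalso; apply hij; rw [h]; ring
    · exact h
  subst hj
  have hr0 : ∀ y, pr y ≠ pr i → r y = 0 := by
    intro y hy
    have e1 := hcon i y (Ne.symm hy)
    have e2 := hcon i.swap y (by rw [pr_swap]; exact Ne.symm hy)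
    have : (p i * r i.swap - p i.swap * r i) * r y = 0 := by
      linear_combination (r i.swap) * e1 - (r i) * e2
    rcases mul_eq_zero.mp this with h | h
    · exact absurd h hij
    · exact h
  have hp0 : ∀ y, pr y ≠ pr i → p y = 0 := by
    intro y hy
    have e1 := hcon i y (Ne.symm hy)
    have e2 := hcon i.swap y (by rw [pr_swap]; exact Ne.symm hy)
    have : (p i * r i.swap - p i.swap * r i) * p y = 0 := by
      linear_combination (p i.swap) * e1 - (p i) * e2
    rcases mul_eq_zero.mp this with h | h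
    · exact absurd h hij
    · exact h
  have hQ := hl.2.qp
  have hB := hl.2.bpr
  change Qf p = 0 at hQ
  change Bf p r = 0 at hB
  rw [Qf_eq_of_support hp0] at hQ
  rw [Bf_eq_of_support hp0] at hB
  rcases mul_eq_zero.mp hQ with h | h
  · apply hij
    rw [h] at hB ⊢
    linear_combination -hB
  · apply hij
    rw [h] at hB ⊢
    linear_combination hB

/-- Every singular line is opposite to a standard line. -/
lemma exists_std_adj {x : (n ⊕ n → k) × (n ⊕ n → k)} (hl : IsLine x) :
    ∃ i j : n ⊕ n, pr i ≠ pr j ∧ LAdj x (std i j) := by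
  obtain ⟨i, j, hij, hm⟩ := exists_good_minor (p := x.1) (r := x.2) hl
  refine ⟨i.swap, j.swap, by simpa using hij, hl, isLine_std (by simpa using hij), ?_⟩
  change Bf x.1 (ev i.swap) * Bf x.2 (ev j.swap) - Bf x.1 (ev j.swap) * Bf x.2 (ev i.swap) ≠ 0
  rw [Bf_ev_right, Bf_ev_right, Bf_ev_right, Bf_ev_right, Sum.swap_swap, Sum.swap_swap]
  exact hm

/-- The graph of singular lines is connected. -/
theorem lines_connected (h3 : ∀ a b : n, ∃ c, c ≠ a ∧ c ≠ b)
    {x y : (n ⊕ n → k) × (n ⊕ n → k)} (hx : IsLine x) (hy : IsLine y) : Conn x y := by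
  obtain ⟨i, j, hij, hxs⟩ := exists_std_adj hx
  obtain ⟨i', j', hij', hys⟩ := exists_std_adj hy
  exact ((Relation.ReflTransGen.single hxs).trans (conn_std_std h3 hij hij')).trans
    (Relation.ReflTransGen.single hys.symm)

end Conn

end Siegel

end Cfsg.Agent.Lib.Helper83
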