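/-
helper83: Siegel transvections are isometries of the hyperbolic quadratic form, they are exactly
the isometries fixing every vector of `ℓ^⊥`, and isometries conjugate them to each other.
-/
import Cfsg.Agent.Lib.Helper83.SiegelMat

set_option autoImplicit false

namespace Cfsg.Agent.Lib.Helper83

open Matrix

namespace Siegel

section Iso

variable {k : Type*} [Field k] {n : Type*} [Fintype n] [DecidableEq n]

variable {p r : n ⊕ n → k}

lemma Qf_sgE (h : SingPair p r) (c : k) (v : n ⊕ n → k) :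
    Qf (((sgE p r h c : SpecialLinearGroup (n ⊕ n) k) : Matrix (n ⊕ n) (n ⊕ n) k) *ᵥ v) = Qf v := by
  rw [sgE_mulVec]
  have e : c • (Bf v r • p - Bf v p • r) = (c * Bf v r) • p + (-(c * Bf v p)) • r := by module
  rw [e, Qf_add, h.qf_comb, Bf_add_right, Bf_smul_right, Bf_smul_right]
  ring

lemma sgE_fix (h : SingPair p r) (c : k) {v : n ⊕ n → k} (hp : Bf v p = 0) (hr : Bf v r = 0) :
    ((sgE p r h c : SpecialLinearGroup (n ⊕ n) k) : Matrix (n ⊕ n) (n ⊕ n) k) *ᵥ v = v := by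
  rw [sgE_mulVec, hp, hr]
  simp

omit [DecidableEq n] in
/-- An isometry of the quadratic form preserves its polar form. -/
lemma Bf_of_Qf {σ : Matrix (n ⊕ n) (n ⊕ n) k} (hσ : ∀ v, Qf (σ *ᵥ v) = Qf v) (u v : n ⊕ n → k) :
    Bf (σ *ᵥ u) (σ *ᵥ v) = Bf u v := by
  have h1 := hσ (u + v)
  rw [mulVec_add, Qf_add, Qf_add, hσ u, hσ v] at h1
  linear_combination h1

/-- A vector orthogonal to `⟨p, r⟩^⊥` lies in `⟨p, r⟩`. -/
lemma mem_span_of_perp_perp {u₁ u₂ : n ⊕ n → k} (h1 : Bf u₁ p = 1) (h2 : Bf u₁ r = 0)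
    (h3 : Bf u₂ p = 0) (h4 : Bf u₂ r = 1) {d : n ⊕ n → k}
    (hd : ∀ w, Bf w p = 0 → Bf w r = 0 → Bf d w = 0) : d = Bf d u₁ • p + Bf d u₂ • r := by
  rw [← sub_eq_zero]
  apply eq_zero_of_Bf_eq_zero
  intro v
  have hw := hd (v - Bf v p • u₁ - Bf v r • u₂)
    (by simp only [Bf_sub_left, Bf_smul_left, h1, h3]; ring)
    (by simp only [Bf_sub_left, Bf_smul_left, h2, h4]; ring)
  simp only [Bf_sub_right, Bf_smul_right] at hw
  simp only [Bf_sub_left, Bf_add_left, Bf_smul_left, Bf_comm p v, Bf_comm r v]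
  have e1 : Bf p u₁ = 1 := by rw [Bf_comm]; exact h1
  have e2 : Bf r u₁ = 0 := by rw [Bf_comm]; exact h2
  have e3 : Bf p u₂ = 0 := by rw [Bf_comm]; exact h3
  have e4 : Bf r u₂ = 1 := by rw [Bf_comm]; exact h4
  linear_combination hw

/-- An isometry fixing every vector of `⟨p, r⟩^⊥` is a Siegel transvection. -/
lemma exists_of_fixes_perp (hli : LinearIndependent k ![p, r]) (h : SingPair p r)
    (σ : Matrix (n ⊕ n) (n ⊕ n) k) (hσ : ∀ v, Qf (σ *ᵥ v) = Qf v)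
    (hfix : ∀ v, Bf v p = 0 → Bf v r = 0 → σ *ᵥ v = v) : ∃ c : k, σ = 1 + c • sgN p r := by
  obtain ⟨u₁, u₂, h1, h2, h3, h4⟩ := exists_dual hli
  have hB := Bf_of_Qf hσ
  -- the displacement of any vector is orthogonal to `ℓ^⊥`
  have hperp : ∀ u w, Bf w p = 0 → Bf w r = 0 → Bf (σ *ᵥ u - u) w = 0 := by
    intro u w hwp hwr
    have := hB u w
    rw [hfix w hwp hwr] at this
    rw [Bf_sub_left, this, sub_self]
  have hd1 := mem_span_of_perp_perp h1 h2 h3 h4 (hperp u₁)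
  have hd2 := mem_span_of_perp_perp h1 h2 h3 h4 (hperp u₂)
  obtain ⟨a₁, ha₁⟩ : ∃ a, a = Bf (σ *ᵥ u₁ - u₁) u₁ := ⟨_, rfl⟩
  obtain ⟨b₁, hb₁⟩ : ∃ a, a = Bf (σ *ᵥ u₁ - u₁) u₂ := ⟨_, rfl⟩
  obtain ⟨a₂, ha₂⟩ : ∃ a, a = Bf (σ *ᵥ u₂ - u₂) u₁ := ⟨_, rfl⟩
  obtain ⟨b₂, hb₂⟩ : ∃ a, a = Bf (σ *ᵥ u₂ - u₂) u₂ := ⟨_, rfl⟩
  rw [← ha₁, ← hb₁] at hd1
  rw [← ha₂, ← hb₂] at hd2
  -- the action of `σ`
  have hact : ∀ v, σ *ᵥ v = v + Bf v p • (a₁ • p + b₁ • r) + Bf v r • (a₂ • p + b₂ • r) := by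
    intro v
    have hw := hfix (v - Bf v p • u₁ - Bf v r • u₂)
      (by simp only [Bf_sub_left, Bf_smul_left, h1, h3]; ring)
      (by simp only [Bf_sub_left, Bf_smul_left, h2, h4]; ring)
    rw [mulVec_sub, mulVec_sub, mulVec_smul, mulVec_smul] at hw
    rw [← hd1, ← hd2]
    have : σ *ᵥ v = v + Bf v p • (σ *ᵥ u₁ - u₁) + Bf v r • (σ *ᵥ u₂ - u₂) +
        (σ *ᵥ v - Bf v p • σ *ᵥ u₁ - Bf v r • σ *ᵥ u₂ - (v - Bf v p • u₁ - Bf v r • u₂)) := by
      module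
    rw [this, hw, sub_self, add_zero]
  -- the isometry condition
  have hiso : ∀ v, Bf v p * (a₁ * Bf v p + b₁ * Bf v r) + Bf v r * (a₂ * Bf v p + b₂ * Bf v r) = 0 := by
    intro v
    have := hσ v
    rw [hact v] at this
    have e : v + Bf v p • (a₁ • p + b₁ • r) + Bf v r • (a₂ • p + b₂ • r) =
        v + ((Bf v p * a₁ + Bf v r * a₂) • p + (Bf v p * b₁ + Bf v r * b₂) • r) := by module
    rw [e, Qf_add, h.qf_comb, Bf_add_right, Bf_smul_right, Bf_smul_right] at this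
    linear_combination this
  have e1 := hiso u₁
  have e2 := hiso u₂
  have e3 := hiso (u₁ + u₂)
  simp only [Bf_add_left, h1, h2, h3, h4] at e1 e2 e3
  have ha₁0 : a₁ = 0 := by linear_combination e1
  have hb₂0 : b₂ = 0 := by linear_combination e2
  have hb₁ : b₁ = -a₂ := by linear_combination e3 - e1 - e2
  refine ⟨a₂, ?_⟩
  apply mat_ext
  intro v
  rw [hact v, add_mulVec, one_mulVec, smul_mulVec, sgN_mulVec, ha₁0, hb₂0, hb₁]
  module

/-- Conjugating `N(p, r)` by an isometry. -/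
lemma conj_sgN {g ginv : Matrix (n ⊕ n) (n ⊕ n) k} (hg : g * ginv = 1)
    (hB : ∀ u v, Bf (g *ᵥ u) (g *ᵥ v) = Bf u v) (p r : n ⊕ n → k) :
    g * sgN p r * ginv = sgN (g *ᵥ p) (g *ᵥ r) := by
  have key : g * sgN p r = sgN (g *ᵥ p) (g *ᵥ r) * g := by
    apply mat_ext
    intro v
    simp only [← mulVec_mulVec, sgN_mulVec, hB, mulVec_sub, mulVec_smul]
  rw [key, Matrix.mul_assoc, hg, Matrix.mul_one]

omit [DecidableEq n] in
lemma singPair_of_isometry {g : Matrix (n ⊕ n) (n ⊕ n) k} (hQ : ∀ v, Qf (g *ᵥ v) = Qf v)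
    (h : SingPair p r) : SingPair (g *ᵥ p) (g *ᵥ r) :=
  ⟨(hQ p).trans h.qp, (hQ r).trans h.qr, (Bf_of_Qf hQ p r).trans h.bpr⟩

lemma linearIndependent_of_invertible {g ginv : Matrix (n ⊕ n) (n ⊕ n) k} (hg : ginv * g = 1)
    (hli : LinearIndependent k ![p, r]) : LinearIndependent k ![g *ᵥ p, g *ᵥ r] := by
  rw [LinearIndependent.pair_iff] at hli ⊢
  intro s t hst
  apply hli s t
  have := congrArg (fun x => ginv *ᵥ x) hst
  simp only [mulVec_add, mulVec_smul, mulVec_mulVec, hg, one_mulVec, mulVec_zero] at this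
  exact this

end Iso

end Siegel

end Cfsg.Agent.Lib.Helper83
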