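/-
helper83: pairs of Siegel transvection subgroups of `SL(n ⊕ n, k)`: they commute, form a rank one
pair (image of the unitriangular subgroups of `SL₂(k)` under an injective homomorphism), or are in
the commutator case, according to the Gram matrix of the two singular lines.
-/
import Cfsg.Agent.Lib.Helper83.SiegelMat
import Cfsg.Agent.Lib.Helper83.Pullback

set_option autoImplicit false

namespace Cfsg.Agent.Lib.Helper83

open Matrix

section Embed2

variable {k : Type*} [Field k] {ι κ : Type*} [Fintype ι] [DecidableEq ι] [Fintype κ] [DecidableEq κ]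

lemma coe_embedSL_mul_embedSL (X₁ X₂ : Matrix ι κ k) (Y₁ Y₂ : Matrix κ ι k) (h1 : Y₁ * X₁ = 1)
    (h2 : Y₂ * X₂ = 1) (h12 : Y₁ * X₂ = 0) (g h : SpecialLinearGroup κ k) :
    ((embedSL X₁ Y₁ h1 g * embedSL X₂ Y₂ h2 h : SpecialLinearGroup ι k) : Matrix ι ι k) =
      1 + X₁ * ((g : Matrix κ κ k) - 1) * Y₁ + X₂ * ((h : Matrix κ κ k) - 1) * Y₂ := by
  change (1 + X₁ * ((g : Matrix κ κ k) - 1) * Y₁) * (1 + X₂ * ((h : Matrix κ κ k) - 1) * Y₂) = _
  have e : X₁ * ((g : Matrix κ κ k) - 1) * Y₁ * (X₂ * ((h : Matrix κ κ k) - 1) * Y₂) = 0 := by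
    simp only [Matrix.mul_assoc]
    rw [← Matrix.mul_assoc Y₁ X₂, h12]
    simp
  rw [mul_add, mul_one, add_mul, one_mul, e, add_zero]

lemma embedSL_commute (X₁ X₂ : Matrix ι κ k) (Y₁ Y₂ : Matrix κ ι k) (h1 : Y₁ * X₁ = 1)
    (h2 : Y₂ * X₂ = 1) (h12 : Y₁ * X₂ = 0) (h21 : Y₂ * X₁ = 0) (g h : SpecialLinearGroup κ k) :
    Commute (embedSL X₁ Y₁ h1 g) (embedSL X₂ Y₂ h2 h) := by
  apply Subtype.ext
  rw [coe_embedSL_mul_embedSL X₁ X₂ Y₁ Y₂ h1 h2 h12, coe_embedSL_mul_embedSL X₂ X₁ Y₂ Y₁ h2 h1 h21]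
  abel

/-- The pointwise product of two homomorphisms with commuting ranges. -/
def prodHom {G H : Type*} [Group G] [Group H] (f g : G →* H) (hc : ∀ x y, Commute (f x) (g y)) :
    G →* H where
  toFun x := f x * g x
  map_one' := by simp
  map_mul' x y := by
    rw [map_mul, map_mul, mul_assoc, ← mul_assoc (f y), (hc y x).eq, mul_assoc, mul_assoc]

lemma prodHom_apply {G H : Type*} [Group G] [Group H] (f g : G →* H)
    (hc : ∀ x y, Commute (f x) (g y)) (x : G) : prodHom f g hc x = f x * g x := rfl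

lemma embedSL_prod_injective (X₁ X₂ : Matrix ι κ k) (Y₁ Y₂ : Matrix κ ι k) (h1 : Y₁ * X₁ = 1)
    (h2 : Y₂ * X₂ = 1) (h12 : Y₁ * X₂ = 0) (h21 : Y₂ * X₁ = 0) :
    Function.Injective (prodHom (embedSL X₁ Y₁ h1) (embedSL X₂ Y₂ h2)
      (embedSL_commute X₁ X₂ Y₁ Y₂ h1 h2 h12 h21)) := by
  rw [injective_iff_map_eq_one]
  intro g hg
  have hc : ((prodHom (embedSL X₁ Y₁ h1) (embedSL X₂ Y₂ h2)
      (embedSL_commute X₁ X₂ Y₁ Y₂ h1 h2 h12 h21) g : SpecialLinearGroup ι k) : Matrix ι ι k) = 1 := by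
    rw [hg]; rfl
  rw [prodHom_apply, coe_embedSL_mul_embedSL X₁ X₂ Y₁ Y₂ h1 h2 h12] at hc
  have h3 : Y₁ * (1 + X₁ * ((g : Matrix κ κ k) - 1) * Y₁ + X₂ * ((g : Matrix κ κ k) - 1) * Y₂) * X₁ =
      (g : Matrix κ κ k) := by
    simp only [Matrix.mul_add, Matrix.add_mul, Matrix.mul_one, Matrix.mul_assoc, h1, h21,
      Matrix.mul_zero, add_zero]
    rw [← Matrix.mul_assoc Y₁ X₁, h1, Matrix.one_mul]
    abel
  rw [hc, Matrix.mul_one, h1] at h3
  exact Subtype.ext h3.symm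

omit [Fintype ι] [DecidableEq ι] [Fintype κ] [DecidableEq κ] in
lemma rowPair_mul_colPair_zero {ι : Type*} [Fintype ι] (v w ψ φ : ι → k) (h11 : ψ ⬝ᵥ v = 0)
    (h12 : ψ ⬝ᵥ w = 0) (h21 : φ ⬝ᵥ v = 0) (h22 : φ ⬝ᵥ w = 0) :
    rowPair ψ φ * colPair v w = 0 := by
  ext a b
  fin_cases a <;> fin_cases b <;>
    simp [rowPair, colPair, Matrix.mul_apply, dotProduct] at * <;> assumption

end Embed2

section SL2

variable {k : Type*} [Field k] {H : Type*} [Group H]

/-- The images of the two unitriangular subgroups under an injective homomorphism from `SL₂(k)`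
form a rank one pair and a `PSL₂`-pair. -/
lemma rankOne_of_sl2_injective (Φ : SpecialLinearGroup (Fin 2) k →* H)
    (hinj : Function.Injective Φ) {A B : Subgroup H}
    (hU : (Cfsg.upperUnipotentSL2 k).map Φ = A) (hL : (Cfsg.lowerUnipotentSL2 k).map Φ = B) :
    Cfsg.IsRankOnePair A B ∧ Cfsg.IsPSL2PairOver k A B := by
  constructor
  · have hne : (Cfsg.lowerUnipotentSL2 k).map Φ ≠ (Cfsg.upperUnipotentSL2 k).map Φ := by
      intro heq
      exact Cfsg.Agent.S5016.lower_ne_upper (Subgroup.map_injective hinj heq)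
    have := Cfsg.Agent.S5035.map_rankOnePair Φ (Cfsg.Agent.S5016.rankOnePair (k := k)) hne
    rw [hU, hL] at this
    exact Cfsg.RankOnePair_symm this
  · refine ⟨Φ, ?_, ?_, hU, hL⟩
    · rw [MonoidHom.range_eq_map, ← Cfsg.Agent.S5016.sup_eq_top, Subgroup.map_sup, hU, hL, sup_comm]
    · rw [(MonoidHom.ker_eq_bot_iff _).mpr hinj]
      exact bot_le

end SL2

namespace Siegel

section Pair

variable {k : Type*} [Field k] {n : Type*} [Fintype n] [DecidableEq n]

variable {p r p' r' : n ⊕ n → k}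

lemma sgE_commute (h : SingPair p r) (h' : SingPair p' r')
    (hN : sgN p r * sgN p' r' = sgN p' r' * sgN p r) (s t : k) :
    sgE p r h s * sgE p' r' h' t = sgE p' r' h' t * sgE p r h s := by
  apply Subtype.ext
  change ((sgE p r h s : SpecialLinearGroup (n ⊕ n) k) : Matrix (n ⊕ n) (n ⊕ n) k) *
      ((sgE p' r' h' t : SpecialLinearGroup (n ⊕ n) k) : Matrix (n ⊕ n) (n ⊕ n) k) =
    ((sgE p' r' h' t : SpecialLinearGroup (n ⊕ n) k) : Matrix (n ⊕ n) (n ⊕ n) k) *
      ((sgE p r h s : SpecialLinearGroup (n ⊕ n) k) : Matrix (n ⊕ n) (n ⊕ n) k)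
  rw [coe_sgE, coe_sgE]
  simp only [add_mul, mul_add, one_mul, mul_one, Matrix.smul_mul, Matrix.mul_smul, hN]
  module

lemma sgSub_commute (h : SingPair p r) (h' : SingPair p' r')
    (hN : sgN p r * sgN p' r' = sgN p' r' * sgN p r) : ⁅sgSub p r, sgSub p' r'⁆ = ⊥ := by
  apply commutator_eq_bot_of_forall_mul_comm
  intro x hx y hy
  obtain ⟨s, rfl⟩ := (mem_sgSub h).mp hx
  obtain ⟨t, rfl⟩ := (mem_sgSub h').mp hy
  exact sgE_commute h h' hN s t

lemma sgSub_isMulCommutative (h : SingPair p r) : IsMulCommutative (sgSub p r) := by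
  rw [← Subgroup.commutator_self_eq_bot_iff]
  exact sgSub_commute h h rfl

omit [DecidableEq n] in
lemma sgN_mul_eq_zero (h11 : Bf p p' = 0) (h12 : Bf p r' = 0) (h21 : Bf r p' = 0)
    (h22 : Bf r r' = 0) : sgN p r * sgN p' r' = 0 := by
  apply mat_ext
  intro v
  simp only [← mulVec_mulVec, sgN_mulVec, Bf_sub_left, Bf_smul_left, Bf_comm p' p, Bf_comm p' r,
    Bf_comm r' p, Bf_comm r' r, h11, h12, h21, h22, zero_mulVec]
  module

/-- Gram matrix zero: the two groups commute. -/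
lemma sgSub_commute_of_gram_zero (h : SingPair p r) (h' : SingPair p' r') (h11 : Bf p p' = 0)
    (h12 : Bf p r' = 0) (h21 : Bf r p' = 0) (h22 : Bf r r' = 0) : ⁅sgSub p r, sgSub p' r'⁆ = ⊥ := by
  apply sgSub_commute h h'
  rw [sgN_mul_eq_zero h11 h12 h21 h22, sgN_mul_eq_zero (p := p') (r := r') (p' := p) (r' := r)
    (by rw [Bf_comm]; exact h11) (by rw [Bf_comm]; exact h21) (by rw [Bf_comm]; exact h12)
    (by rw [Bf_comm]; exact h22)]

/-- Two singular lines meeting in a point, with Gram matrix of rank one: the groups commute. -/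
lemma sgSub_commute_of_common_point (h : SingPair p r) {a : k} (h' : SingPair (a • p) r')
    (h12 : Bf p r' = 0) : ⁅sgSub p r, sgSub (a • p) r'⁆ = ⊥ := by
  apply sgSub_commute h h'
  apply mat_ext
  intro v
  simp only [← mulVec_mulVec, sgN_mulVec, Bf_sub_left, Bf_smul_left, Bf_smul_right, h.bpp,
    h.bpr, h.brp, Bf_comm r' p, Bf_comm r' r, h12]
  module

/-- The commutator formula in the commutator case (Gram matrix `[[0, 0], [0, 1]]`). -/
lemma sgE_commutator (h : SingPair p r) (h' : SingPair p' r') (h'' : SingPair p p')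
    (h12 : Bf p r' = 0) (h21 : Bf r p' = 0) (h22 : Bf r r' = 1) (s t : k) :
    sgE p r h s * sgE p' r' h' t * (sgE p r h s)⁻¹ * (sgE p' r' h' t)⁻¹ =
      sgE p p' h'' (-(s * t)) := by
  have key : sgE p r h s * sgE p' r' h' t =
      sgE p p' h'' (-(s * t)) * sgE p' r' h' t * sgE p r h s := by
    apply Subtype.ext
    change ((sgE p r h s : SpecialLinearGroup (n ⊕ n) k) : Matrix (n ⊕ n) (n ⊕ n) k) *
        ((sgE p' r' h' t : SpecialLinearGroup (n ⊕ n) k) : Matrix (n ⊕ n) (n ⊕ n) k) =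
      ((sgE p p' h'' (-(s * t)) : SpecialLinearGroup (n ⊕ n) k) : Matrix (n ⊕ n) (n ⊕ n) k) *
        ((sgE p' r' h' t : SpecialLinearGroup (n ⊕ n) k) : Matrix (n ⊕ n) (n ⊕ n) k) *
        ((sgE p r h s : SpecialLinearGroup (n ⊕ n) k) : Matrix (n ⊕ n) (n ⊕ n) k)
    apply mat_ext
    intro v
    simp only [← mulVec_mulVec, sgE_mulVec, Bf_add_left, Bf_sub_left, Bf_smul_left, h.bpp,
      h.brp, h'.bpp, h'.brp, h''.bpr, h''.brp, h12, h21, h22,
      Bf_comm r' p, Bf_comm p' r, Bf_comm r' r]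
    module
  rw [key]
  group


/-- The set of all Siegel transvection subgroups. -/
def SS (k : Type*) [Field k] (n : Type*) [Fintype n] [DecidableEq n] :
    Set (Subgroup (SpecialLinearGroup (n ⊕ n) k)) :=
  {A | ∃ p r : n ⊕ n → k, LinearIndependent k ![p, r] ∧ SingPair p r ∧ A = sgSub p r}

lemma sgSub_mem_SS (hli : LinearIndependent k ![p, r]) (h : SingPair p r) : sgSub p r ∈ SS k n :=
  ⟨p, r, hli, h, rfl⟩

lemma commutator_sgSub (h : SingPair p r) (h' : SingPair p' r') (h'' : SingPair p p')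
    (h12 : Bf p r' = 0) (h21 : Bf r p' = 0) (h22 : Bf r r' = 1) :
    ⁅sgSub p r, sgSub p' r'⁆ = sgSub p p' := by
  apply le_antisymm
  · rw [Subgroup.commutator_le]
    intro x hx y hy
    obtain ⟨s, rfl⟩ := (mem_sgSub h).mp hx
    obtain ⟨t, rfl⟩ := (mem_sgSub h').mp hy
    rw [commutatorElement_def, sgE_commutator h h' h'' h12 h21 h22]
    exact sgE_mem _ _ _ _
  · intro x hx
    obtain ⟨c, rfl⟩ := (mem_sgSub h'').mp hx
    have := Subgroup.commutator_mem_commutator (sgE_mem p r h 1) (sgE_mem p' r' h' (-c))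
    rw [commutatorElement_def, sgE_commutator h h' h'' h12 h21 h22] at this
    have e : -(1 * -c) = c := by ring
    rwa [e] at this

/-- The commutator case (Gram matrix `[[0, 0], [0, 1]]`, the two radicals independent). -/
lemma commCase_sgSub (hli : LinearIndependent k ![p, p']) (h : SingPair p r) (h' : SingPair p' r')
    (h11 : Bf p p' = 0) (h12 : Bf p r' = 0) (h21 : Bf r p' = 0) (h22 : Bf r r' = 1) :
    Cfsg.RootCommutatorCase (SS k n) (sgSub p r) (sgSub p' r') := by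
  have h'' : SingPair p p' := ⟨h.qp, h'.qp, h11⟩
  have hcomm := commutator_sgSub h h' h'' h12 h21 h22
  refine ⟨?_, ?_, ?_, ?_⟩
  · rw [hcomm]; exact sgSub_mem_SS hli h''
  · rw [hcomm]
    intro c hc x hx
    obtain ⟨c, rfl⟩ := (mem_sgSub h'').mp hc
    have hle : sgSub p r ⊔ sgSub p' r' ≤
        Subgroup.centralizer ({sgE p p' h'' c} : Set (SpecialLinearGroup (n ⊕ n) k)) := by
      refine sup_le ?_ ?_
      · intro y hy
        obtain ⟨a, rfl⟩ := (mem_sgSub h).mp hy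
        rw [Subgroup.mem_centralizer_singleton_iff]
        apply sgE_commute h h''
        rw [sgN_mul_eq_zero h.bpp h11 h.brp h21, sgN_mul_eq_zero h.bpp h.bpr
          (by rw [Bf_comm]; exact h11) (by rw [Bf_comm]; exact h21)]
      · intro y hy
        obtain ⟨b, rfl⟩ := (mem_sgSub h').mp hy
        rw [Subgroup.mem_centralizer_singleton_iff]
        apply sgE_commute h' h''
        rw [sgN_mul_eq_zero (by rw [Bf_comm]; exact h11) h'.bpp (by rw [Bf_comm]; exact h12) h'.brp,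
          sgN_mul_eq_zero h11 h12 h'.bpp h'.bpr]
    have := hle hx
    rw [Subgroup.mem_centralizer_singleton_iff] at this
    exact this.symm
  · intro x hx ha1
    obtain ⟨a, rfl⟩ := (mem_sgSub h).mp hx
    have ha : a ≠ 0 := fun h0 => ha1 (by rw [h0, sgE_zero])
    rw [hcomm]
    have hset : (fun b : SpecialLinearGroup (n ⊕ n) k => sgE p r h a * b * (sgE p r h a)⁻¹ * b⁻¹) ''
        ((sgSub p' r' : Subgroup (SpecialLinearGroup (n ⊕ n) k)) :
          Set (SpecialLinearGroup (n ⊕ n) k)) =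
        ((sgSub p p' : Subgroup (SpecialLinearGroup (n ⊕ n) k)) :
          Set (SpecialLinearGroup (n ⊕ n) k)) := by
      ext x
      constructor
      · rintro ⟨y, hy, rfl⟩
        obtain ⟨b, rfl⟩ := (mem_sgSub h').mp hy
        dsimp only
        rw [sgE_commutator h h' h'' h12 h21 h22]
        exact sgE_mem _ _ _ _
      · intro hx
        obtain ⟨c, rfl⟩ := (mem_sgSub h'').mp hx
        refine ⟨sgE p' r' h' (-(c / a)), sgE_mem _ _ _ _, ?_⟩
        dsimp only
        rw [sgE_commutator h h' h'' h12 h21 h22]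
        congr 1
        field_simp
    rw [hset, Subgroup.closure_eq]
  · intro y hy hb1
    obtain ⟨b, rfl⟩ := (mem_sgSub h').mp hy
    have hb : b ≠ 0 := fun h0 => hb1 (by rw [h0, sgE_zero])
    rw [hcomm]
    have hset : (fun a : SpecialLinearGroup (n ⊕ n) k =>
          a * sgE p' r' h' b * a⁻¹ * (sgE p' r' h' b)⁻¹) ''
        ((sgSub p r : Subgroup (SpecialLinearGroup (n ⊕ n) k)) :
          Set (SpecialLinearGroup (n ⊕ n) k)) =
        ((sgSub p p' : Subgroup (SpecialLinearGroup (n ⊕ n) k)) :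
          Set (SpecialLinearGroup (n ⊕ n) k)) := by
      ext x
      constructor
      · rintro ⟨y, hy, rfl⟩
        obtain ⟨a, rfl⟩ := (mem_sgSub h).mp hy
        dsimp only
        rw [sgE_commutator h h' h'' h12 h21 h22]
        exact sgE_mem _ _ _ _
      · intro hx
        obtain ⟨c, rfl⟩ := (mem_sgSub h'').mp hx
        refine ⟨sgE p r h (-(c / b)), sgE_mem _ _ _ _, ?_⟩
        dsimp only
        rw [sgE_commutator h h' h'' h12 h21 h22]
        congr 1
        field_simp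
    rw [hset, Subgroup.closure_eq]


/-- The rank one case in normal form (Gram matrix `[[0, -1], [1, 0]]`). -/
lemma rankOne_normal (h : SingPair p r) (h' : SingPair p' r') (h11 : Bf p p' = 0)
    (h12 : Bf p r' = -1) (h21 : Bf r p' = 1) (h22 : Bf r r' = 0) :
    Cfsg.IsRankOnePair (sgSub p r) (sgSub p' r') ∧
      Cfsg.IsPSL2PairOver k (sgSub p r) (sgSub p' r') := by
  have a11 : sw (-r') ⬝ᵥ p = 1 := by rw [sw_dot, Bf_neg_right, h12, neg_neg]
  have a12 : sw (-r') ⬝ᵥ p' = 0 := by rw [sw_dot, Bf_neg_right, h'.bpr, neg_zero]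
  have a21 : sw r ⬝ᵥ p = 0 := by rw [sw_dot, h.bpr]
  have a22 : sw r ⬝ᵥ p' = 1 := by rw [sw_dot, Bf_comm, h21]
  have b11 : sw p' ⬝ᵥ r = 1 := by rw [sw_dot, h21]
  have b12 : sw p' ⬝ᵥ r' = 0 := by rw [sw_dot, h'.brp]
  have b21 : sw (-p) ⬝ᵥ r = 0 := by rw [sw_dot, Bf_neg_right, h.brp, neg_zero]
  have b22 : sw (-p) ⬝ᵥ r' = 1 := by rw [sw_dot, Bf_neg_right, Bf_comm, h12, neg_neg]
  have c12 : rowPair (sw (-r')) (sw r) * colPair r r' = 0 := by
    apply rowPair_mul_colPair_zero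
    · rw [sw_dot, Bf_neg_right, h22, neg_zero]
    · rw [sw_dot, Bf_neg_right, h'.brr, neg_zero]
    · rw [sw_dot, h.brr]
    · rw [sw_dot, Bf_comm, h22]
  have c21 : rowPair (sw p') (sw (-p)) * colPair p p' = 0 := by
    apply rowPair_mul_colPair_zero
    · rw [sw_dot, h11]
    · rw [sw_dot, h'.bpp]
    · rw [sw_dot, Bf_neg_right, h.bpp, neg_zero]
    · rw [sw_dot, Bf_neg_right, Bf_comm, h11, neg_zero]
  have hc := embedSL_commute (colPair p p') (colPair r r') (rowPair (sw (-r')) (sw r))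
    (rowPair (sw p') (sw (-p))) (rowPair_mul_colPair p p' _ _ a11 a12 a21 a22)
    (rowPair_mul_colPair r r' _ _ b11 b12 b21 b22) c12 c21
  have hinj := embedSL_prod_injective (colPair p p') (colPair r r') (rowPair (sw (-r')) (sw r))
    (rowPair (sw p') (sw (-p))) (rowPair_mul_colPair p p' _ _ a11 a12 a21 a22)
    (rowPair_mul_colPair r r' _ _ b11 b12 b21 b22) c12 c21
  obtain ⟨Φ, hΦ⟩ : ∃ Φ : SpecialLinearGroup (Fin 2) k →* SpecialLinearGroup (n ⊕ n) k, Φ =
      prodHom (sl2Hom p p' (sw (-r')) (sw r) a11 a12 a21 a22)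
        (sl2Hom r r' (sw p') (sw (-p)) b11 b12 b21 b22) hc := ⟨_, rfl⟩
  have hΦinj : Function.Injective Φ := by rw [hΦ]; exact hinj
  have hU : ∀ t : k, Φ (Cfsg.Agent.S5016.U t) = sgE p r h t := by
    intro t
    rw [hΦ]
    change sl2Hom p p' (sw (-r')) (sw r) a11 a12 a21 a22 (Cfsg.Agent.S5016.U t) *
      sl2Hom r r' (sw p') (sw (-p)) b11 b12 b21 b22 (Cfsg.Agent.S5016.U t) = _
    rw [sl2Hom_U, sl2Hom_U]
    apply Subtype.ext
    rw [coe_sgE, coe_tvE_mul_tvE, sw_dot, h.brr]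
    unfold sgN
    simp only [sw_neg, vecMulVec_neg, mul_zero, zero_smul, smul_neg, smul_sub]
    abel
  have hL : ∀ t : k, Φ (Cfsg.Agent.S5016.L t) = sgE p' r' h' (-t) := by
    intro t
    rw [hΦ]
    change sl2Hom p p' (sw (-r')) (sw r) a11 a12 a21 a22 (Cfsg.Agent.S5016.L t) *
      sl2Hom r r' (sw p') (sw (-p)) b11 b12 b21 b22 (Cfsg.Agent.S5016.L t) = _
    rw [sl2Hom_L, sl2Hom_L]
    apply Subtype.ext
    rw [coe_sgE, coe_tvE_mul_tvE, sw_dot, Bf_neg_right, h'.brr]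
    unfold sgN
    simp only [sw_neg, vecMulVec_neg, mul_zero, zero_smul, add_zero, smul_neg, smul_sub, neg_zero,
      neg_smul]
    abel
  apply rankOne_of_sl2_injective Φ hΦinj
  · ext s
    rw [Subgroup.mem_map, mem_sgSub h]
    constructor
    · rintro ⟨g, hg, rfl⟩
      obtain ⟨t, rfl⟩ := Cfsg.Agent.S5016.mem_upper_iff.mp hg
      exact ⟨t, hU t⟩
    · rintro ⟨t, rfl⟩
      exact ⟨_, Cfsg.Agent.S5016.U_mem t, hU t⟩
  · ext s
    rw [Subgroup.mem_map, mem_sgSub h']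
    constructor
    · rintro ⟨g, hg, rfl⟩
      obtain ⟨t, rfl⟩ := Cfsg.Agent.S5016.mem_lower_iff.mp hg
      exact ⟨-t, hL t⟩
    · rintro ⟨t, rfl⟩
      refine ⟨_, Cfsg.Agent.S5016.L_mem (-t), ?_⟩
      rw [hL, neg_neg]


/-- Opposite singular lines (non-degenerate Gram matrix) give a rank one pair. -/
lemma rankOne_of_det (h : SingPair p r) (h' : SingPair p' r')
    (hΔ : Bf p p' * Bf r r' - Bf p r' * Bf r p' ≠ 0) :
    Cfsg.IsRankOnePair (sgSub p r) (sgSub p' r') ∧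
      Cfsg.IsPSL2PairOver k (sgSub p r) (sgSub p' r') := by
  obtain ⟨Δ, hΔdef⟩ : ∃ Δ, Δ = Bf p p' * Bf r r' - Bf p r' * Bf r p' := ⟨_, rfl⟩
  have hΔ0 : Δ ≠ 0 := by rw [hΔdef]; exact hΔ
  have hdet : (-Bf p r' / Δ) * (Bf r p' / Δ) - (Bf p p' / Δ) * (-Bf r r' / Δ) ≠ 0 := by
    have e : (-Bf p r' / Δ) * (Bf r p' / Δ) - (Bf p p' / Δ) * (-Bf r r' / Δ) = 1 / Δ := by
      field_simp
      rw [hΔdef]; ring
    rw [e]
    exact one_div_ne_zero hΔ0
  rw [← sgSub_comb p' r' hdet]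
  apply rankOne_normal h (h'.comb _ _ _ _)
  · simp only [Bf_add_right, Bf_smul_right]
    field_simp
    ring
  · simp only [Bf_add_right, Bf_smul_right]
    field_simp
    rw [hΔdef]; ring
  · simp only [Bf_add_right, Bf_smul_right]
    field_simp
    rw [hΔdef]; ring
  · simp only [Bf_add_right, Bf_smul_right]
    field_simp
    ring

omit [DecidableEq n] in
/-- Normal form for a Gram matrix of rank one, assuming `B(r, r') ≠ 0`. -/
lemma exists_normal_form_aux
    (hli : LinearIndependent k ![p, r]) (hli' : LinearIndependent k ![p', r'])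
    (hdet : Bf p p' * Bf r r' - Bf p r' * Bf r p' = 0) (h22 : Bf r r' ≠ 0) :
    ∃ (a b c d a' b' c' d' : k), a * d - b * c ≠ 0 ∧ a' * d' - b' * c' ≠ 0 ∧
      a • p + b • r ≠ 0 ∧ a' • p' + b' • r' ≠ 0 ∧
      Bf (a • p + b • r) (a' • p' + b' • r') = 0 ∧ Bf (a • p + b • r) (c' • p' + d' • r') = 0 ∧
      Bf (c • p + d • r) (a' • p' + b' • r') = 0 ∧ Bf (c • p + d • r) (c' • p' + d' • r') = 1 := by
  refine ⟨Bf r r', -Bf p r', 0, 1, Bf r r', -Bf r p', 0, (Bf r r')⁻¹, ?_, ?_, ?_, ?_, ?_, ?_, ?_, ?_⟩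
  · simpa using h22
  · simp [h22]
  · intro h0
    rw [LinearIndependent.pair_iff] at hli
    exact h22 (hli _ _ h0).1
  · intro h0
    rw [LinearIndependent.pair_iff] at hli'
    exact h22 (hli' _ _ h0).1
  · simp only [Bf_add_right, Bf_smul_right, Bf_add_left, Bf_smul_left]
    linear_combination (Bf r r') * hdet
  · simp only [Bf_add_right, Bf_smul_right, Bf_add_left, Bf_smul_left]
    ring
  · simp only [Bf_add_right, Bf_smul_right, Bf_add_left, Bf_smul_left]
    ring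
  · simp only [Bf_add_right, Bf_smul_right, Bf_add_left, Bf_smul_left]
    field_simp
    ring


lemma exists_normal_form_of_ne (h : SingPair p r) (h' : SingPair p' r')
    (hli : LinearIndependent k ![p, r]) (hli' : LinearIndependent k ![p', r'])
    (hdet : Bf p p' * Bf r r' - Bf p r' * Bf r p' = 0) (h22 : Bf r r' ≠ 0) :
    ∃ p₀ r₀ p₀' r₀' : n ⊕ n → k, SingPair p₀ r₀ ∧ SingPair p₀' r₀' ∧ sgSub p₀ r₀ = sgSub p r ∧
      sgSub p₀' r₀' = sgSub p' r' ∧ p₀ ≠ 0 ∧ p₀' ≠ 0 ∧ Bf p₀ p₀' = 0 ∧ Bf p₀ r₀' = 0 ∧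
      Bf r₀ p₀' = 0 ∧ Bf r₀ r₀' = 1 := by
  obtain ⟨a, b, c, d, a', b', c', d', hd, hd', hp0, hp0', g11, g12, g21, g22⟩ :=
    exists_normal_form_aux hli hli' hdet h22
  exact ⟨_, _, _, _, h.comb a b c d, h'.comb a' b' c' d', sgSub_comb p r hd, sgSub_comb p' r' hd',
    hp0, hp0', g11, g12, g21, g22⟩

/-- Normal form for a Gram matrix of rank one. -/
lemma exists_normal_form (h : SingPair p r) (h' : SingPair p' r')
    (hli : LinearIndependent k ![p, r]) (hli' : LinearIndependent k ![p', r'])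
    (hdet : Bf p p' * Bf r r' - Bf p r' * Bf r p' = 0)
    (hne : ¬ (Bf p p' = 0 ∧ Bf p r' = 0 ∧ Bf r p' = 0 ∧ Bf r r' = 0)) :
    ∃ p₀ r₀ p₀' r₀' : n ⊕ n → k, SingPair p₀ r₀ ∧ SingPair p₀' r₀' ∧ sgSub p₀ r₀ = sgSub p r ∧
      sgSub p₀' r₀' = sgSub p' r' ∧ p₀ ≠ 0 ∧ p₀' ≠ 0 ∧ Bf p₀ p₀' = 0 ∧ Bf p₀ r₀' = 0 ∧
      Bf r₀ p₀' = 0 ∧ Bf r₀ r₀' = 1 := by
  by_cases h22 : Bf r r' = 0
  · by_cases h21 : Bf r p' = 0
    · by_cases h12 : Bf p r' = 0
      · have h11 : Bf p p' ≠ 0 := fun h11 => hne ⟨h11, h12, h21, h22⟩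
        obtain ⟨p₀, r₀, p₀', r₀', e1, e2, e3, e4, e5⟩ := exists_normal_form_of_ne h.swap h'.swap
          (LinearIndependent.pair_symm_iff.mp hli) (LinearIndependent.pair_symm_iff.mp hli')
          (by linear_combination hdet) h11
        exact ⟨p₀, r₀, p₀', r₀', e1, e2, e3.trans (sgSub_swap p r), e4.trans (sgSub_swap p' r'), e5⟩
      · obtain ⟨p₀, r₀, p₀', r₀', e1, e2, e3, e4, e5⟩ := exists_normal_form_of_ne h.swap h'
          (LinearIndependent.pair_symm_iff.mp hli) hli' (by linear_combination -hdet) h12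
        exact ⟨p₀, r₀, p₀', r₀', e1, e2, e3.trans (sgSub_swap p r), e4, e5⟩
    · obtain ⟨p₀, r₀, p₀', r₀', e1, e2, e3, e4, e5⟩ := exists_normal_form_of_ne h h'.swap
        hli (LinearIndependent.pair_symm_iff.mp hli') (by linear_combination -hdet) h21
      exact ⟨p₀, r₀, p₀', r₀', e1, e2, e3, e4.trans (sgSub_swap p' r'), e5⟩
  · exact exists_normal_form_of_ne h h' hli hli' hdet h22

/-- Any two Siegel transvection subgroups commute, or form a rank one pair which is a `PSL₂`-pair,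
or are in the commutator case. -/
theorem trichotomy (hli : LinearIndependent k ![p, r]) (h : SingPair p r)
    (hli' : LinearIndependent k ![p', r']) (h' : SingPair p' r') :
    ⁅sgSub p r, sgSub p' r'⁆ = ⊥ ∨
      (Cfsg.IsRankOnePair (sgSub p r) (sgSub p' r') ∧
        Cfsg.IsPSL2PairOver k (sgSub p r) (sgSub p' r')) ∨
      Cfsg.RootCommutatorCase (SS k n) (sgSub p r) (sgSub p' r') := by
  by_cases hdet : Bf p p' * Bf r r' - Bf p r' * Bf r p' = 0
  · by_cases hz : Bf p p' = 0 ∧ Bf p r' = 0 ∧ Bf r p' = 0 ∧ Bf r r' = 0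
    · left
      exact sgSub_commute_of_gram_zero h h' hz.1 hz.2.1 hz.2.2.1 hz.2.2.2
    · obtain ⟨p₀, r₀, p₀', r₀', s, s', e, e', hp0, hp0', g11, g12, g21, g22⟩ :=
        exists_normal_form h h' hli hli' hdet hz
      rw [← e, ← e']
      by_cases hpar : ∃ a : k, a • p₀ = p₀'
      · left
        obtain ⟨a, rfl⟩ := hpar
        exact sgSub_commute_of_common_point s s' g12
      · right; right
        push Not at hpar
        exact commCase_sgSub ((LinearIndependent.pair_iff' hp0).mpr hpar) s s' g11 g12 g21 g22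
  · right; left
    exact rankOne_of_det h h' hdet

end Pair

end Siegel

end Cfsg.Agent.Lib.Helper83
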