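/-
helper83: recognition of `SL(2,2)`, `SL(2,3)` and `PSL(2,3)` from braid-type relations.
-/
import Mathlib
import Cfsg.Agent.Lib.Helper53.SL23Recog

set_option autoImplicit false

namespace Cfsg.Agent.Lib.Helper83

namespace SmallSL2

open Cfsg.Agent.Lib.Helper53

/-! ### The model `C₃ ⋊ C₂` of `S₃` -/

/-- Inversion on the cyclic group of order three. -/
def gam : MulAut (Multiplicative (ZMod 3)) := MulEquiv.inv (Multiplicative (ZMod 3))

theorem gam_sq : gam ^ 2 = 1 := by
  ext q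
  show (gam ^ 2) q = q
  rw [pow_two, MulAut.mul_apply]
  show (q⁻¹)⁻¹ = q
  exact inv_inv q

/-- The model group `C₃ ⋊ C₂`. -/
abbrev Model3 := Multiplicative (ZMod 3) ⋊[powHom 2 gam gam_sq] Multiplicative (ZMod 2)

section recog

variable {H : Type*} [Group H] {r s : H}

theorem powHom_gam (hr : r ^ 3 = 1) (hc : s * r * s⁻¹ = r⁻¹)
    (q : Multiplicative (ZMod 3)) :
    powHom 3 r hr (gam q) = s * powHom 3 r hr q * s⁻¹ := by
  show powHom 3 r hr q⁻¹ = _
  rw [map_inv, powHom_apply]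
  generalize (Multiplicative.toAdd q).val = k
  rw [← conj_pow, hc, inv_pow]

/-- The homomorphism from the model given by `r, s`. -/
noncomputable def recog3 (hr : r ^ 3 = 1) (hs : s ^ 2 = 1) (hc : s * r * s⁻¹ = r⁻¹) :
    Model3 →* H :=
  SemidirectProduct.lift (powHom 3 r hr) (powHom 2 s hs)
    (lift_compat 2 gam gam_sq s hs _ (powHom_gam hr hc))

theorem recog3_apply (hr : r ^ 3 = 1) (hs : s ^ 2 = 1) (hc : s * r * s⁻¹ = r⁻¹) (p : Model3) :
    recog3 hr hs hc p =
      r ^ (Multiplicative.toAdd p.left).val * s ^ (Multiplicative.toAdd p.right).val := rfl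

theorem recog3_injective (hr : r ^ 3 = 1) (hs : s ^ 2 = 1) (hc : s * r * s⁻¹ = r⁻¹)
    (hr1 : r ≠ 1) : Function.Injective (recog3 hr hs hc) := by
  rw [injective_iff_map_eq_one]
  intro p hp
  rw [recog3_apply] at hp
  set l := (Multiplicative.toAdd p.left).val with hl
  set k := (Multiplicative.toAdd p.right).val with hk
  have hllt : l < 3 := ZMod.val_lt _
  have hklt : k < 2 := ZMod.val_lt _
  have hr2 : r ^ 2 ≠ 1 := by
    intro h
    apply hr1
    have : r ^ 3 = r ^ 2 * r := pow_succ r 2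
    rw [hr, h, one_mul] at this
    exact this.symm
  have hk0 : k = 0 := by
    interval_cases k
    · rfl
    · exfalso
      rw [pow_one] at hp
      have hs' : s = (r ^ l)⁻¹ := eq_inv_of_mul_eq_one_right hp
      have hcomm : s * r * s⁻¹ = r := by
        rw [hs']
        have : Commute (r ^ l)⁻¹ r := ((Commute.refl r).pow_left l).inv_left
        rw [this.eq]; group
      rw [hc] at hcomm
      apply hr2
      rw [pow_two]
      calc r * r = r * r⁻¹ := by rw [hcomm]
        _ = 1 := mul_inv_cancel r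
  rw [hk0, pow_zero, mul_one] at hp
  have hl0 : l = 0 := by
    interval_cases l
    · rfl
    · exact absurd (by simpa using hp) hr1
    · exact absurd hp hr2
  have h1 : p.left = 1 := (ZMod.val_eq_zero (Multiplicative.toAdd p.left)).mp hl0
  have h2 : p.right = 1 := (ZMod.val_eq_zero (Multiplicative.toAdd p.right)).mp hk0
  exact SemidirectProduct.ext h1 h2

theorem recog3_surjective (hr : r ^ 3 = 1) (hs : s ^ 2 = 1) (hc : s * r * s⁻¹ = r⁻¹)
    (hgen : Subgroup.closure ({r, s} : Set H) = ⊤) : Function.Surjective (recog3 hr hs hc) := by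
  rw [← MonoidHom.range_eq_top, eq_top_iff, ← hgen, Subgroup.closure_le]
  intro x hx
  rcases hx with rfl | rfl
  · refine ⟨SemidirectProduct.inl (Multiplicative.ofAdd 1), ?_⟩
    rw [recog3, SemidirectProduct.lift_inl, powHom_apply]
    have : (Multiplicative.toAdd (Multiplicative.ofAdd (1 : ZMod 3))).val = 1 := by decide
    rw [this, pow_one]
  · refine ⟨SemidirectProduct.inr (Multiplicative.ofAdd 1), ?_⟩
    rw [recog3, SemidirectProduct.lift_inr, powHom_apply]
    have : (Multiplicative.toAdd (Multiplicative.ofAdd (1 : ZMod 2))).val = 1 := by decide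
    rw [this, pow_one]

end recog

/-! ### The model is `SL(2,2)` -/

/-- `SL(2,2)` -/
abbrev SL22 := Matrix.SpecialLinearGroup (Fin 2) (ZMod 2)

open Matrix in
def slR : SL22 := ⟨!![0, 1; 1, 1], by decide⟩
open Matrix in
def slS : SL22 := ⟨!![1, 1; 0, 1], by decide⟩

theorem slR_cube : slR ^ 3 = 1 := by decide
theorem slS_sq : slS ^ 2 = 1 := by decide
theorem slS_conj : slS * slR * slS⁻¹ = slR⁻¹ := by decide
theorem slR_ne : slR ≠ 1 := by decide
theorem slS_ne : slS ≠ 1 := by decide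
theorem card_SL22 : Fintype.card SL22 = 6 := by decide

theorem card_model3 : Nat.card Model3 = 6 := by
  rw [SemidirectProduct.card, Nat.card_eq_fintype_card, Nat.card_eq_fintype_card]
  simp

/-- The model group is isomorphic to `SL(2,2)`. -/
noncomputable def model3EquivSL22 : Model3 ≃* SL22 :=
  MulEquiv.ofBijective (recog3 slR_cube slS_sq slS_conj)
    (Function.Injective.bijective_of_nat_card_le
      (recog3_injective slR_cube slS_sq slS_conj slR_ne)
      (by rw [card_model3, Nat.card_eq_fintype_card, card_SL22]))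

/-- **Recognition of `SL(2,2)`**: a group generated by involutions `a ≠ b` with `a b a = b a b`. -/
theorem nonempty_mulEquiv_SL22 {H : Type*} [Group H] {a b : H} (ha : a * a = 1) (hb : b * b = 1)
    (hbr : a * b * a = b * a * b) (hab : a ≠ b)
    (hgen : Subgroup.closure ({a, b} : Set H) = ⊤) :
    Nonempty (H ≃* Matrix.SpecialLinearGroup (Fin 2) (ZMod 2)) := by
  have hainv : a⁻¹ = a := inv_eq_of_mul_eq_one_left ha
  have hbinv : b⁻¹ = b := inv_eq_of_mul_eq_one_left hb
  have hr : (a * b) ^ 3 = 1 := by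
    calc (a * b) ^ 3 = (a * b * a) * (b * a * b) := by rw [pow_succ, pow_two]; group
      _ = (a * b * a) * (a * b * a) := by rw [hbr]
      _ = a * b * (a * a) * b * a := by group
      _ = 1 := by rw [ha, mul_one, mul_assoc a b b, hb, mul_one, ha]
  have hs : a ^ 2 = 1 := by rw [pow_two, ha]
  have hc : a * (a * b) * a⁻¹ = (a * b)⁻¹ := by
    rw [mul_inv_rev, hainv, hbinv, ← mul_assoc, ha, one_mul]
  have hr1 : a * b ≠ 1 := by
    intro h
    apply hab
    have := eq_inv_of_mul_eq_one_left h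
    rw [hbinv] at this
    exact this
  have hgen' : Subgroup.closure ({a * b, a} : Set H) = ⊤ := by
    rw [eq_top_iff, ← hgen, Subgroup.closure_le]
    intro x hx
    have haM : a ∈ Subgroup.closure ({a * b, a} : Set H) := Subgroup.subset_closure (by simp)
    have habM : a * b ∈ Subgroup.closure ({a * b, a} : Set H) := Subgroup.subset_closure (by simp)
    rcases hx with rfl | hx
    · exact haM
    · rw [Set.mem_singleton_iff] at hx
      rw [hx]
      have h1 : a⁻¹ * (a * b) ∈ Subgroup.closure ({a * b, a} : Set H) :=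
        Subgroup.mul_mem _ (Subgroup.inv_mem _ haM) habM
      rwa [inv_mul_cancel_left] at h1
  exact ⟨(MulEquiv.ofBijective (recog3 hr hs hc)
      ⟨recog3_injective hr hs hc hr1, recog3_surjective hr hs hc hgen'⟩).symm.trans
        model3EquivSL22⟩

/-! ### The braid relation with generators of order three -/

section braid3

variable {H : Type*} [Group H] {s t : H}

theorem braid_s (hbr : s * t * s = t * s * t) : (s * t * s) * s = t * (s * t * s) := by
  calc (s * t * s) * s = (t * s * t) * s := by rw [hbr]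
    _ = t * (s * t * s) := by group

theorem braid_t (hbr : s * t * s = t * s * t) : (s * t * s) * t = s * (s * t * s) := by
  calc (s * t * s) * t = s * (t * s * t) := by group
    _ = s * (s * t * s) := by rw [hbr]

theorem sq_comm_s (hbr : s * t * s = t * s * t) :
    (s * t * s) * (s * t * s) * s = s * ((s * t * s) * (s * t * s)) := by
  calc (s * t * s) * (s * t * s) * s = (s * t * s) * ((s * t * s) * s) := by group
    _ = (s * t * s) * (t * (s * t * s)) := by rw [braid_s hbr]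
    _ = ((s * t * s) * t) * (s * t * s) := by group
    _ = (s * (s * t * s)) * (s * t * s) := by rw [braid_t hbr]
    _ = s * ((s * t * s) * (s * t * s)) := by group

theorem sq_comm_t (hbr : s * t * s = t * s * t) :
    (s * t * s) * (s * t * s) * t = t * ((s * t * s) * (s * t * s)) := by
  calc (s * t * s) * (s * t * s) * t = (s * t * s) * ((s * t * s) * t) := by group
    _ = (s * t * s) * (s * (s * t * s)) := by rw [braid_t hbr]
    _ = ((s * t * s) * s) * (s * t * s) := by group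
    _ = (t * (s * t * s)) * (s * t * s) := by rw [braid_s hbr]
    _ = t * ((s * t * s) * (s * t * s)) := by group

theorem ss_eq (hs : s ^ 3 = 1) : s * s = s⁻¹ := by
  have : s * s * s = 1 := by rw [← hs, pow_succ, pow_two]
  exact eq_inv_of_mul_eq_one_left this

/-- `t u t⁻¹ = v` for `t = s⁻¹`, `u = s t s`, `v = t s⁻¹`. -/
theorem rel_tu (hs : s ^ 3 = 1) : s⁻¹ * (s * t * s) * (s⁻¹)⁻¹ = t * s⁻¹ := by
  calc s⁻¹ * (s * t * s) * (s⁻¹)⁻¹ = t * (s * s) := by group
    _ = t * s⁻¹ := by rw [ss_eq hs]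

/-- `t v t⁻¹ = u v`. -/
theorem rel_tv (hs : s ^ 3 = 1) (hbr : s * t * s = t * s * t) :
    s⁻¹ * (t * s⁻¹) * (s⁻¹)⁻¹ = (s * t * s) * (t * s⁻¹) := by
  have h1 : (s * t * s) * (t * s⁻¹) = s * s * t := by
    calc (s * t * s) * (t * s⁻¹) = ((s * t * s) * t) * s⁻¹ := by group
      _ = (s * (s * t * s)) * s⁻¹ := by rw [braid_t hbr]
      _ = s * s * t := by group
  rw [h1, ss_eq hs]; group

/-- `v v = u²`. -/
theorem rel_vv (hs : s ^ 3 = 1) (hbr : s * t * s = t * s * t) :
    (t * s⁻¹) * (t * s⁻¹) = (s * t * s) ^ 2 := by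
  have h1 : (s * t * s) * (s * t * s) = s * t * s⁻¹ * t * s := by
    calc (s * t * s) * (s * t * s) = s * t * (s * s) * t * s := by group
      _ = s * t * s⁻¹ * t * s := by rw [ss_eq hs]
  have h2 := sq_comm_s hbr
  rw [pow_two]
  calc (t * s⁻¹) * (t * s⁻¹) = t * s⁻¹ * t * s⁻¹ := by group
    _ = t * s⁻¹ * t * (s * s) := by rw [ss_eq hs]
    _ = s⁻¹ * (s * t * s⁻¹ * t * s) * s := by group
    _ = s⁻¹ * ((s * t * s) * (s * t * s)) * s := by rw [h1]
    _ = s⁻¹ * ((s * t * s) * (s * t * s) * s) := by group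
    _ = s⁻¹ * (s * ((s * t * s) * (s * t * s))) := by rw [h2]
    _ = (s * t * s) * (s * t * s) := by group

/-- `v u v⁻¹ = u⁻¹`. -/
theorem rel_vu (hs : s ^ 3 = 1) (ht : t ^ 3 = 1) (hbr : s * t * s = t * s * t) :
    (t * s⁻¹) * (s * t * s) * (t * s⁻¹)⁻¹ = (s * t * s)⁻¹ := by
  have h1 : s⁻¹ * (s * t * s) * s = t * s⁻¹ := by
    have := rel_tu (t := t) hs
    rwa [inv_inv] at this
  calc (t * s⁻¹) * (s * t * s) * (t * s⁻¹)⁻¹ = t * (s⁻¹ * (s * t * s) * s) * t⁻¹ := by group
    _ = t * (t * s⁻¹) * t⁻¹ := by rw [h1]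
    _ = (t * t) * s⁻¹ * t⁻¹ := by group
    _ = t⁻¹ * s⁻¹ * t⁻¹ := by rw [ss_eq ht]
    _ = (t * s * t)⁻¹ := by group
    _ = (s * t * s)⁻¹ := by rw [hbr]

/-- `u⁴ = 1`. -/
theorem rel_u4 (hs : s ^ 3 = 1) (ht : t ^ 3 = 1) (hbr : s * t * s = t * s * t) :
    (s * t * s) ^ (2 * 2) = 1 := by
  have hc := rel_vu hs ht hbr
  -- `u²` commutes with `v`
  have hz : (s * t * s) * (s * t * s) * (t * s⁻¹) = (t * s⁻¹) * ((s * t * s) * (s * t * s)) := by
    have h1 := sq_comm_s hbr
    have h2 := sq_comm_t hbr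
    have h3 : (s * t * s) * (s * t * s) * s⁻¹ = s⁻¹ * ((s * t * s) * (s * t * s)) := by
      calc (s * t * s) * (s * t * s) * s⁻¹
          = s⁻¹ * (s * ((s * t * s) * (s * t * s))) * s⁻¹ := by group
        _ = s⁻¹ * ((s * t * s) * (s * t * s) * s) * s⁻¹ := by rw [h1]
        _ = s⁻¹ * ((s * t * s) * (s * t * s)) := by group
    calc (s * t * s) * (s * t * s) * (t * s⁻¹) = ((s * t * s) * (s * t * s) * t) * s⁻¹ := by group
      _ = (t * ((s * t * s) * (s * t * s))) * s⁻¹ := by rw [h2]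
      _ = t * ((s * t * s) * (s * t * s) * s⁻¹) := by group
      _ = t * (s⁻¹ * ((s * t * s) * (s * t * s))) := by rw [h3]
      _ = (t * s⁻¹) * ((s * t * s) * (s * t * s)) := by group
  -- `v u² v⁻¹ = u⁻²`
  have h4 : (t * s⁻¹) * ((s * t * s) * (s * t * s)) * (t * s⁻¹)⁻¹ =
      (s * t * s)⁻¹ * (s * t * s)⁻¹ := by
    calc (t * s⁻¹) * ((s * t * s) * (s * t * s)) * (t * s⁻¹)⁻¹
        = ((t * s⁻¹) * (s * t * s) * (t * s⁻¹)⁻¹) * ((t * s⁻¹) * (s * t * s) * (t * s⁻¹)⁻¹) := by
          group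
      _ = (s * t * s)⁻¹ * (s * t * s)⁻¹ := by rw [hc]
  have h5 : (s * t * s) * (s * t * s) = (s * t * s)⁻¹ * (s * t * s)⁻¹ := by
    rw [← h4, ← hz]; group
  calc (s * t * s) ^ (2 * 2) = ((s * t * s) * (s * t * s)) * ((s * t * s) * (s * t * s)) := by
        rw [show 2 * 2 = 4 from rfl, pow_succ, pow_succ, pow_two]; group
    _ = ((s * t * s)⁻¹ * (s * t * s)⁻¹) * ((s * t * s) * (s * t * s)) := by rw [← h5]
    _ = 1 := by group

end braid3

/-! ### `SL(2,3)` facts by enumeration -/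

set_option maxRecDepth 100000 in
theorem center_cases : ∀ g : SL23, (∀ h : SL23, h * g = g * h) → g = 1 ∨ g = slU ^ 2 := by decide

set_option maxRecDepth 100000 in
theorem noncentral_cases : ∀ g : SL23, (∀ h : SL23, h * g = g * h) ∨
    (∃ x : SL23, x * g * x⁻¹ = slU) ∨
    (∃ x : SL23, x * g * x⁻¹ = slT) ∨ (∃ x : SL23, x * g * x⁻¹ = slT⁻¹) ∨
    (∃ x : SL23, x * (g * g) * x⁻¹ = slT) ∨ (∃ x : SL23, x * (g * g) * x⁻¹ = slT⁻¹) := by decide

section psl

variable {A : Type*} [Group A] {u v t : A}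

theorem recogHom_inl_a (hu : u ^ (2 * 2) = 1) (hv : v * v = u ^ 2) (hc : v * u * v⁻¹ = u⁻¹)
    (ht : t ^ 3 = 1) (htu : t * u * t⁻¹ = v) (htv : t * v * t⁻¹ = u * v) :
    recogHom hu hv hc ht htu htv (SemidirectProduct.inl (QuaternionGroup.a 1)) = u := by
  rw [recogHom, SemidirectProduct.lift_inl, quatLift_a]
  have : ((1 : ZMod (2 * 2))).val = 1 := by decide
  rw [this, pow_one]

theorem recogHom_inr (hu : u ^ (2 * 2) = 1) (hv : v * v = u ^ 2) (hc : v * u * v⁻¹ = u⁻¹)
    (ht : t ^ 3 = 1) (htu : t * u * t⁻¹ = v) (htv : t * v * t⁻¹ = u * v) :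
    recogHom hu hv hc ht htu htv (SemidirectProduct.inr (Multiplicative.ofAdd 1)) = t := by
  rw [recogHom, SemidirectProduct.lift_inr, powHom_apply]
  have : (Multiplicative.toAdd (Multiplicative.ofAdd (1 : ZMod 3))).val = 1 := by decide
  rw [this, pow_one]

theorem modelEquivSL23_inl_a :
    modelEquivSL23 (SemidirectProduct.inl (QuaternionGroup.a 1)) = slU := by
  show recogHom slU_pow slV_sq slV_conj slT_cube slT_u slT_v _ = slU
  exact recogHom_inl_a _ _ _ _ _ _

theorem modelEquivSL23_inr :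
    modelEquivSL23 (SemidirectProduct.inr (Multiplicative.ofAdd 1)) = slT := by
  show recogHom slU_pow slV_sq slV_conj slT_cube slT_u slT_v _ = slT
  exact recogHom_inr _ _ _ _ _ _

/-- The homomorphism `SL(2,3) → A` given by `u, v, t`. -/
noncomputable def slHom (hu : u ^ (2 * 2) = 1) (hv : v * v = u ^ 2) (hc : v * u * v⁻¹ = u⁻¹)
    (ht : t ^ 3 = 1) (htu : t * u * t⁻¹ = v) (htv : t * v * t⁻¹ = u * v) : SL23 →* A :=
  (recogHom hu hv hc ht htu htv).comp modelEquivSL23.symm.toMonoidHom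

theorem slHom_slU (hu : u ^ (2 * 2) = 1) (hv : v * v = u ^ 2) (hc : v * u * v⁻¹ = u⁻¹)
    (ht : t ^ 3 = 1) (htu : t * u * t⁻¹ = v) (htv : t * v * t⁻¹ = u * v) :
    slHom hu hv hc ht htu htv slU = u := by
  show recogHom hu hv hc ht htu htv (modelEquivSL23.symm slU) = u
  rw [← modelEquivSL23_inl_a, MulEquiv.symm_apply_apply, recogHom_inl_a]

theorem slHom_slT (hu : u ^ (2 * 2) = 1) (hv : v * v = u ^ 2) (hc : v * u * v⁻¹ = u⁻¹)
    (ht : t ^ 3 = 1) (htu : t * u * t⁻¹ = v) (htv : t * v * t⁻¹ = u * v) :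
    slHom hu hv hc ht htu htv slT = t := by
  show recogHom hu hv hc ht htu htv (modelEquivSL23.symm slT) = t
  rw [← modelEquivSL23_inr, MulEquiv.symm_apply_apply, recogHom_inr]

theorem slHom_surjective (hu : u ^ (2 * 2) = 1) (hv : v * v = u ^ 2) (hc : v * u * v⁻¹ = u⁻¹)
    (ht : t ^ 3 = 1) (htu : t * u * t⁻¹ = v) (htv : t * v * t⁻¹ = u * v)
    (hgen : Subgroup.closure ({u, v, t} : Set A) = ⊤) :
    Function.Surjective (slHom hu hv hc ht htu htv) :=
  (recogHom_surjective hu hv hc ht htu htv hgen).comp modelEquivSL23.symm.surjective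

/-- If `u² = 1` (but `u ≠ 1`, `t ≠ 1`) the group is `PSL(2,3)`. -/
theorem nonempty_mulEquiv_PSL23 (hu : u ^ (2 * 2) = 1) (hv : v * v = u ^ 2)
    (hc : v * u * v⁻¹ = u⁻¹) (ht : t ^ 3 = 1) (htu : t * u * t⁻¹ = v) (htv : t * v * t⁻¹ = u * v)
    (hu2 : u ^ 2 = 1) (hu1 : u ≠ 1) (ht1 : t ≠ 1)
    (hgen : Subgroup.closure ({u, v, t} : Set A) = ⊤) :
    Nonempty (A ≃* Matrix.ProjectiveSpecialLinearGroup (Fin 2) (ZMod 3)) := by
  set φ := slHom hu hv hc ht htu htv with hφ
  have hsurj := slHom_surjective hu hv hc ht htu htv hgen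
  have hφU : φ slU = u := slHom_slU hu hv hc ht htu htv
  have hφT : φ slT = t := slHom_slT hu hv hc ht htu htv
  have hker : φ.ker = Subgroup.center SL23 := by
    ext g
    rw [MonoidHom.mem_ker, Subgroup.mem_center_iff]
    constructor
    · intro hg
      have hconj : ∀ x : SL23, φ (x * g * x⁻¹) = 1 := by
        intro x
        rw [map_mul, map_mul, hg, mul_one, ← map_mul, mul_inv_cancel, map_one]
      have hgg : φ (g * g) = 1 := by rw [map_mul, hg, one_mul]
      have hconj2 : ∀ x : SL23, φ (x * (g * g) * x⁻¹) = 1 := by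
        intro x
        rw [map_mul, map_mul, hgg, mul_one, ← map_mul, mul_inv_cancel, map_one]
      rcases noncentral_cases g with h | ⟨x, hx⟩ | ⟨x, hx⟩ | ⟨x, hx⟩ | ⟨x, hx⟩ | ⟨x, hx⟩
      · exact h
      · exact absurd (by rw [← hφU, ← hx, hconj]) hu1
      · exact absurd (by rw [← hφT, ← hx, hconj]) ht1
      · exfalso
        apply ht1
        have h1 : φ slT⁻¹ = 1 := by rw [← hx, hconj]
        rw [map_inv, inv_eq_one] at h1
        rw [← hφT, h1]
      · exact absurd (by rw [← hφT, ← hx, hconj2]) ht1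
      · exfalso
        apply ht1
        have h1 : φ slT⁻¹ = 1 := by rw [← hx, hconj2]
        rw [map_inv, inv_eq_one] at h1
        rw [← hφT, h1]
    · intro hg
      rcases center_cases g hg with rfl | rfl
      · exact map_one φ
      · rw [map_pow, hφU, hu2]
  exact ⟨((QuotientGroup.quotientKerEquivOfSurjective φ hsurj).symm.trans
    (QuotientGroup.quotientMulEquivOfEq hker))⟩

end psl

/-- **Recognition of `SL(2,3)` and `PSL(2,3)`**: a group generated by two elements `s, t` of order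
three with `s t s = t s t ≠ 1`. -/
theorem sl23_or_psl23 {H : Type*} [Group H] {s t : H} (hs : s ^ 3 = 1) (ht : t ^ 3 = 1)
    (hbr : s * t * s = t * s * t) (hs1 : s ≠ 1) (hu1 : s * t * s ≠ 1)
    (hgen : Subgroup.closure ({s, t} : Set H) = ⊤) :
    Nonempty (H ≃* Matrix.SpecialLinearGroup (Fin 2) (ZMod 3)) ∨
      Nonempty (H ≃* Matrix.ProjectiveSpecialLinearGroup (Fin 2) (ZMod 3)) := by
  have hu := rel_u4 hs ht hbr
  have hv := rel_vv hs hbr
  have hc := rel_vu hs ht hbr
  have ht3 : (s⁻¹) ^ 3 = 1 := by rw [inv_pow, hs, inv_one]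
  have htu := rel_tu (t := t) hs
  have htv := rel_tv hs hbr
  have ht1 : s⁻¹ ≠ 1 := by simpa using hs1
  have hgen' : Subgroup.closure ({s * t * s, t * s⁻¹, s⁻¹} : Set H) = ⊤ := by
    rw [eq_top_iff, ← hgen, Subgroup.closure_le]
    intro x hx
    have h1 : s⁻¹ ∈ Subgroup.closure ({s * t * s, t * s⁻¹, s⁻¹} : Set H) :=
      Subgroup.subset_closure (by simp)
    have h2 : t * s⁻¹ ∈ Subgroup.closure ({s * t * s, t * s⁻¹, s⁻¹} : Set H) :=
      Subgroup.subset_closure (by simp)
    have h3 : s ∈ Subgroup.closure ({s * t * s, t * s⁻¹, s⁻¹} : Set H) := by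
      have := Subgroup.inv_mem _ h1
      rwa [inv_inv] at this
    rcases hx with rfl | hx
    · exact h3
    · rw [Set.mem_singleton_iff] at hx
      rw [hx]
      have h4 := Subgroup.mul_mem _ h2 h3
      rwa [inv_mul_cancel_right] at h4
  by_cases hu2 : (s * t * s) ^ 2 = 1
  · right
    exact nonempty_mulEquiv_PSL23 hu hv hc ht3 htu htv hu2 hu1 ht1 hgen'
  · left
    exact nonempty_mulEquiv_SL23 hu hv hc ht3 htu htv hu2 ht1 hgen'

end SmallSL2

end Cfsg.Agent.Lib.Helper83
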