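/-
helper83: project S2221 (helper71), module S2221-[NICE-EX]: existence of a `Nice a W Y` on any
`Y` with `2 ^ a` points.
-/
import Mathlib
import Cfsg.Agent.Lib.Helper71.SylAltDefs

set_option autoImplicit false
set_option linter.unusedSectionVars false

namespace Cfsg.Agent.Lib.Helper83.SylAlt

open Equiv Cfsg.Agent.Lib.Helper71.SylAlt

variable {α : Type*} [DecidableEq α] [Fintype α]

/-- the function swapping two finsets along a bijection of the subtypes -/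
def swapFun (Y₁ Y₂ : Finset α) (e : {x // x ∈ Y₁} ≃ {x // x ∈ Y₂}) : α → α := fun x =>
  if h1 : x ∈ Y₁ then ((e ⟨x, h1⟩ : {x // x ∈ Y₂}) : α)
  else if h2 : x ∈ Y₂ then ((e.symm ⟨x, h2⟩ : {x // x ∈ Y₁}) : α) else x

theorem swapFun_of_mem_left {Y₁ Y₂ : Finset α} (e : {x // x ∈ Y₁} ≃ {x // x ∈ Y₂}) {x : α}
    (h1 : x ∈ Y₁) : swapFun Y₁ Y₂ e x = ((e ⟨x, h1⟩ : {x // x ∈ Y₂}) : α) := by
  simp [swapFun, h1]

theorem swapFun_of_mem_right {Y₁ Y₂ : Finset α} (hd : Disjoint Y₁ Y₂)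
    (e : {x // x ∈ Y₁} ≃ {x // x ∈ Y₂}) {x : α}
    (h2 : x ∈ Y₂) : swapFun Y₁ Y₂ e x = ((e.symm ⟨x, h2⟩ : {x // x ∈ Y₁}) : α) := by
  have h1 : x ∉ Y₁ := fun h => (Finset.disjoint_left.mp hd h) h2
  simp [swapFun, h1, h2]

theorem swapFun_of_not_mem {Y₁ Y₂ : Finset α} (e : {x // x ∈ Y₁} ≃ {x // x ∈ Y₂}) {x : α}
    (h1 : x ∉ Y₁) (h2 : x ∉ Y₂) : swapFun Y₁ Y₂ e x = x := by
  simp [swapFun, h1, h2]

theorem swapFun_involutive {Y₁ Y₂ : Finset α} (hd : Disjoint Y₁ Y₂)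
    (e : {x // x ∈ Y₁} ≃ {x // x ∈ Y₂}) : Function.Involutive (swapFun Y₁ Y₂ e) := by
  intro x
  by_cases h1 : x ∈ Y₁
  · rw [swapFun_of_mem_left e h1, swapFun_of_mem_right hd e (e ⟨x, h1⟩).2]
    simp
  · by_cases h2 : x ∈ Y₂
    · rw [swapFun_of_mem_right hd e h2, swapFun_of_mem_left e (e.symm ⟨x, h2⟩).2]
      simp
    · rw [swapFun_of_not_mem e h1 h2, swapFun_of_not_mem e h1 h2]

theorem nice_exists (a : ℕ) (Y : Finset α) (hY : Y.card = 2 ^ a) :
    ∃ W : Subgroup (Perm α), Nice a W Y := by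
  induction a generalizing Y with
  | zero =>
    obtain ⟨y, rfl⟩ := Finset.card_eq_one.mp (by simpa using hY)
    exact ⟨⊥, rfl, y, rfl⟩
  | succ a ih =>
    have hle : 2 ^ a ≤ Y.card := by rw [hY]; exact Nat.pow_le_pow_right (by norm_num) (Nat.le_succ a)
    obtain ⟨Y₁, hY₁sub, hY₁card⟩ := Finset.exists_subset_card_eq hle
    set Y₂ : Finset α := Y \ Y₁ with hY₂
    have hY₂card : Y₂.card = 2 ^ a := by
      rw [hY₂, Finset.card_sdiff_of_subset hY₁sub, hY, hY₁card, pow_succ]; omega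
    have hd : Disjoint Y₁ Y₂ := by rw [hY₂]; exact Finset.disjoint_sdiff
    let e : {x // x ∈ Y₁} ≃ {x // x ∈ Y₂} := Finset.equivOfCardEq (by rw [hY₁card, hY₂card])
    let σ : Perm α := (swapFun_involutive hd e).toPerm _
    have hσ : ∀ x, σ x = swapFun Y₁ Y₂ e x := fun x => rfl
    have hswap : IsSwapOf σ Y₁ := by
      refine ⟨?_, ?_, ?_⟩
      · ext x
        simp only [Perm.coe_mul, Function.comp_apply, Perm.coe_one, id_eq]
        rw [hσ, hσ]
        exact swapFun_involutive hd e x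
      · intro x hx
        rw [hσ, swapFun_of_mem_left e hx]
        exact fun h => (Finset.disjoint_left.mp hd h) (e ⟨x, hx⟩).2
      · intro x hx1 hx2
        by_cases h2 : x ∈ Y₂
        · exfalso
          apply hx2
          rw [hσ, swapFun_of_mem_right hd e h2]
          exact (e.symm ⟨x, h2⟩).2
        · rw [hσ, swapFun_of_not_mem e hx1 h2]
    have himg : Y₁.image σ = Y₂ := by
      ext y
      constructor
      · intro hy
        obtain ⟨x, hx, rfl⟩ := Finset.mem_image.mp hy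
        rw [hσ, swapFun_of_mem_left e hx]
        exact (e ⟨x, hx⟩).2
      · intro hy
        refine Finset.mem_image.mpr ⟨(e.symm ⟨y, hy⟩ : {x // x ∈ Y₁}), (e.symm ⟨y, hy⟩).2, ?_⟩
        rw [hσ, swapFun_of_mem_left e (e.symm ⟨y, hy⟩).2]
        simp
    obtain ⟨W₁, hW₁⟩ := ih Y₁ hY₁card
    refine ⟨wr W₁ σ, W₁, Y₁, σ, hW₁, hswap, rfl, ?_⟩
    rw [himg, hY₂, Finset.union_sdiff_of_subset hY₁sub]

end Cfsg.Agent.Lib.Helper83.SylAlt
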