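/-
helper83: project S2221 (helper71), module S2221-[GLOBAL-EX]: pairwise disjoint `Z a ⊆ Fin n` with
`2 ^ a` points (`Σ 2 ^ a ≤ n`) carrying `Nice` components.
-/
import Mathlib
import Cfsg.Agent.Lib.Helper71.SylAltDefs
import Cfsg.Agent.Lib.Helper83.SylAltNiceEx

set_option autoImplicit false
set_option linter.unusedSectionVars false

namespace Cfsg.Agent.Lib.Helper83.SylAlt

open Equiv Cfsg.Agent.Lib.Helper71.SylAlt

/-- pairwise disjoint subsets of `Fin n` of the prescribed sizes `2 ^ a`, `a ∈ E` -/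
theorem exists_disjoint_sets (n : ℕ) (E : Finset ℕ) (hE : ∑ a ∈ E, 2 ^ a ≤ n) :
    ∃ Z : ℕ → Finset (Fin n), (∀ a ∈ E, (Z a).card = 2 ^ a) ∧
      (∀ a ∈ E, ∀ b ∈ E, a ≠ b → Disjoint (Z a) (Z b)) := by
  classical
  induction E using Finset.induction_on with
  | empty => exact ⟨fun _ => ∅, by simp, by simp⟩
  | insert b E hb ih =>
    rw [Finset.sum_insert hb] at hE
    obtain ⟨Z, hZc, hZd⟩ := ih (le_trans (Nat.le_add_left _ _) hE)
    set U : Finset (Fin n) := E.biUnion Z with hU
    have hUcard : U.card ≤ ∑ a ∈ E, 2 ^ a := by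
      calc U.card ≤ ∑ a ∈ E, (Z a).card := Finset.card_biUnion_le
        _ = ∑ a ∈ E, 2 ^ a := Finset.sum_congr rfl hZc
    have hcompl : 2 ^ b ≤ (Uᶜ).card := by
      rw [Finset.card_compl, Fintype.card_fin]; omega
    obtain ⟨Zb, hZbsub, hZbcard⟩ := Finset.exists_subset_card_eq hcompl
    have hdisjU : ∀ a ∈ E, Disjoint Zb (Z a) := by
      intro a ha
      rw [Finset.disjoint_left]
      intro x hx hxa
      have h1 : x ∈ Uᶜ := hZbsub hx
      have h2 : x ∈ U := Finset.mem_biUnion.mpr ⟨a, ha, hxa⟩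
      exact (Finset.mem_compl.mp h1) h2
    have hne : ∀ a ∈ E, a ≠ b := fun a ha h => hb (h ▸ ha)
    refine ⟨Function.update Z b Zb, ?_, ?_⟩
    · intro a ha
      rcases Finset.mem_insert.mp ha with hab | ha'
      · rw [hab, Function.update_self]; exact hZbcard
      · rw [Function.update_of_ne (hne a ha')]; exact hZc a ha'
    · intro a ha c hc hac
      rcases Finset.mem_insert.mp ha with hab | ha'
      · rcases Finset.mem_insert.mp hc with hcb | hc'
        · exact absurd (hab.trans hcb.symm) hac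
        · rw [hab, Function.update_self, Function.update_of_ne (hne c hc')]
          exact hdisjU c hc'
      · rcases Finset.mem_insert.mp hc with hcb | hc'
        · rw [hcb, Function.update_self, Function.update_of_ne (hne a ha')]
          exact (hdisjU a ha').symm
        · rw [Function.update_of_ne (hne a ha'), Function.update_of_ne (hne c hc')]
          exact hZd a ha' c hc' hac

theorem exists_components (n : ℕ) (E : Finset ℕ) (hE : ∑ a ∈ E, 2 ^ a ≤ n) :
    ∃ (W : ℕ → Subgroup (Perm (Fin n))) (Z : ℕ → Finset (Fin n)),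
      (∀ a ∈ E, Nice a (W a) (Z a)) ∧ (∀ a ∈ E, ∀ b ∈ E, a ≠ b → Disjoint (Z a) (Z b)) := by
  classical
  obtain ⟨Z, hZc, hZd⟩ := exists_disjoint_sets n E hE
  refine ⟨fun a => if h : a ∈ E then Classical.choose (nice_exists a (Z a) (hZc a h)) else ⊥,
    Z, ?_, hZd⟩
  intro a ha
  simp only [ha, dif_pos]
  exact Classical.choose_spec (nice_exists a (Z a) (hZc a ha))

end Cfsg.Agent.Lib.Helper83.SylAlt
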