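/-
helper83: project S2221 (helper71), module S2221-[PROD-ISO]: the internal direct product
`⨆_{a ∈ E} W a ≅ Π W a` of subgroups of `Perm α` with pairwise disjoint supports, compatible with signs.
-/
import Mathlib
import Cfsg.Agent.Lib.Helper71.SylAltDefs
import Cfsg.Agent.Lib.Helper50.SylAltSupp

set_option autoImplicit false
set_option linter.unusedSectionVars false

namespace Cfsg.Agent.Lib.Helper83.SylAlt

open Equiv Cfsg.Agent.Lib.Helper71.SylAlt

variable {α : Type*} [DecidableEq α] [Fintype α]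

section

variable (E : Finset ℕ) (W : ℕ → Subgroup (Perm α)) (Z : ℕ → Finset α)

/-- the family indexed by the subtype `↥E` -/
abbrev fam : {a // a ∈ E} → Subgroup (Perm α) := fun i => W i.1

theorem fam_comm (hS : ∀ a ∈ E, SuppOn (W a) (Z a))
    (hd : ∀ a ∈ E, ∀ b ∈ E, a ≠ b → Disjoint (Z a) (Z b)) :
    Pairwise fun i j : {a // a ∈ E} => ∀ x y : Perm α, x ∈ fam E W i → y ∈ fam E W j →
      Commute x y := by
  intro i j hij x y hx hy
  have hne : i.1 ≠ j.1 := fun h => hij (Subtype.ext h)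
  exact Cfsg.Agent.Lib.Helper50.SylAlt.commute_of_disjoint (hS i.1 i.2) (hS j.1 j.2)
    (hd i.1 i.2 j.1 j.2 hne) x hx y hy

theorem fam_indep (hS : ∀ a ∈ E, SuppOn (W a) (Z a))
    (hd : ∀ a ∈ E, ∀ b ∈ E, a ≠ b → Disjoint (Z a) (Z b)) :
    iSupIndep (fam E W) := by
  intro i
  rw [disjoint_iff]
  set Y' : Finset α := (E.erase i.1).biUnion Z with hY'
  have h2 : SuppOn (⨆ (j : {a // a ∈ E}) (_ : j ≠ i), fam E W j) Y' := by
    rw [Cfsg.Agent.Lib.Helper50.SylAlt.suppOn_iff_le]
    refine iSup_le fun j => iSup_le fun hj => ?_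
    rw [← Cfsg.Agent.Lib.Helper50.SylAlt.suppOn_iff_le]
    have hne : j.1 ≠ i.1 := fun h => hj (Subtype.ext h)
    refine Cfsg.Agent.Lib.Helper50.SylAlt.suppOn_mono le_rfl ?_ (hS j.1 j.2)
    intro x hx
    exact Finset.mem_biUnion.mpr ⟨j.1, Finset.mem_erase.mpr ⟨hne, j.2⟩, hx⟩
  have hdis : Disjoint (Z i.1) Y' := by
    rw [Finset.disjoint_left]
    intro x hx hx'
    obtain ⟨b, hb, hxb⟩ := Finset.mem_biUnion.mp hx'
    have hb' := Finset.mem_erase.mp hb
    exact (Finset.disjoint_left.mp (hd i.1 i.2 b hb'.2 (fun h => hb'.1 h.symm)) hx) hxb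
  exact Cfsg.Agent.Lib.Helper50.SylAlt.inf_eq_bot_of_disjoint (hS i.1 i.2) h2 hdis

theorem fam_iSup : (⨆ i : {a // a ∈ E}, fam E W i) = ⨆ a ∈ E, W a := by
  rw [iSup_subtype']

/-- the sign of the product is the product of the signs -/
theorem sign_noncommPiCoprod
    (hcomm : Pairwise fun i j : {a // a ∈ E} => ∀ x y : Perm α, x ∈ fam E W i → y ∈ fam E W j →
      Commute x y) (x : ∀ i : {a // a ∈ E}, fam E W i) :
    Perm.sign (Subgroup.noncommPiCoprod hcomm x) =
      piSign (fun a : {a // a ∈ E} => ↥(W a.1))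
        (fun a => (Perm.sign).comp (W a.1).subtype) x := by
  have h : (Perm.sign).comp (Subgroup.noncommPiCoprod hcomm) =
      piSign (fun a : {a // a ∈ E} => ↥(W a.1))
        (fun a => (Perm.sign).comp (W a.1).subtype) := by
    apply MonoidHom.pi_ext
    intro i y
    rw [MonoidHom.comp_apply, Subgroup.noncommPiCoprod_mulSingle, piSign_apply]
    rw [Finset.prod_eq_single i]
    · simp
    · intro j _ hj
      rw [Pi.mulSingle_eq_of_ne hj]
      simp
    · intro h; exact absurd (Finset.mem_univ i) h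
  exact DFunLike.congr_fun h x

end

theorem prod_iso (E : Finset ℕ) (W : ℕ → Subgroup (Perm α)) (Z : ℕ → Finset α)
    (hS : ∀ a ∈ E, SuppOn (W a) (Z a))
    (hd : ∀ a ∈ E, ∀ b ∈ E, a ≠ b → Disjoint (Z a) (Z b)) :
    Nat.card ↥(⨆ a ∈ E, W a) = ∏ a ∈ E, Nat.card (W a) ∧
    Nonempty (↥(MonoidHom.ker (piSign (fun a : E => ↥(W a.1))
        (fun a => (Perm.sign).comp (W a.1).subtype))) ≃*
      ↥((⨆ a ∈ E, W a) ⊓ alternatingGroup α)) := by
  classical
  have hcomm := fam_comm E W Z hS hd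
  have hind := fam_indep E W Z hS hd
  set φ : (∀ i : {a // a ∈ E}, fam E W i) →* Perm α := Subgroup.noncommPiCoprod hcomm with hφ
  have hinj : Function.Injective φ := Subgroup.injective_noncommPiCoprod_of_iSupIndep hind
  have hrange : φ.range = ⨆ a ∈ E, W a := by
    rw [hφ, Subgroup.noncommPiCoprod_range, fam_iSup]
  have hsign : ∀ x, Perm.sign (φ x) = piSign (fun a : {a // a ∈ E} => ↥(W a.1))
        (fun a => (Perm.sign).comp (W a.1).subtype) x := sign_noncommPiCoprod E W hcomm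
  refine ⟨?_, ?_⟩
  · rw [← hrange]
    rw [Nat.card_congr (MonoidHom.ofInjective hinj).symm.toEquiv, Nat.card_pi]
    exact Finset.prod_coe_sort E (fun a => Nat.card (W a))
  · set K := MonoidHom.ker (piSign (fun a : {a // a ∈ E} => ↥(W a.1))
        (fun a => (Perm.sign).comp (W a.1).subtype)) with hK
    have hmap : K.map φ = (⨆ a ∈ E, W a) ⊓ alternatingGroup α := by
      ext g
      rw [Subgroup.mem_map, Subgroup.mem_inf, Perm.mem_alternatingGroup]
      constructor
      · rintro ⟨x, hx, rfl⟩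
        refine ⟨by rw [← hrange]; exact ⟨x, rfl⟩, ?_⟩
        rw [hsign]
        exact hx
      · rintro ⟨hg1, hg2⟩
        rw [← hrange] at hg1
        obtain ⟨x, rfl⟩ := hg1
        refine ⟨x, ?_, rfl⟩
        rw [hsign] at hg2
        exact hg2
    exact ⟨(K.equivMapOfInjective φ hinj).trans (MulEquiv.subgroupCongr hmap)⟩

end Cfsg.Agent.Lib.Helper83.SylAlt
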