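import Mathlib
import Cfsg.Agent.Lib.Helper6.SzCh.Asm
import Cfsg.Agent.Lib.Helper41.SzCov.Defs

/-!
helper83: sub-lemma `st_K` of module SZCOV-[NC-VALUES] of helper41's project SZCOV (S2457):
the Steinberg character `St = Ind_B^G 1 - 1` of a group with Suzuki data takes the value `1` on `K \ 1`.
-/

set_option autoImplicit false
set_option linter.unusedSectionVars false

namespace Cfsg.Agent.Lib.Helper83.SzCov

open Cfsg Cfsg.Agent.Lib.Helper6.SzCh Cfsg.Agent.Lib.Helper78 Cfsg.Agent.Lib.Helper75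
open Cfsg.Agent.Lib.Helper65.SzCh Cfsg.Agent.Lib.Helper25.SzCh
open scoped ComplexConjugate Classical

universe u

variable {G : Type u} [Group G]

/-- the multiplicity of a character `λ` of `B/Q` in the restriction of `St = Ind 1 - 1` to `B` -/
theorem st_res_inner [Fintype G] (D : SzData G) [Fintype ↥D.B] (St : IrrCharacter G)
    (hind : indFun D.B (fun _ => 1) = (ncOne G).1 + St.1) {lam : ↥D.B → ℂ} (hl : IsLinQ D lam) :
    classInner (resB D St.1) lam = if lam = (fun _ => 1) then 1 else 0 := by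
  have h1 : classInner (resB D St.1) lam = classInner St.1 (indFun D.B lam) := by
    rw [frobenius_reciprocity' D.B lam (isClassFunction_irr St)]
    rfl
  have h2 : classInner (ncOne G).1 (indFun D.B lam) =
      if (fun _ : ↥D.B => (1 : ℂ)) = lam then 1 else 0 := by
    rw [frobenius_reciprocity' D.B lam (isClassFunction_irr (ncOne G))]
    exact classInner_irr (isLinQ_one D).1 hl.1
  have h3 := nc_ind_lin_inner D (isLinQ_one D) hl
  rw [hind, classInner_add_left, h2, nc_conj_one D] at h3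
  rw [h1]
  have h4 : classInner St.1 (indFun D.B lam) = if lam = (fun _ => 1) then 1 else 0 := by
    linear_combination h3
  exact h4

/-- **SZCOV-[NC-VALUES], sub-lemma**: `St = 1` on `K \ 1` -/
theorem st_K [Fintype G] (D : SzData G) [Fintype ↥D.B] (St : IrrCharacter G)
    (hne : St ≠ Cfsg.Agent.Lib.Helper65.SzCh.ncOne G)
    (hind : indFun D.B (fun _ => 1) = (Cfsg.Agent.Lib.Helper65.SzCh.ncOne G).1 + St.1) :
    ∀ k ∈ D.K, k ≠ 1 → (St : G → ℂ) k = 1 := by
  intro k hk hk1
  obtain ⟨T⟩ := Cfsg.Agent.Lib.Helper73.SzCh.exists_bTable D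
  have hkB : k ∈ D.B := D.K_le hk
  have hkQ : k ∉ D.Q := fun hQ => hk1 (Cfsg.Agent.Lib.Helper45.SzCh.eq_one_of_mem_Q_K D hQ hk)
  have hres : IsCharacter ↥D.B (resB D St.1) :=
    Cfsg.Agent.Lib.Helper80.isCharacter_restrict D.B
      (Cfsg.Agent.Lib.Helper80.isCharacter_of_isIrr St.2)
  have hsum := IsCharacter.eq_sum_irr hres
  have hx : St.1 k = ∑ ψ : IrrCharacter ↥D.B,
      classInner (resB D St.1) (ψ : ↥D.B → ℂ) * (ψ : ↥D.B → ℂ) ⟨k, hkB⟩ := by
    have := congrFun hsum ⟨k, hkB⟩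
    rw [Finset.sum_apply] at this
    simpa [resB] using this
  rw [hx, Finset.sum_eq_single (⟨fun _ => 1, (isLinQ_one D).1⟩ : IrrCharacter ↥D.B)]
  · rw [st_res_inner D St hind (isLinQ_one D), if_pos rfl]
    simp
  · intro ψ _ hψ
    rcases T.complete ψ.1 ψ.2 with h | h | h | h
    · rw [st_res_inner D St hind h, if_neg (fun h' => hψ (Subtype.ext h')), zero_mul]
    · rw [h, T.φ_off _ hkQ, mul_zero]
    · rw [h, T.ψ₁_off _ hkQ, mul_zero]
    · rw [h, T.ψ₂_off _ hkQ, mul_zero]
  · intro h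
    exact absurd (Finset.mem_univ _) h

end Cfsg.Agent.Lib.Helper83.SzCov
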