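/-
helper83: in dimension at least 3 all transvection subgroups `T(v, φ)` of `SL(ι, k)` are conjugate.
-/
import Cfsg.Agent.Lib.Helper83.Transv
import Cfsg.Agent.Lib.Helper43.TransvectionConj

set_option autoImplicit false

namespace Cfsg.Agent.Lib.Helper83

open Matrix Module

section

variable {k : Type*} [Field k] {ι : Type*} [Fintype ι] [DecidableEq ι]

lemma toLin'_vecMulVec_apply (v φ x : ι → k) :
    Matrix.toLin' (vecMulVec v φ) x = (φ ⬝ᵥ x) • v := by
  rw [Matrix.toLin'_apply, vecMulVec_mulVec]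
  simp

lemma finrank_range_vecMulVec {v φ : ι → k} (hv : v ≠ 0) (hφ : φ ≠ 0) :
    finrank k (LinearMap.range (Matrix.toLin' (vecMulVec v φ))) = 1 := by
  have hrange : LinearMap.range (Matrix.toLin' (vecMulVec v φ)) = Submodule.span k {v} := by
    apply le_antisymm
    · rintro _ ⟨x, rfl⟩
      rw [toLin'_vecMulVec_apply]
      exact Submodule.smul_mem _ _ (Submodule.mem_span_singleton_self v)
    · rw [Submodule.span_singleton_le_iff_mem]
      obtain ⟨j, hj⟩ : ∃ j, φ j ≠ 0 := by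
        by_contra hcon
        push Not at hcon
        exact hφ (funext hcon)
      refine ⟨(φ j)⁻¹ • Pi.single j 1, ?_⟩
      rw [toLin'_vecMulVec_apply, dotProduct_smul, dotProduct_single, mul_one, smul_eq_mul,
        inv_mul_cancel₀ hj, one_smul]
  rw [hrange]
  exact finrank_span_singleton hv

lemma toLin'_vecMulVec_sq {v φ : ι → k} (h : φ ⬝ᵥ v = 0) :
    (Matrix.toLin' (vecMulVec v φ) : Module.End k (ι → k)) * Matrix.toLin' (vecMulVec v φ) = 0 := by
  rw [Module.End.mul_eq_comp, ← Matrix.toLin'_mul, vecMulVec_mul_vecMulVec, h]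
  simp

/-- In dimension at least 3 the special linear group is transitive on the rank one square-zero
matrices `v φᵀ`. -/
lemma exists_conj_vecMulVec (h3 : 3 ≤ Fintype.card ι) {v φ v' φ' : ι → k} (h : φ ⬝ᵥ v = 0)
    (h' : φ' ⬝ᵥ v' = 0) (hv : v ≠ 0) (hφ : φ ≠ 0) (hv' : v' ≠ 0) (hφ' : φ' ≠ 0) :
    ∃ g : SpecialLinearGroup ι k,
      (g : Matrix ι ι k) * vecMulVec v φ * ((g⁻¹ : SpecialLinearGroup ι k) : Matrix ι ι k) =
        vecMulVec v' φ' := by
  have hdim : 3 ≤ finrank k (ι → k) := by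
    rw [Module.finrank_fintype_fun_eq_card]; exact h3
  obtain ⟨P, hdet, hP⟩ := Cfsg.Agent.Lib.Helper43.rankOne_conj_det_one
    (Matrix.toLin' (vecMulVec v φ)) (Matrix.toLin' (vecMulVec v' φ'))
    (finrank_range_vecMulVec hv hφ) (toLin'_vecMulVec_sq h)
    (finrank_range_vecMulVec hv' hφ') (toLin'_vecMulVec_sq h') hdim
  refine ⟨⟨LinearMap.toMatrix' P, by rw [LinearMap.det_toMatrix']; exact hdet⟩, ?_⟩
  have hmat : LinearMap.toMatrix' P * vecMulVec v φ = vecMulVec v' φ' * LinearMap.toMatrix' P := by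
    have := congrArg LinearMap.toMatrix' hP
    rw [Module.End.mul_eq_comp, Module.End.mul_eq_comp, LinearMap.toMatrix'_comp,
      LinearMap.toMatrix'_comp, LinearMap.toMatrix'_toLin', LinearMap.toMatrix'_toLin'] at this
    exact this
  set g : SpecialLinearGroup ι k :=
    ⟨LinearMap.toMatrix' P, by rw [LinearMap.det_toMatrix']; exact hdet⟩ with hg
  change (g : Matrix ι ι k) * vecMulVec v φ * ((g⁻¹ : SpecialLinearGroup ι k) : Matrix ι ι k) = _
  have hmat' : (g : Matrix ι ι k) * vecMulVec v φ = vecMulVec v' φ' * (g : Matrix ι ι k) := hmat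
  rw [hmat', Matrix.mul_assoc, coe_mul_coe_inv, Matrix.mul_one]

/-- In dimension at least 3 all transvection subgroups are conjugate. -/
lemma tvSub_conj (h3 : 3 ≤ Fintype.card ι) {v φ v' φ' : ι → k} (h : φ ⬝ᵥ v = 0)
    (h' : φ' ⬝ᵥ v' = 0) (hv : v ≠ 0) (hφ : φ ≠ 0) (hv' : v' ≠ 0) (hφ' : φ' ≠ 0) :
    ∃ g : SpecialLinearGroup ι k, tvSub v' φ' h' = Cfsg.conjBy (tvSub v φ h) g := by
  obtain ⟨g, hg⟩ := exists_conj_vecMulVec h3 h h' hv hφ hv' hφ'
  refine ⟨g, ?_⟩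
  rw [conjBy_tvSub]
  apply tvSub_congr
  rw [← hg, ← mul_vecMulVec, ← vecMulVec_mul, Matrix.mul_assoc]

/-- In dimension at least 3 all transvections `1 + v φᵀ` are conjugate. -/
lemma tvE_conj (h3 : 3 ≤ Fintype.card ι) {v φ v' φ' : ι → k} (h : φ ⬝ᵥ v = 0)
    (h' : φ' ⬝ᵥ v' = 0) (hv : v ≠ 0) (hφ : φ ≠ 0) (hv' : v' ≠ 0) (hφ' : φ' ≠ 0) :
    ∃ g : SpecialLinearGroup ι k, ∀ c : k, tvE v' φ' h' c = g * tvE v φ h c * g⁻¹ := by
  obtain ⟨g, hg⟩ := exists_conj_vecMulVec h3 h h' hv hφ hv' hφ'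
  refine ⟨g, fun c => ?_⟩
  rw [conj_tvE]
  apply Subtype.ext
  rw [coe_tvE, coe_tvE, ← hg, ← mul_vecMulVec, ← vecMulVec_mul, Matrix.mul_assoc]

end

end Cfsg.Agent.Lib.Helper83
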