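/-
helper83: transvection subgroups of `SL(ι, k)` with parameters restricted to the image of a subfield
`i : L →+* k`, and the homomorphism `SL₂(L) → SL(ι, k)` onto the group generated by two of them.
-/
import Cfsg.Agent.Lib.Helper83.TransvSL2

set_option autoImplicit false

namespace Cfsg.Agent.Lib.Helper83

open Matrix

section

variable {L : Type*} [Field L] {k : Type*} [Field k] {ι : Type*} [Fintype ι] [DecidableEq ι]

/-- The transvection subgroup `{1 + i(t) • v φᵀ : t ∈ L}`. -/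
def tvSubR (i : L →+* k) (v φ : ι → k) (h : φ ⬝ᵥ v = 0) : Subgroup (SpecialLinearGroup ι k) where
  carrier := {s | ∃ t : L, s = tvE v φ h (i t)}
  one_mem' := ⟨0, by rw [map_zero, tvE_zero]⟩
  mul_mem' := by
    rintro _ _ ⟨a, rfl⟩ ⟨b, rfl⟩
    exact ⟨a + b, by rw [map_add, tvE_add]⟩
  inv_mem' := by
    rintro _ ⟨a, rfl⟩
    exact ⟨-a, by rw [map_neg, tvE_neg]⟩

lemma mem_tvSubR {i : L →+* k} {v φ : ι → k} {h : φ ⬝ᵥ v = 0} {s : SpecialLinearGroup ι k} :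
    s ∈ tvSubR i v φ h ↔ ∃ t : L, s = tvE v φ h (i t) := Iff.rfl

lemma tvSubR_le (i : L →+* k) (v φ : ι → k) (h : φ ⬝ᵥ v = 0) : tvSubR i v φ h ≤ tvSub v φ h := by
  rintro _ ⟨t, rfl⟩
  exact tvE_mem v φ h (i t)

/-- The map `SL₂(L) → SL₂(k)` sends `U t` to `U (i t)`. -/
lemma map_U (i : L →+* k) (t : L) :
    SpecialLinearGroup.map i (Cfsg.Agent.S5016.U t) = Cfsg.Agent.S5016.U (i t) := by
  apply Cfsg.Agent.S5016.sl2_ext <;>
    simp [Cfsg.Agent.S5016.coe_U, SpecialLinearGroup.map_apply_coe, RingHom.mapMatrix_apply]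

lemma map_L (i : L →+* k) (t : L) :
    SpecialLinearGroup.map i (Cfsg.Agent.S5016.L t) = Cfsg.Agent.S5016.L (i t) := by
  apply Cfsg.Agent.S5016.sl2_ext <;>
    simp [Cfsg.Agent.S5016.coe_L, SpecialLinearGroup.map_apply_coe, RingHom.mapMatrix_apply]

lemma slMap_injective (i : L →+* k) {n : Type*} [Fintype n] [DecidableEq n] :
    Function.Injective (SpecialLinearGroup.map (n := n) i) := by
  intro g g' hgg'
  ext a b
  have h1 := congrArg (fun s : SpecialLinearGroup n k => (s : Matrix n n k) a b) hgg'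
  simp only [SpecialLinearGroup.map_apply_coe, RingHom.mapMatrix_apply, Matrix.map_apply] at h1
  exact i.injective h1

/-- The homomorphism `SL₂(L) → SL(ι, k)` attached to dual pairs and the subfield `L`. -/
noncomputable def sl2HomR (i : L →+* k) (v w ψ φ : ι → k) (h11 : ψ ⬝ᵥ v = 1) (h12 : ψ ⬝ᵥ w = 0)
    (h21 : φ ⬝ᵥ v = 0) (h22 : φ ⬝ᵥ w = 1) :
    SpecialLinearGroup (Fin 2) L →* SpecialLinearGroup ι k :=
  (sl2Hom v w ψ φ h11 h12 h21 h22).comp (SpecialLinearGroup.map i)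

lemma sl2HomR_injective (i : L →+* k) (v w ψ φ : ι → k) (h11 : ψ ⬝ᵥ v = 1) (h12 : ψ ⬝ᵥ w = 0)
    (h21 : φ ⬝ᵥ v = 0) (h22 : φ ⬝ᵥ w = 1) :
    Function.Injective (sl2HomR i v w ψ φ h11 h12 h21 h22) :=
  (sl2Hom_injective v w ψ φ h11 h12 h21 h22).comp (slMap_injective i)

lemma sl2HomR_U (i : L →+* k) (v w ψ φ : ι → k) (h11 : ψ ⬝ᵥ v = 1) (h12 : ψ ⬝ᵥ w = 0)
    (h21 : φ ⬝ᵥ v = 0) (h22 : φ ⬝ᵥ w = 1) (t : L) :
    sl2HomR i v w ψ φ h11 h12 h21 h22 (Cfsg.Agent.S5016.U t) = tvE v φ h21 (i t) := by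
  change sl2Hom v w ψ φ h11 h12 h21 h22 (SpecialLinearGroup.map i (Cfsg.Agent.S5016.U t)) = _
  rw [map_U, sl2Hom_U]

lemma sl2HomR_L (i : L →+* k) (v w ψ φ : ι → k) (h11 : ψ ⬝ᵥ v = 1) (h12 : ψ ⬝ᵥ w = 0)
    (h21 : φ ⬝ᵥ v = 0) (h22 : φ ⬝ᵥ w = 1) (t : L) :
    sl2HomR i v w ψ φ h11 h12 h21 h22 (Cfsg.Agent.S5016.L t) = tvE w ψ h12 (i t) := by
  change sl2Hom v w ψ φ h11 h12 h21 h22 (SpecialLinearGroup.map i (Cfsg.Agent.S5016.L t)) = _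
  rw [map_L, sl2Hom_L]

lemma map_upper_R (i : L →+* k) (v w ψ φ : ι → k) (h11 : ψ ⬝ᵥ v = 1) (h12 : ψ ⬝ᵥ w = 0)
    (h21 : φ ⬝ᵥ v = 0) (h22 : φ ⬝ᵥ w = 1) :
    (Cfsg.upperUnipotentSL2 L).map (sl2HomR i v w ψ φ h11 h12 h21 h22) = tvSubR i v φ h21 := by
  ext s
  rw [Subgroup.mem_map, mem_tvSubR]
  constructor
  · rintro ⟨g, hg, rfl⟩
    obtain ⟨t, rfl⟩ := Cfsg.Agent.S5016.mem_upper_iff.mp hg
    exact ⟨t, sl2HomR_U i v w ψ φ h11 h12 h21 h22 t⟩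
  · rintro ⟨t, rfl⟩
    exact ⟨_, Cfsg.Agent.S5016.U_mem t, sl2HomR_U i v w ψ φ h11 h12 h21 h22 t⟩

lemma map_lower_R (i : L →+* k) (v w ψ φ : ι → k) (h11 : ψ ⬝ᵥ v = 1) (h12 : ψ ⬝ᵥ w = 0)
    (h21 : φ ⬝ᵥ v = 0) (h22 : φ ⬝ᵥ w = 1) :
    (Cfsg.lowerUnipotentSL2 L).map (sl2HomR i v w ψ φ h11 h12 h21 h22) = tvSubR i w ψ h12 := by
  ext s
  rw [Subgroup.mem_map, mem_tvSubR]
  constructor
  · rintro ⟨g, hg, rfl⟩
    obtain ⟨t, rfl⟩ := Cfsg.Agent.S5016.mem_lower_iff.mp hg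
    exact ⟨t, sl2HomR_L i v w ψ φ h11 h12 h21 h22 t⟩
  · rintro ⟨t, rfl⟩
    exact ⟨_, Cfsg.Agent.S5016.L_mem t, sl2HomR_L i v w ψ φ h11 h12 h21 h22 t⟩

/-- Dual pairs give a rank one pair of restricted transvection subgroups, a `PSL₂`-pair over `L`. -/
lemma tvSubR_rankOne_normalised (i : L →+* k) (v w ψ φ : ι → k) (h11 : ψ ⬝ᵥ v = 1)
    (h12 : ψ ⬝ᵥ w = 0) (h21 : φ ⬝ᵥ v = 0) (h22 : φ ⬝ᵥ w = 1) :
    Cfsg.IsRankOnePair (tvSubR i v φ h21) (tvSubR i w ψ h12) ∧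
      Cfsg.IsPSL2PairOver L (tvSubR i v φ h21) (tvSubR i w ψ h12) := by
  have hinj := sl2HomR_injective i v w ψ φ h11 h12 h21 h22
  have hU := map_upper_R i v w ψ φ h11 h12 h21 h22
  have hL := map_lower_R i v w ψ φ h11 h12 h21 h22
  constructor
  · have hne : (Cfsg.lowerUnipotentSL2 L).map (sl2HomR i v w ψ φ h11 h12 h21 h22) ≠
        (Cfsg.upperUnipotentSL2 L).map (sl2HomR i v w ψ φ h11 h12 h21 h22) := by
      intro heq
      exact Cfsg.Agent.S5016.lower_ne_upper (Subgroup.map_injective hinj heq)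
    have := Cfsg.Agent.S5035.map_rankOnePair (sl2HomR i v w ψ φ h11 h12 h21 h22)
      (Cfsg.Agent.S5016.rankOnePair (k := L)) hne
    rw [hU, hL] at this
    exact Cfsg.RankOnePair_symm this
  · refine ⟨sl2HomR i v w ψ φ h11 h12 h21 h22, ?_, ?_, hU, hL⟩
    · rw [MonoidHom.range_eq_map, ← Cfsg.Agent.S5016.sup_eq_top, Subgroup.map_sup, hU, hL, sup_comm]
    · rw [(MonoidHom.ker_eq_bot_iff _).mpr hinj]
      exact bot_le

end

end Cfsg.Agent.Lib.Helper83
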