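/-
helper83: unitary transvection subgroups `T(p) = {1 + c • p p̄ᵀ : c^q = -c}` of `SL(n, F)`,
`|F| = q²`, for isotropic `p`: membership in `SU`, conjugation, commuting pairs, rank one pairs
(images of `SL₂(L)` for a field `L` mapping onto the fixed field of `x ↦ x^q`).
-/
import Cfsg.Agent.Lib.Helper83.TransvSub
import Cfsg.Agent.Lib.Helper83.Pullback
import Cfsg.Agent.Lib.Helper83.NilSeries
import Cfsg.Agent.Lib.Helper5.UnitaryGroup
import Cfsg.Agent.Lib.Helper5.UnitarySU2b

set_option autoImplicit false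

namespace Cfsg.Agent.Lib.Helper83

open Matrix Cfsg
open Cfsg.Agent.Lib.Helper5

section Field

variable {F : Type*} [Field F] [Fintype F] {q : ℕ}

lemma q_ne_zero_of_card (hF : Fintype.card F = q ^ 2) : q ≠ 0 := by
  have := two_le_of_card_eq_sq hF
  omega

lemma not_forall_fixed (hF : Fintype.card F = q ^ 2) : ¬ ∀ x : F, x ^ q = x := by
  intro hall
  have hcard := card_fixed hF
  have h1 : Nat.card {x : F // x ^ q = x} = Nat.card F :=
    Nat.card_congr (Equiv.subtypeUnivEquiv hall)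
  rw [hcard, Nat.card_eq_fintype_card, hF] at h1
  have h2 := two_le_of_card_eq_sq hF
  nlinarith

/-- A non-zero element of trace zero. -/
lemma exists_skew (hF : Fintype.card F = q ^ 2) : ∃ e : F, e ≠ 0 ∧ e ^ q = -e := by
  by_contra hne
  push Not at hne
  apply not_forall_fixed hF
  intro x
  by_contra hx
  apply hne (x - x ^ q) (sub_ne_zero.mpr (Ne.symm hx))
  rw [sub_pow_q hF, pow_q_pow_q hF]
  ring

lemma exists_trace_ne_zero (hF : Fintype.card F = q ^ 2) : ∃ x : F, x + x ^ q ≠ 0 := by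
  by_contra hne
  push Not at hne
  apply not_forall_fixed hF
  have h1 := hne 1
  rw [one_pow] at h1
  intro x
  have h2 : x + x = 0 := by
    calc x + x = x * (1 + 1) := by ring
      _ = 0 := by rw [h1, mul_zero]
  have h3 := hne x
  linear_combination h3 - h2

/-- The trace `t ↦ t + t^q` is onto the fixed field. -/
lemma exists_trace_eq (hF : Fintype.card F = q ^ 2) {d : F} (hd : d ^ q = d) :
    ∃ t : F, t + t ^ q = d := by
  obtain ⟨x, hx⟩ := exists_trace_ne_zero hF
  have hT : (x + x ^ q) ^ q = x + x ^ q := by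
    rw [add_pow_q hF, pow_q_pow_q hF]
    ring
  refine ⟨d * x / (x + x ^ q), ?_⟩
  rw [div_pow, mul_pow, hd, hT]
  field_simp

end Field

section Transv

variable {F : Type*} [Field F] [Fintype F] {q n : ℕ}

/-- The conjugate vector `p̄ = (pⱼ^q)`. -/
def cvec (q : ℕ) (p : Fin n → F) : Fin n → F := fun j => p j ^ q

omit [Fintype F] in
lemma cvec_dot (p v : Fin n → F) : cvec q p ⬝ᵥ v = hermForm n F q v p := by
  rw [hermForm_eq_dot, dotProduct_comm]
  rfl

lemma cvec_ne_zero (hF : Fintype.card F = q ^ 2) {p : Fin n → F} (hp : p ≠ 0) : cvec q p ≠ 0 := by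
  intro h
  apply hp
  ext j
  have h1 : p j ^ q = 0 := congrFun h j
  exact (pow_eq_zero_iff (q_ne_zero_of_card hF)).mp h1

omit [Fintype F] in
/-- Non-degeneracy: a non-zero vector has non-zero product with some basis vector. -/
lemma exists_hermForm_ne_zero {p : Fin n → F} (hp : p ≠ 0) :
    ∃ i : Fin n, p i ≠ 0 ∧ hermForm n F q (Pi.single i 1) p ≠ 0 := by
  have : ∃ i, p i ≠ 0 := by
    by_contra h
    push Not at h
    exact hp (funext h)
  obtain ⟨i, hi⟩ := this
  refine ⟨i, hi, ?_⟩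
  rw [hermForm_single_left, one_mul]
  exact pow_ne_zero _ hi

/-- The unitary transvection `x ↦ x + c h(x, p) p`. -/
def utE (p : Fin n → F) (hp : hermForm n F q p p = 0) (c : F) : SpecialLinearGroup (Fin n) F :=
  tvE p (cvec q p) ((cvec_dot p p).trans hp) c

omit [Fintype F] in
lemma coe_utE (p : Fin n → F) (hp : hermForm n F q p p = 0) (c : F) :
    ((utE p hp c : SpecialLinearGroup (Fin n) F) : Matrix (Fin n) (Fin n) F) = qrefl q p c := rfl

omit [Fintype F] in
lemma utE_mulVec (p : Fin n → F) (hp : hermForm n F q p p = 0) (c : F) (x : Fin n → F) :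
    ((utE p hp c : SpecialLinearGroup (Fin n) F) : Matrix (Fin n) (Fin n) F) *ᵥ x =
      x + (c * hermForm n F q x p) • p := by
  rw [coe_utE, qrefl_mulVec]

/-- The group of unitary transvections with centre `p`. -/
def utSub (hF : Fintype.card F = q ^ 2) (p : Fin n → F) (hp : hermForm n F q p p = 0) :
    Subgroup (SpecialLinearGroup (Fin n) F) where
  carrier := {s | ∃ c : F, c ^ q = -c ∧ s = utE p hp c}
  one_mem' := ⟨0, by rw [zero_pow (q_ne_zero_of_card hF), neg_zero], (tvE_zero _ _ _).symm⟩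
  mul_mem' := by
    rintro _ _ ⟨a, ha, rfl⟩ ⟨b, hb, rfl⟩
    refine ⟨a + b, ?_, (tvE_add _ _ _ a b).symm⟩
    rw [add_pow_q hF, ha, hb]
    ring
  inv_mem' := by
    rintro _ ⟨a, ha, rfl⟩
    refine ⟨-a, ?_, (tvE_neg _ _ _ a).symm⟩
    rw [neg_pow_q hF, ha]

lemma mem_utSub {hF : Fintype.card F = q ^ 2} {p : Fin n → F} {hp : hermForm n F q p p = 0}
    {s : SpecialLinearGroup (Fin n) F} :
    s ∈ utSub hF p hp ↔ ∃ c : F, c ^ q = -c ∧ s = utE p hp c := Iff.rfl

lemma utE_mem_SU (hF : Fintype.card F = q ^ 2) (p : Fin n → F) (hp : hermForm n F q p p = 0)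
    {c : F} (hc : c ^ q = -c) : utE p hp c ∈ SU n F q := by
  intro u v
  change hermForm n F q (qrefl q p c *ᵥ u) (qrefl q p c *ᵥ v) = hermForm n F q u v
  apply qrefl_preserves hF
  rw [hc, hp]
  ring

lemma utSub_le_SU (hF : Fintype.card F = q ^ 2) (p : Fin n → F) (hp : hermForm n F q p p = 0) :
    utSub hF p hp ≤ SU n F q := by
  rintro _ ⟨c, hc, rfl⟩
  exact utE_mem_SU hF p hp hc

lemma utSub_le_tvSub (hF : Fintype.card F = q ^ 2) (p : Fin n → F) (hp : hermForm n F q p p = 0) :
    utSub hF p hp ≤ tvSub p (cvec q p) ((cvec_dot p p).trans hp) := by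
  rintro _ ⟨c, _, rfl⟩
  exact tvE_mem _ _ _ c

lemma utSub_isMulCommutative (hF : Fintype.card F = q ^ 2) (p : Fin n → F)
    (hp : hermForm n F q p p = 0) : IsMulCommutative (utSub hF p hp) := by
  refine ⟨⟨?_⟩⟩
  rintro ⟨_, a, _, rfl⟩ ⟨_, b, _, rfl⟩
  apply Subtype.ext
  change utE p hp a * utE p hp b = utE p hp b * utE p hp a
  unfold utE
  rw [← tvE_add, ← tvE_add, add_comm]

lemma utSub_ne_bot (hF : Fintype.card F = q ^ 2) {p : Fin n → F} (hp0 : p ≠ 0)
    (hp : hermForm n F q p p = 0) : utSub hF p hp ≠ ⊥ := by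
  intro hbot
  obtain ⟨e, he0, he⟩ := exists_skew hF
  have h1 : utE p hp e ∈ utSub hF p hp := ⟨e, he, rfl⟩
  rw [hbot, Subgroup.mem_bot] at h1
  exact he0 ((tvE_eq_one_iff hp0 (cvec_ne_zero hF hp0)).mp h1)

/-- Commuting: perpendicular centres. -/
lemma utSub_comm (hF : Fintype.card F = q ^ 2) {p r : Fin n → F} (hp : hermForm n F q p p = 0)
    (hr : hermForm n F q r r = 0) (hpr : hermForm n F q p r = 0) :
    ⁅utSub hF p hp, utSub hF r hr⁆ = ⊥ := by
  have hrp : hermForm n F q r p = 0 := by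
    rw [← hermForm_conj hF, hpr, zero_pow (q_ne_zero_of_card hF)]
  apply commutator_eq_bot_of_forall_mul_comm
  rintro _ ⟨a, _, rfl⟩ _ ⟨b, _, rfl⟩
  exact tvE_commute _ _ ((cvec_dot p r).trans hrp) ((cvec_dot r p).trans hpr) a b

omit [Fintype F] in
/-- Conjugation by a unitary matrix. -/
lemma conj_utE {g : SpecialLinearGroup (Fin n) F}
    (hg : g ∈ SU n F q) (p : Fin n → F) (hp : hermForm n F q p p = 0) (c : F) :
    g * utE p hp c * g⁻¹ =
      utE ((g : Matrix (Fin n) (Fin n) F) *ᵥ p) ((hg p p).trans hp) c := by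
  rw [mul_inv_eq_iff_eq_mul]
  apply Subtype.ext
  change (g : Matrix (Fin n) (Fin n) F) * (utE p hp c : SpecialLinearGroup (Fin n) F).1 =
    (utE ((g : Matrix (Fin n) (Fin n) F) *ᵥ p) ((hg p p).trans hp) c :
      SpecialLinearGroup (Fin n) F).1 * (g : Matrix (Fin n) (Fin n) F)
  rw [Matrix.ext_iff_mulVec]
  intro x
  rw [← mulVec_mulVec, ← mulVec_mulVec]
  have e1 := utE_mulVec p hp c x
  have e2 := utE_mulVec ((g : Matrix (Fin n) (Fin n) F) *ᵥ p) ((hg p p).trans hp) c
    ((g : Matrix (Fin n) (Fin n) F) *ᵥ x)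
  rw [e1, e2, mulVec_add, mulVec_smul]
  congr 2
  exact (congrArg (c * ·) (hg x p)).symm

lemma conjBy_utSub (hF : Fintype.card F = q ^ 2) {g : SpecialLinearGroup (Fin n) F}
    (hg : g ∈ SU n F q) (p : Fin n → F) (hp : hermForm n F q p p = 0) :
    Cfsg.conjBy (utSub hF p hp) g =
      utSub hF ((g : Matrix (Fin n) (Fin n) F) *ᵥ p) ((hg p p).trans hp) := by
  ext s
  rw [mem_conjBy]
  constructor
  · rintro ⟨c, hc, hs⟩
    refine ⟨c, hc, ?_⟩
    rw [← conj_utE hg p hp c, ← hs]
    group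
  · rintro ⟨c, hc, rfl⟩
    refine ⟨c, hc, ?_⟩
    rw [← conj_utE hg p hp c]
    group


omit [Fintype F] in
/-- The unitary transvections satisfy the two defining conditions. -/
lemma utE_cond (p : Fin n → F) (hp : hermForm n F q p p = 0) (c : F) :
    (∀ v : Fin n → F, ∃ c' : F,
      ((utE p hp c : SpecialLinearGroup (Fin n) F) : Matrix (Fin n) (Fin n) F) *ᵥ v = v + c' • p) ∧
    ∀ v : Fin n → F, hermForm n F q v p = 0 →
      ((utE p hp c : SpecialLinearGroup (Fin n) F) : Matrix (Fin n) (Fin n) F) *ᵥ v = v := by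
  constructor
  · intro v
    exact ⟨_, utE_mulVec p hp c v⟩
  · intro v hv
    rw [utE_mulVec, hv, mul_zero, zero_smul, add_zero]

/-- An element of `SU` moving every vector by a multiple of `p` and fixing the vectors perpendicular
to `p` is a unitary transvection with centre `p`. -/
lemma mem_utSub_of_cond (hF : Fintype.card F = q ^ 2) {p : Fin n → F} (hp0 : p ≠ 0)
    (hp : hermForm n F q p p = 0) {g : SpecialLinearGroup (Fin n) F} (hg : g ∈ SU n F q)
    (h1 : ∀ v : Fin n → F, ∃ c : F, (g : Matrix (Fin n) (Fin n) F) *ᵥ v = v + c • p)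
    (h2 : ∀ v : Fin n → F, hermForm n F q v p = 0 → (g : Matrix (Fin n) (Fin n) F) *ᵥ v = v) :
    g ∈ utSub hF p hp := by
  classical
  choose cfun hc using h1
  obtain ⟨i0, hi0, hi0'⟩ := exists_hermForm_ne_zero (q := q) hp0
  set c : Fin n → F := fun j => cfun (Pi.single j 1) with hcdef
  have hM : (g : Matrix (Fin n) (Fin n) F) = 1 + vecMulVec p c := by
    ext a b
    have h3 := congrFun (hc (Pi.single b 1)) a
    rw [mulVec_single_one] at h3
    simp only [Matrix.col_apply, Pi.add_apply, Pi.smul_apply, smul_eq_mul] at h3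
    rw [h3, Matrix.add_apply, vecMulVec_apply, Matrix.one_apply, Pi.single_apply]
    simp only [hcdef, mul_comm]
  have hMv : ∀ v : Fin n → F, (g : Matrix (Fin n) (Fin n) F) *ᵥ v = v + (c ⬝ᵥ v) • p := by
    intro v
    rw [hM, add_mulVec, one_mulVec, vecMulVec_mulVec, op_smul_eq_smul]
  have hpq : p i0 ^ q ≠ 0 := pow_ne_zero _ hi0
  have hcj : ∀ j, c j = (c i0 / p i0 ^ q) * p j ^ q := by
    intro j
    set v : Fin n → F := Pi.single j 1 - (p j ^ q / p i0 ^ q) • Pi.single i0 1 with hv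
    have hvp : hermForm n F q v p = 0 := by
      rw [hv, hermForm_sub_left, hermForm_smul_left, hermForm_single_left, hermForm_single_left]
      field_simp
      ring
    have h4 := h2 v hvp
    rw [hMv v] at h4
    have h5 : (c ⬝ᵥ v) • p = 0 := by
      have := congrArg (fun w => w - v) h4
      simpa using this
    have h6 : c ⬝ᵥ v = 0 := by
      rcases smul_eq_zero.mp h5 with h | h
      · exact h
      · exact absurd h hp0
    rw [hv, dotProduct_sub, dotProduct_smul, dotProduct_single, dotProduct_single, mul_one, mul_one,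
      smul_eq_mul] at h6
    rw [sub_eq_zero] at h6
    rw [h6]
    ring
  set l : F := c i0 / p i0 ^ q with hl
  have hcl : c = l • cvec q p := by
    ext j
    rw [hcj j]
    rfl
  have hgE : g = utE p hp l := by
    apply Subtype.ext
    rw [coe_utE, hM, hcl, vecMulVec_smul]
    rfl
  refine ⟨l, ?_, hgE⟩
  -- unitarity gives `l ^ q = -l`
  have h7 : hermForm n F q ((g : Matrix (Fin n) (Fin n) F) *ᵥ Pi.single i0 1)
      ((g : Matrix (Fin n) (Fin n) F) *ᵥ Pi.single i0 1) =
      hermForm n F q (Pi.single i0 1) (Pi.single i0 1) := hg _ _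
  rw [hgE, utE_mulVec] at h7
  set t : F := hermForm n F q (Pi.single i0 1) p with ht
  have htq : hermForm n F q p (Pi.single i0 1) = t ^ q := (hermForm_conj hF _ _).symm
  rw [hermForm_add_left, hermForm_add_right hF, hermForm_add_right hF, hermForm_smul_left,
    hermForm_smul_left, hermForm_smul_right, hermForm_smul_right, hp, htq, ← ht, mul_pow] at h7
  have h8 : (l ^ q + l) * (t * t ^ q) = 0 := by linear_combination h7
  rcases mul_eq_zero.mp h8 with h | h
  · linear_combination h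
  · exact absurd h (mul_ne_zero hi0' (pow_ne_zero _ hi0'))

/-- The group `T(p)` of unitary transvections with centre `p`, inside `SU`. -/
def TU (F : Type*) [Field F] (q n : ℕ) (p : Fin n → F) : Subgroup ↥(SU n F q) :=
  Subgroup.closure {g : ↥(SU n F q) |
    (∀ v : Fin n → F, ∃ c : F, ((g : SpecialLinearGroup (Fin n) F) : Matrix (Fin n) (Fin n) F) *ᵥ v =
      v + c • p) ∧
    ∀ v : Fin n → F, hermForm n F q v p = 0 →
      ((g : SpecialLinearGroup (Fin n) F) : Matrix (Fin n) (Fin n) F) *ᵥ v = v}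

lemma map_TU (hF : Fintype.card F = q ^ 2) {p : Fin n → F} (hp0 : p ≠ 0)
    (hp : hermForm n F q p p = 0) :
    (TU F q n p).map (SU n F q).subtype = utSub hF p hp := by
  unfold TU
  rw [MonoidHom.map_closure]
  have hset : (SU n F q).subtype '' {g : ↥(SU n F q) |
      (∀ v : Fin n → F, ∃ c : F,
        ((g : SpecialLinearGroup (Fin n) F) : Matrix (Fin n) (Fin n) F) *ᵥ v = v + c • p) ∧
      ∀ v : Fin n → F, hermForm n F q v p = 0 →
        ((g : SpecialLinearGroup (Fin n) F) : Matrix (Fin n) (Fin n) F) *ᵥ v = v} =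
      ((utSub hF p hp : Subgroup (SpecialLinearGroup (Fin n) F)) :
        Set (SpecialLinearGroup (Fin n) F)) := by
    ext s
    constructor
    · rintro ⟨g, ⟨h1, h2⟩, rfl⟩
      exact mem_utSub_of_cond hF hp0 hp g.2 h1 h2
    · rintro ⟨c, hc, rfl⟩
      exact ⟨⟨utE p hp c, utE_mem_SU hF p hp hc⟩, utE_cond p hp c, rfl⟩
  rw [hset, Subgroup.closure_eq]

/-- `T(p)` as a restricted transvection subgroup over a field `L` mapping onto the fixed field. -/
lemma utSub_eq_tvSubR (hF : Fintype.card F = q ^ 2) {L : Type*} [Field L] (i : L →+* F)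
    (hi : ∀ x : F, x ^ q = x ↔ ∃ t : L, i t = x) {p : Fin n → F} (hp : hermForm n F q p p = 0)
    {e a : F} (he0 : e ≠ 0) (he : e ^ q = -e) (ha : a ≠ 0)
    (h' : ((e / a) • cvec q p) ⬝ᵥ (a • p) = 0) :
    utSub hF p hp = tvSubR i (a • p) ((e / a) • cvec q p) h' := by
  have hmat : ∀ t : F, (t * e) • vecMulVec p (cvec q p) =
      t • vecMulVec (a • p) ((e / a) • cvec q p) := by
    intro t
    rw [smul_vecMulVec, vecMulVec_smul, smul_smul, smul_smul]
    congr 1
    field_simp
  ext s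
  rw [mem_utSub, mem_tvSubR]
  constructor
  · rintro ⟨c, hc, rfl⟩
    have hfix : (c / e) ^ q = c / e := by rw [div_pow, hc, he, neg_div_neg_eq]
    obtain ⟨t, ht⟩ := (hi _).mp hfix
    refine ⟨t, Subtype.ext ?_⟩
    change 1 + c • vecMulVec p (cvec q p) = 1 + (i t) • vecMulVec (a • p) ((e / a) • cvec q p)
    rw [← hmat, ht, div_mul_cancel₀ _ he0]
  · rintro ⟨t, rfl⟩
    refine ⟨i t * e, ?_, Subtype.ext ?_⟩
    · rw [mul_pow, he, (hi _).mpr ⟨t, rfl⟩]
      ring
    · change 1 + (i t) • vecMulVec (a • p) ((e / a) • cvec q p) =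
        1 + (i t * e) • vecMulVec p (cvec q p)
      rw [hmat]

/-- Two unitary transvection subgroups with non-perpendicular centres form a rank one pair, the
image of the unitriangular subgroups of `SL₂(L)`. -/
lemma utSub_rankOne (hF : Fintype.card F = q ^ 2) {L : Type*} [Field L] (i : L →+* F)
    (hi : ∀ x : F, x ^ q = x ↔ ∃ t : L, i t = x) {p r : Fin n → F}
    (hp : hermForm n F q p p = 0) (hr : hermForm n F q r r = 0) (hpr : hermForm n F q p r ≠ 0) :
    Cfsg.IsRankOnePair (utSub hF p hp) (utSub hF r hr) ∧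
      Cfsg.IsPSL2PairOver L (utSub hF p hp) (utSub hF r hr) := by
  obtain ⟨e, he0, he⟩ := exists_skew hF
  set x : F := hermForm n F q p r with hx
  have hrp : hermForm n F q r p = x ^ q := (hermForm_conj hF p r).symm
  have hxq : x ^ q ≠ 0 := pow_ne_zero _ hpr
  set μ : F := 1 / (e * x ^ q) with hμ
  set b : F := 1 / (e * x * x ^ q) with hb
  have hμ0 : μ ≠ 0 := one_div_ne_zero (mul_ne_zero he0 hxq)
  have hb0 : b ≠ 0 := one_div_ne_zero (mul_ne_zero (mul_ne_zero he0 hpr) hxq)
  have hbq : b ^ q = -b := by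
    rw [hb, div_pow, one_pow, mul_pow, mul_pow, he, pow_q_pow_q hF]
    field_simp
  have h21 : ((e / 1) • cvec q p) ⬝ᵥ ((1 : F) • p) = 0 := by
    rw [smul_dotProduct, dotProduct_smul, cvec_dot, hp]
    simp
  have h12 : ((b / μ) • cvec q r) ⬝ᵥ (μ • r) = 0 := by
    rw [smul_dotProduct, dotProduct_smul, cvec_dot, hr]
    simp
  have h11 : ((b / μ) • cvec q r) ⬝ᵥ ((1 : F) • p) = 1 := by
    rw [smul_dotProduct, dotProduct_smul, cvec_dot, ← hx, hb, hμ]
    simp only [smul_eq_mul]
    field_simp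
  have h22 : ((e / 1) • cvec q p) ⬝ᵥ (μ • r) = 1 := by
    rw [smul_dotProduct, dotProduct_smul, cvec_dot, hrp, hμ]
    simp only [smul_eq_mul]
    field_simp
  have key := tvSubR_rankOne_normalised i ((1 : F) • p) (μ • r) ((b / μ) • cvec q r)
    ((e / 1) • cvec q p) h11 h12 h21 h22
  rwa [← utSub_eq_tvSubR hF i hi hp he0 he one_ne_zero h21,
    ← utSub_eq_tvSubR hF i hi hr hb0 hbq hμ0 h12] at key

end Transv

section Geometry

variable {F : Type*} [Field F] [Fintype F] {q n : ℕ}

/-- In dimension at least two there is a non-zero isotropic vector. -/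
lemma exists_isotropic (hF : Fintype.card F = q ^ 2) :
    ∃ p : Fin (n + 2) → F, p ≠ 0 ∧ hermForm (n + 2) F q p p = 0 := by
  have hd : (-1 : F) ^ q = -1 := by
    rw [neg_pow_q hF, one_pow]
  obtain ⟨x, hx⟩ := exists_norm_eq hF hd
  refine ⟨Pi.single 0 1 + Pi.single 1 x, ?_, ?_⟩
  · intro h0
    have := congrFun h0 0
    simp at this
  · rw [hermForm_add_left, hermForm_single_left, hermForm_single_left]
    simp only [Pi.add_apply, Pi.single_eq_same]
    have h10 : (Pi.single (1 : Fin (n + 2)) x : Fin (n + 2) → F) 0 = 0 := by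
      simp
    have h01 : (Pi.single (0 : Fin (n + 2)) (1 : F) : Fin (n + 2) → F) 1 = 0 := by
      simp
    rw [h10, h01, add_zero, zero_add, one_pow, one_mul, hx]
    ring

/-- Two perpendicular non-zero vectors, the first isotropic, have a common isotropic non-perpendicular
vector. -/
lemma exists_isotropic_nonperp (hF : Fintype.card F = q ^ 2) {p r : Fin n → F} (hp0 : p ≠ 0)
    (hr0 : r ≠ 0) (hp : hermForm n F q p p = 0) (hpr : hermForm n F q p r = 0) :
    ∃ s : Fin n → F, hermForm n F q s s = 0 ∧ hermForm n F q s p ≠ 0 ∧ hermForm n F q s r ≠ 0 := by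
  obtain ⟨i1, _, h1⟩ := exists_hermForm_ne_zero (q := q) hp0
  obtain ⟨i2, _, h2⟩ := exists_hermForm_ne_zero (q := q) hr0
  have hx : ∃ x : Fin n → F, hermForm n F q x p ≠ 0 ∧ hermForm n F q x r ≠ 0 := by
    by_cases h3 : hermForm n F q (Pi.single i1 1) r = 0
    · by_cases h4 : hermForm n F q (Pi.single i2 1) p = 0
      · refine ⟨Pi.single i1 1 + Pi.single i2 1, ?_, ?_⟩
        · rw [hermForm_add_left, h4, add_zero]; exact h1
        · rw [hermForm_add_left, h3, zero_add]; exact h2
      · exact ⟨_, h4, h2⟩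
    · exact ⟨_, h1, h3⟩
  obtain ⟨x, hxp, hxr⟩ := hx
  have hpx : hermForm n F q p x = hermForm n F q x p ^ q := (hermForm_conj hF x p).symm
  have hpx0 : hermForm n F q p x ≠ 0 := by rw [hpx]; exact pow_ne_zero _ hxp
  have hfix : (-hermForm n F q x x) ^ q = -hermForm n F q x x := by
    rw [neg_pow_q hF, hermForm_conj hF]
  obtain ⟨y, hy⟩ := exists_trace_eq hF hfix
  set t : F := y / hermForm n F q p x with ht
  have hty : t * hermForm n F q p x = y := div_mul_cancel₀ _ hpx0
  refine ⟨x + t • p, ?_, ?_, ?_⟩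
  · rw [hermForm_add_left, hermForm_add_right hF, hermForm_add_right hF, hermForm_smul_left,
      hermForm_smul_left, hermForm_smul_right, hermForm_smul_right, hp]
    have h5 : t ^ q * hermForm n F q x p = y ^ q := by
      rw [← hty, mul_pow, hpx, pow_q_pow_q hF]
    linear_combination hy + h5 + hty
  · rw [hermForm_add_left, hermForm_smul_left, hp, mul_zero, add_zero]
    exact hxp
  · rw [hermForm_add_left, hermForm_smul_left, hpr, mul_zero, add_zero]
    exact hxr

end Geometry

end Cfsg.Agent.Lib.Helper83
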